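import Mathlib.RingTheory.PowerSeries.Exp
import Mathlib.RingTheory.PowerSeries.Substitution
import Mathlib.RingTheory.PowerSeries.Derivative
import Mathlib.Algebra.Polynomial.Laurent

/-!
# Exponentials of formal power series over `ℚ` through logarithmic derivatives
-/

set_option autoImplicit false
open PowerSeries

namespace K815.ExpSum

/-- `w` is a logarithmic derivative of `y`. -/
def LD (y w : PowerSeries ℚ) : Prop := derivative ℚ y = w * y

theorem LD.mul {y z w v : PowerSeries ℚ} (h : LD y w) (h' : LD z v) : LD (y * z) (w + v) := by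
  unfold LD at *
  rw [Derivation.leibniz, h, h', smul_eq_mul, smul_eq_mul]
  ring

theorem LD.one : LD 1 0 := by
  unfold LD
  rw [Derivation.map_one_eq_zero, zero_mul]

theorem LD.pow {y w : PowerSeries ℚ} (h : LD y w) (n : ℕ) : LD (y ^ n) ((n : PowerSeries ℚ) * w) := by
  induction n with
  | zero => simpa using LD.one
  | succ n ih =>
    have := ih.mul h
    rw [pow_succ]
    convert this using 1
    push_cast
    ring

theorem LD.prod {ι : Type*} (s : Finset ι) (y w : ι → PowerSeries ℚ) (h : ∀ i ∈ s, LD (y i) (w i)) :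
    LD (∏ i ∈ s, y i) (∑ i ∈ s, w i) := by
  classical
  induction s using Finset.induction_on with
  | empty => simpa using LD.one
  | insert a s ha ih =>
    rw [Finset.prod_insert ha, Finset.sum_insert ha]
    exact (h a (Finset.mem_insert_self a s)).mul (ih fun i hi => h i (Finset.mem_insert_of_mem hi))

/-- Uniqueness of the solution of `y' = w y` with given constant coefficient. -/
theorem LD.unique {y z w : PowerSeries ℚ} (h : LD y w) (h' : LD z w)
    (h0 : constantCoeff y = constantCoeff z) : y = z := by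
  unfold LD at *
  ext n
  induction n using Nat.strong_induction_on with
  | _ n ih =>
    rcases n with _ | n
    · simpa using h0
    · have h1 := congrArg (coeff n) h
      have h2 := congrArg (coeff n) h'
      rw [coeff_derivative, coeff_mul] at h1 h2
      have h3 : ∑ p ∈ Finset.antidiagonal n, coeff p.1 w * coeff p.2 y =
          ∑ p ∈ Finset.antidiagonal n, coeff p.1 w * coeff p.2 z := by
        refine Finset.sum_congr rfl fun p hp => ?_
        rw [ih p.2 (by have := Finset.mem_antidiagonal.1 hp; omega)]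
      rw [h3, ← h2] at h1
      have h4 : ((n : ℚ) + 1) ≠ 0 := by positivity
      exact mul_right_cancel₀ h4 h1

/-- The geometric series. -/
noncomputable def geo (a : ℚ) : PowerSeries ℚ := mk fun n => a ^ n

theorem geo_mul (a : ℚ) : geo a * (1 - C a * X) = 1 := by
  ext n
  rw [mul_sub, mul_one, map_sub, mul_comm, geo, coeff_mk, ← mul_comm]
  rcases n with _ | n
  · simp
  · have : mk (fun n => a ^ n) * (C a * X) = C a * (mk (fun n => a ^ n) * X) := by ring
    rw [this, coeff_C_mul, coeff_succ_mul_X, coeff_mk, coeff_one]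
    simp [pow_succ, mul_comm]

theorem LD_one_sub (a : ℚ) : LD (1 - C a * X) (-(C a * geo a)) := by
  unfold LD
  have h : derivative ℚ (1 - C a * X) = - C a := by
    rw [map_sub, Derivation.map_one_eq_zero, Derivation.leibniz, derivative_X, derivative_C]
    simp
  rw [h, neg_mul, mul_assoc, geo_mul, mul_one]

theorem LD_exp (g : PowerSeries ℚ) (hg : constantCoeff g = 0) : LD ((exp ℚ).subst g) (derivative ℚ g) := by
  unfold LD
  rw [derivative_subst (HasSubst.of_constantCoeff_zero' hg), derivative_exp, mul_comm]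

theorem constantCoeff_exp_subst (g : PowerSeries ℚ) (hg : constantCoeff g = 0) :
    constantCoeff ((exp ℚ).subst g) = 1 := by
  rw [← coeff_zero_eq_constantCoeff_apply, coeff_subst' (HasSubst.of_constantCoeff_zero' hg)]
  rw [finsum_eq_single _ 0]
  · simp
  · intro n hn
    simp [hg, hn]

theorem main (R : LaurentPolynomial ℤ) (q : ℤ) (hq : 1 < q) :
    (PowerSeries.exp ℚ).subst
        (PowerSeries.mk fun v : ℕ => if v = 0 then (0 : ℚ)
          else (R.coeff.sum fun (n : ℤ) (r : ℤ) => (r : ℚ) * (q : ℚ) ^ (n * (v : ℤ))) / (v : ℚ))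
      * ∏ n ∈ R.coeff.support, (1 - PowerSeries.C ((q : ℚ) ^ n) * PowerSeries.X) ^ (R.coeff n).toNat
    = ∏ n ∈ R.coeff.support, (1 - PowerSeries.C ((q : ℚ) ^ n) * PowerSeries.X) ^ (-(R.coeff n)).toNat := by
  set g : PowerSeries ℚ := PowerSeries.mk fun v : ℕ => if v = 0 then (0 : ℚ)
          else (R.coeff.sum fun (n : ℤ) (r : ℤ) => (r : ℚ) * (q : ℚ) ^ (n * (v : ℤ))) / (v : ℚ) with hgdef
  have hg : constantCoeff g = 0 := by
    rw [← coeff_zero_eq_constantCoeff_apply, hgdef, coeff_mk, if_pos rfl]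
  have hq0 : (q : ℚ) ≠ 0 := by
    have : q ≠ 0 := by omega
    exact_mod_cast this
  have hprod : ∀ e : ℤ → ℕ, LD (∏ n ∈ R.coeff.support, (1 - C ((q : ℚ) ^ n) * X) ^ (e n))
      (∑ n ∈ R.coeff.support, ((e n : ℕ) : PowerSeries ℚ) * (-(C ((q : ℚ) ^ n) * geo ((q : ℚ) ^ n)))) :=
    fun e => LD.prod _ _ _ fun n _ => (LD_one_sub _).pow _
  have hc : ∀ e : ℤ → ℕ, constantCoeff (∏ n ∈ R.coeff.support, (1 - C ((q : ℚ) ^ n) * X) ^ (e n)) = 1 := by
    intro e
    simp
  refine LD.unique (w := ∑ n ∈ R.coeff.support,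
    (((-(R.coeff n)).toNat : ℕ) : PowerSeries ℚ) * (-(C ((q : ℚ) ^ n) * geo ((q : ℚ) ^ n)))) ?_ (hprod _) ?_
  · have := (LD_exp g hg).mul (hprod fun n => (R.coeff n).toNat)
    convert this using 1
    rw [← sub_eq_iff_eq_add, ← Finset.sum_sub_distrib]
    ext v
    rw [coeff_derivative, hgdef, coeff_mk, if_neg (Nat.succ_ne_zero v), Finsupp.sum, map_sum]
    push_cast
    rw [div_mul_cancel₀ _ (by positivity)]
    refine Finset.sum_congr rfl fun n _ => ?_
    rw [← sub_mul]
    have h1 : (((-(R.coeff n)).toNat : ℕ) : PowerSeries ℚ) - (((R.coeff n).toNat : ℕ) : PowerSeries ℚ) =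
        C (-(R.coeff n : ℚ)) := by
      have h2 : (((-(R.coeff n)).toNat : ℕ) : ℤ) - ((R.coeff n).toNat : ℤ) = -(R.coeff n) := by omega
      have h3 : (((-(R.coeff n)).toNat : ℕ) : ℚ) - (((R.coeff n).toNat : ℕ) : ℚ) = -(R.coeff n : ℚ) := by
        exact_mod_cast h2
      rw [← h3, map_sub]
      simp
    rw [h1, mul_neg, ← neg_mul, ← map_neg, neg_neg, coeff_C_mul, coeff_C_mul, geo, coeff_mk, zpow_mul]
    rw [show ((v : ℤ) + 1) = ((v + 1 : ℕ) : ℤ) by push_cast; rfl, zpow_natCast, pow_succ]
    ring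
  · rw [map_mul, constantCoeff_exp_subst g hg, hc, hc, one_mul]

end K815.ExpSum
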