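import Mathlib.LinearAlgebra.Projection
import Mathlib.LinearAlgebra.FiniteDimensional.Lemmas
import Mathlib.LinearAlgebra.FiniteDimensional.Basic
import Mathlib.LinearAlgebra.Basis.VectorSpace
import Mathlib.Order.ModularLattice

/-!
# Extending partial isomorphisms compatibly with flags
-/

set_option autoImplicit false
universe u v w

namespace K815.LinFlag

open Module Submodule

variable {k : Type u} [Field k] {V : Type v} {V' : Type w} [AddCommGroup V] [Module k V] [AddCommGroup V'] [Module k V']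

/-- Linear maps prescribed on two independent subspaces. -/
theorem exists_glue {A B : Submodule k V} (h : Disjoint A B) (f g : V →ₗ[k] V') :
    ∃ F : V →ₗ[k] V', (∀ x ∈ A, F x = f x) ∧ ∀ x ∈ B, F x = g x := by
  obtain ⟨A', hA', hc⟩ := h.exists_isCompl
  refine ⟨LinearMap.ofIsCompl hc (f ∘ₗ A'.subtype) (g ∘ₗ B.subtype), fun x hx => ?_, fun x hx => ?_⟩
  · exact LinearMap.ofIsCompl_apply_left hc ⟨x, hA' hx⟩
  · exact LinearMap.ofIsCompl_apply_right hc ⟨x, hx⟩

theorem finrank_map_of_disjoint [FiniteDimensional k V] {A : Submodule k V} {g : V →ₗ[k] V'}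
    (h : Disjoint A (LinearMap.ker g)) : finrank k (A.map g) = finrank k A := by
  have hinj : Function.Injective (g.domRestrict A) := by
    rw [← LinearMap.ker_eq_bot, LinearMap.ker_domRestrict, Submodule.disjoint_def] at *
    rw [eq_bot_iff]
    rintro ⟨x, hx⟩ hx'
    simp only [Submodule.mem_bot]
    exact Subtype.ext (h x hx hx')
  rw [← LinearMap.range_domRestrict, LinearMap.finrank_range_of_inj hinj]

/-- One step of the extension of a partial isomorphism. -/
theorem exists_step [FiniteDimensional k V] [FiniteDimensional k V'] {W L : Submodule k V} {L' : Submodule k V'}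
    (g : V →ₗ[k] V') (hW : Disjoint W (LinearMap.ker g)) (hL : (W ⊓ L).map g = W.map g ⊓ L')
    (hd : finrank k L = finrank k L') :
    ∃ g' : V →ₗ[k] V', (∀ x ∈ W, g' x = g x) ∧ Disjoint (W ⊔ L) (LinearMap.ker g') ∧ L.map g' = L' := by
  obtain ⟨C, hC⟩ := ComplementedLattice.exists_isCompl ((W ⊓ L).comap L.subtype)
  obtain ⟨C', hC'⟩ := ComplementedLattice.exists_isCompl ((W.map g ⊓ L').comap L'.subtype)
  have e1 : finrank k ((W ⊓ L).comap L.subtype) = finrank k (W ⊓ L : Submodule k V) :=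
    (Submodule.comapSubtypeEquivOfLe inf_le_right).finrank_eq
  have e2 : finrank k ((W.map g ⊓ L').comap L'.subtype) = finrank k (W.map g ⊓ L' : Submodule k V') :=
    (Submodule.comapSubtypeEquivOfLe inf_le_right).finrank_eq
  have e3 : finrank k (W.map g ⊓ L' : Submodule k V') = finrank k (W ⊓ L : Submodule k V) := by
    rw [← hL, finrank_map_of_disjoint (hW.mono_left inf_le_left)]
  have e4 := Submodule.finrank_add_eq_of_isCompl hC
  have e5 := Submodule.finrank_add_eq_of_isCompl hC'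
  have e6 : finrank k C = finrank k C' := by omega
  let e : C ≃ₗ[k] C' := LinearEquiv.ofFinrankEq _ _ e6
  -- the complements as subspaces of the big spaces
  let D : Submodule k V := C.map L.subtype
  let D' : Submodule k V' := C'.map L'.subtype
  have hD1 : D ≤ L := Submodule.map_subtype_le L C
  have hD1' : D' ≤ L' := Submodule.map_subtype_le L' C'
  have hD2 : (W ⊓ L) ⊔ D = L := by
    have := congrArg (Submodule.map L.subtype) hC.sup_eq_top
    rw [Submodule.map_sup, Submodule.map_comap_subtype, Submodule.map_subtype_top] at this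
    rwa [inf_eq_right.2 (inf_le_right : W ⊓ L ≤ L)] at this
  have hD2' : (W.map g ⊓ L') ⊔ D' = L' := by
    have := congrArg (Submodule.map L'.subtype) hC'.sup_eq_top
    rw [Submodule.map_sup, Submodule.map_comap_subtype, Submodule.map_subtype_top] at this
    rwa [inf_eq_right.2 (inf_le_right : W.map g ⊓ L' ≤ L')] at this
  have hD3 : Disjoint (W ⊓ L) D := by
    rw [Submodule.disjoint_def]
    rintro x hx ⟨y, hy, rfl⟩
    have : y ∈ (W ⊓ L).comap L.subtype ⊓ C := ⟨hx, hy⟩
    rw [hC.inf_eq_bot] at this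
    simpa using this
  have hD3' : Disjoint (W.map g ⊓ L') D' := by
    rw [Submodule.disjoint_def]
    rintro x hx ⟨y, hy, rfl⟩
    have : y ∈ (W.map g ⊓ L').comap L'.subtype ⊓ C' := ⟨hx, hy⟩
    rw [hC'.inf_eq_bot] at this
    simpa using this
  have hWD : Disjoint W D := by
    rw [Submodule.disjoint_def] at hD3 ⊢
    exact fun x hx hx' => hD3 x ⟨hx, hD1 hx'⟩ hx'
  have hWD' : Disjoint (W.map g) D' := by
    rw [Submodule.disjoint_def] at hD3' ⊢
    exact fun x hx hx' => hD3' x ⟨hx, hD1' hx'⟩ hx'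
  -- the isomorphism on `D`
  obtain ⟨h, hh⟩ : ∃ h : V →ₗ[k] V', ∀ c : C, h ((c : L) : V) = (((e c : C') : L') : V') := by
    have hinj : Function.Injective (L.subtype ∘ₗ C.subtype) :=
      L.subtype_injective.comp C.subtype_injective
    obtain ⟨r, hr⟩ := LinearMap.exists_leftInverse_of_injective _ (LinearMap.ker_eq_bot.2 hinj)
    refine ⟨L'.subtype ∘ₗ C'.subtype ∘ₗ e.toLinearMap ∘ₗ r, fun c => ?_⟩
    have := LinearMap.congr_fun hr c
    simp only [LinearMap.comp_apply, Submodule.subtype_apply, LinearMap.id_apply] at this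
    simp [this]
  obtain ⟨g', hg1, hg2⟩ := exists_glue hWD g h
  have hgD : D.map g' = D' := by
    ext y
    constructor
    · rintro ⟨_, ⟨c, hc, rfl⟩, rfl⟩
      have := hh ⟨c, hc⟩
      rw [hg2 _ ⟨c, hc, rfl⟩]
      exact ⟨(e ⟨c, hc⟩ : C'), (e ⟨c, hc⟩).2, this.symm⟩
    · rintro ⟨c', hc', rfl⟩
      refine ⟨((e.symm ⟨c', hc'⟩ : C) : L), ⟨(e.symm ⟨c', hc'⟩ : C), (e.symm ⟨c', hc'⟩).2, rfl⟩, ?_⟩
      refine (hg2 _ ⟨(e.symm ⟨c', hc'⟩ : C), (e.symm ⟨c', hc'⟩).2, rfl⟩).trans ?_
      rw [Submodule.subtype_apply, hh]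
      simp
  have hgW : W.map g' = W.map g := by
    ext y
    constructor
    · rintro ⟨x, hx, rfl⟩
      exact ⟨x, hx, (hg1 x hx).symm⟩
    · rintro ⟨x, hx, rfl⟩
      exact ⟨x, hx, hg1 x hx⟩
  refine ⟨g', hg1, ?_, ?_⟩
  · have hWL : W ⊔ L = W ⊔ D := by
      apply le_antisymm
      · refine sup_le le_sup_left ?_
        rw [← hD2]
        exact sup_le (inf_le_left.trans le_sup_left) le_sup_right
      · exact sup_le le_sup_left (hD1.trans le_sup_right)
    rw [hWL, Submodule.disjoint_def]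
    intro x hx hx0
    obtain ⟨w, hw, d, hd', rfl⟩ := Submodule.mem_sup.1 hx
    have hx1 : g' w + g' d = 0 := by rw [← map_add]; exact hx0
    have h1 : g' w ∈ W.map g := hgW ▸ ⟨w, hw, rfl⟩
    have h2 : g' d ∈ D' := hgD ▸ ⟨d, hd', rfl⟩
    have h3 : g' w = 0 := by
      have h4 : g' w ∈ D' := by
        rw [eq_neg_of_add_eq_zero_left hx1]
        exact neg_mem h2
      exact (Submodule.disjoint_def.1 hWD') _ h1 h4
    have h4 : g' d = 0 := by rwa [h3, zero_add] at hx1
    have h5 : w = 0 := (Submodule.disjoint_def.1 hW) w hw (by rw [LinearMap.mem_ker, ← hg1 w hw, h3])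
    have h6 : d = 0 := by
      obtain ⟨c, hc, rfl⟩ := hd'
      rw [hg2 _ ⟨c, hc, rfl⟩] at h4
      have h7 := hh ⟨c, hc⟩
      have h8 : (((e ⟨c, hc⟩ : C') : L') : V') = 0 := h7.symm.trans h4
      have h9 : e ⟨c, hc⟩ = 0 := by
        apply Subtype.ext
        apply Subtype.ext
        simpa using h8
      have h10 : (⟨c, hc⟩ : C) = 0 := by
        rw [← e.map_eq_zero_iff]; exact h9
      simpa using congrArg (fun t : C => ((t : L) : V)) h10
    rw [h5, h6, add_zero]
  · rw [← hD2, Submodule.map_sup, hgD]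
    have : (W ⊓ L).map g' = (W ⊓ L).map g := by
      ext y
      constructor
      · rintro ⟨x, hx, rfl⟩
        exact ⟨x, hx, (hg1 x hx.1).symm⟩
      · rintro ⟨x, hx, rfl⟩
        exact ⟨x, hx, hg1 x hx.1⟩
    rw [this, hL, hD2']

theorem map_congr_of_eqOn {A : Submodule k V} {f g : V →ₗ[k] V'} (h : ∀ x ∈ A, f x = g x) : A.map f = A.map g := by
  ext y
  constructor
  · rintro ⟨x, hx, rfl⟩
    exact ⟨x, hx, (h x hx).symm⟩
  · rintro ⟨x, hx, rfl⟩
    exact ⟨x, hx, h x hx⟩

/-- Extension of a partial isomorphism compatible with two flags. -/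
theorem exists_extend_flag [FiniteDimensional k V] [FiniteDimensional k V'] (K : ℕ → Submodule k V)
    (K' : ℕ → Submodule k V') (hK : Monotone K) (hK' : Monotone K') (hd : ∀ n, finrank k (K n) = finrank k (K' n))
    (W : Submodule k V) (g : V →ₗ[k] V') (hW : Disjoint W (LinearMap.ker g))
    (hg : ∀ n, (W ⊓ K n).map g = W.map g ⊓ K' n) (n : ℕ) :
    ∃ g' : V →ₗ[k] V', (∀ x ∈ W, g' x = g x) ∧ Disjoint (W ⊔ K n) (LinearMap.ker g') ∧
      (∀ i ≤ n, (K i).map g' = K' i) ∧ ∀ i, ((W ⊔ K n) ⊓ K i).map g' = (W ⊔ K n).map g' ⊓ K' i := by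
  have aux : ∀ (n : ℕ) (W₁ : Submodule k V) (g₁ : V →ₗ[k] V'), Disjoint W₁ (LinearMap.ker g₁) →
      (∀ i, (W₁ ⊓ K i).map g₁ = W₁.map g₁ ⊓ K' i) →
      ∃ g' : V →ₗ[k] V', (∀ x ∈ W₁, g' x = g₁ x) ∧ Disjoint (W₁ ⊔ K n) (LinearMap.ker g') ∧
      (K n).map g' = K' n ∧ ∀ i, n ≤ i → ((W₁ ⊔ K n) ⊓ K i).map g' = (W₁ ⊔ K n).map g' ⊓ K' i := by
    intro n W₁ g₁ h1 h2
    obtain ⟨g', h3, h4, h5⟩ := exists_step g₁ h1 (h2 n) (hd n)
    refine ⟨g', h3, h4, h5, fun i hi => ?_⟩
    rw [sup_comm, sup_inf_assoc_of_le _ (hK hi), Submodule.map_sup, Submodule.map_sup, h5,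
      sup_inf_assoc_of_le _ (hK' hi)]
    congr 1
    rw [map_congr_of_eqOn (A := W₁ ⊓ K i) (f := g') (g := g₁) (fun x hx => h3 x hx.1), h2, map_congr_of_eqOn h3]
  induction n with
  | zero =>
    obtain ⟨g', h1, h2, h3, h4⟩ := aux 0 W g hW hg
    exact ⟨g', h1, h2, fun i hi => by rw [Nat.le_zero.1 hi]; exact h3, fun i => h4 i (Nat.zero_le i)⟩
  | succ n ih =>
    obtain ⟨g₁, h1, h2, h3, h4⟩ := ih
    obtain ⟨g', h5, h6, h7, h8⟩ := aux (n + 1) (W ⊔ K n) g₁ h2 h4
    have e : (W ⊔ K n) ⊔ K (n + 1) = W ⊔ K (n + 1) := by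
      rw [sup_assoc, sup_eq_right.2 (hK (Nat.le_succ n))]
    rw [e] at h6 h8
    have h9 : ∀ i ≤ n + 1, (K i).map g' = K' i := by
      intro i hi
      rcases Nat.lt_or_ge i (n + 1) with h | h
      · rw [map_congr_of_eqOn (f := g') (g := g₁) (fun x hx => h5 x
          ((hK (Nat.lt_succ_iff.1 h)).trans le_sup_right hx)), h3 i (Nat.lt_succ_iff.1 h)]
      · rw [le_antisymm hi h, h7]
    refine ⟨g', fun x hx => ?_, h6, h9, fun i => ?_⟩
    · rw [h5 x (le_sup_left (a := W) (b := K n) hx), h1 x hx]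
    · rcases le_total i (n + 1) with hi | hi
      · have h10 : K i ≤ W ⊔ K (n + 1) := (hK hi).trans le_sup_right
        have h11 : K' i ≤ (W ⊔ K (n + 1)).map g' := by
          rw [← h9 i hi]
          exact Submodule.map_mono h10
        rw [inf_eq_right.2 h10, inf_eq_right.2 h11, h9 i hi]
      · exact h8 i hi

/-- A linear map with prescribed ranks on a flag. -/
theorem exists_ranks [FiniteDimensional k V] [FiniteDimensional k V'] (F : ℕ → Submodule k V) (hF : Monotone F)
    (c : ℕ → ℕ) (hc0 : c 0 ≤ finrank k (F 0)) (hc : Monotone c)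
    (hc1 : ∀ i, c (i + 1) - c i ≤ finrank k (F (i + 1)) - finrank k (F i))
    (hc2 : ∀ i, c i ≤ finrank k V') (n : ℕ) :
    ∃ f : V →ₗ[k] V', ∀ i ≤ n, finrank k ((F i).map f) = c i := by
  -- one step: extend a map on `A` to `B ≥ A`
  have step : ∀ (A B : Submodule k V), A ≤ B → ∀ (f : V →ₗ[k] V') (e : ℕ), e ≤ finrank k B - finrank k A →
      finrank k (A.map f) + e ≤ finrank k V' →
      ∃ f' : V →ₗ[k] V', (∀ x ∈ A, f' x = f x) ∧ finrank k (B.map f') = finrank k (A.map f) + e := by
    intro A B hAB f e he he'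
    obtain ⟨C, hC⟩ := ComplementedLattice.exists_isCompl (A.comap B.subtype)
    obtain ⟨D, hD⟩ := ComplementedLattice.exists_isCompl (A.map f)
    have e1 : finrank k (A.comap B.subtype) = finrank k A :=
      (Submodule.comapSubtypeEquivOfLe hAB).finrank_eq
    have e2 := Submodule.finrank_add_eq_of_isCompl hC
    have e3 := Submodule.finrank_add_eq_of_isCompl hD
    have e4 : e ≤ finrank k C := by omega
    have e5 : e ≤ finrank k D := by omega
    -- a linear map `C → D` of rank `e`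
    obtain ⟨h, hh⟩ : ∃ h : C →ₗ[k] D, finrank k (LinearMap.range h) = e := by
      let bC := Module.finBasis k C
      let bD := Module.finBasis k D
      let h : C →ₗ[k] D := bC.constr k fun i =>
        if hi : i.1 < e then bD ⟨i.1, lt_of_lt_of_le hi e5⟩ else 0
      refine ⟨h, ?_⟩
      have hr : LinearMap.range h = Submodule.span k (Set.range fun j : Fin e => bD ⟨j.1, lt_of_lt_of_le j.2 e5⟩) := by
        rw [Module.Basis.constr_range]
        apply le_antisymm
        · rw [Submodule.span_le]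
          rintro _ ⟨i, rfl⟩
          by_cases hi : i.1 < e
          · simp only [hi, dite_true]
            exact Submodule.subset_span ⟨⟨i.1, hi⟩, rfl⟩
          · simp only [hi, dite_false]
            exact zero_mem _
        · rw [Submodule.span_le]
          rintro _ ⟨j, rfl⟩
          refine Submodule.subset_span ⟨⟨j.1, lt_of_lt_of_le j.2 e4⟩, ?_⟩
          simp [j.2]
      rw [hr, finrank_span_eq_card]
      · simp
      · exact bD.linearIndependent.comp (fun j : Fin e => (⟨j.1, lt_of_lt_of_le j.2 e5⟩ : Fin (finrank k D)))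
          fun a b hab => Fin.ext (by simpa using congrArg Fin.val hab)
    let C₀ : Submodule k V := C.map B.subtype
    have hC1 : A ⊔ C₀ = B := by
      have := congrArg (Submodule.map B.subtype) hC.sup_eq_top
      rw [Submodule.map_sup, Submodule.map_comap_subtype, Submodule.map_subtype_top] at this
      rwa [inf_eq_right.2 hAB] at this
    have hC2 : Disjoint A C₀ := by
      rw [Submodule.disjoint_def]
      rintro x hx ⟨y, hy, rfl⟩
      have : y ∈ A.comap B.subtype ⊓ C := ⟨hx, hy⟩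
      rw [hC.inf_eq_bot] at this
      simpa using this
    obtain ⟨h', hh'⟩ : ∃ h' : V →ₗ[k] V', ∀ x : C, h' ((x : B) : V) = (h x : V') := by
      have hinj : Function.Injective (B.subtype ∘ₗ C.subtype) :=
        B.subtype_injective.comp C.subtype_injective
      obtain ⟨r, hr⟩ := LinearMap.exists_leftInverse_of_injective _ (LinearMap.ker_eq_bot.2 hinj)
      refine ⟨D.subtype ∘ₗ h ∘ₗ r, fun x => ?_⟩
      have := LinearMap.congr_fun hr x
      simp only [LinearMap.comp_apply, Submodule.subtype_apply, LinearMap.id_apply] at this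
      simp [this]
    obtain ⟨f', hf1, hf2⟩ := exists_glue hC2 f h'
    refine ⟨f', hf1, ?_⟩
    have h1 : C₀.map f' = (LinearMap.range h).map D.subtype := by
      ext y
      constructor
      · rintro ⟨_, ⟨x, hx, rfl⟩, rfl⟩
        rw [hf2 _ ⟨x, hx, rfl⟩]
        exact ⟨h ⟨x, hx⟩, ⟨_, rfl⟩, (hh' ⟨x, hx⟩).symm⟩
      · rintro ⟨_, ⟨x, rfl⟩, rfl⟩
        refine ⟨((x : B) : V), ⟨x, x.2, rfl⟩, ?_⟩
        exact (hf2 _ ⟨x, x.2, rfl⟩).trans (hh' x)
    have h2 : finrank k (C₀.map f') = e := by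
      rw [h1, ← hh]
      exact (Submodule.equivMapOfInjective D.subtype D.subtype_injective _).finrank_eq.symm
    have h3 : Disjoint (A.map f) (C₀.map f') := by
      refine hD.disjoint.mono_right ?_
      rw [h1]
      exact Submodule.map_subtype_le D _
    rw [← hC1, Submodule.map_sup, map_congr_of_eqOn hf1]
    have h4 := Submodule.finrank_sup_add_finrank_inf_eq (A.map f) (C₀.map f')
    rw [h3.eq_bot, finrank_bot, h2] at h4
    omega
  induction n with
  | zero =>
    obtain ⟨f, -, hf⟩ := step ⊥ (F 0) bot_le 0 (c 0) (by simpa using hc0) (by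
      rw [Submodule.map_bot, finrank_bot, zero_add]; exact hc2 0)
    refine ⟨f, fun i hi => ?_⟩
    rw [Nat.le_zero.1 hi, hf]
    simp
  | succ n ih =>
    obtain ⟨f, hf⟩ := ih
    have h1 := hf n le_rfl
    have h2 : c n ≤ c (n + 1) := hc (Nat.le_succ n)
    obtain ⟨f', hf1, hf2⟩ := step (F n) (F (n + 1)) (hF (Nat.le_succ n)) f (c (n + 1) - c n) (hc1 n)
      (by have := hc2 (n + 1); omega)
    refine ⟨f', fun i hi => ?_⟩
    rcases Nat.lt_or_ge i (n + 1) with h | h
    · rw [map_congr_of_eqOn (f := f') (g := f) (fun x hx => hf1 x (hF (Nat.lt_succ_iff.1 h) hx)),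
        hf i (Nat.lt_succ_iff.1 h)]
    · rw [le_antisymm hi h, hf2]
      omega

end K815.LinFlag
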