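import Groth.Prelude.Def_W4c1btstackcountsChain
import Groth.Agent.StackCount.K815.LinFlag
import Mathlib.LinearAlgebra.FreeModule.Finite.Matrix

/-!
# Orbits of chains of matrices and rank arrays
-/

set_option autoImplicit false
universe u

namespace K815.Chain

open W4c1btstackcounts Matrix Module Submodule K815.LinFlag

variable {k : Type u} [Field k] {d : ℕ → ℕ}

/-- The image of `k^{d i}` in `k^{d j}`, absolute indices (everything if `j ≤ i`). -/
noncomputable def im (f : (i : ℕ) → Matrix (Fin (d (i + 1))) (Fin (d i)) k) (i : ℕ) :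
    (j : ℕ) → Submodule k (Fin (d j) → k)
  | 0 => ⊤
  | j + 1 => if i ≤ j then (im f i j).map (Matrix.toLin' (f j)) else ⊤

variable (f f' : (i : ℕ) → Matrix (Fin (d (i + 1))) (Fin (d i)) k)

lemma im_succ {i j : ℕ} (h : i ≤ j) : im f i (j + 1) = (im f i j).map (Matrix.toLin' (f j)) := by
  simp [im, h]

lemma im_self (i : ℕ) : im f i i = ⊤ := by
  cases i with
  | zero => rfl
  | succ i => simp [im]

lemma iterImage_eq (i n : ℕ) : iterImage f i n = im f i (i + n) := by
  induction n with
  | zero => exact (im_self f i).symm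
  | succ n ih =>
    change (iterImage f i n).map (Matrix.toLin' (f (i + n))) = im f i (i + n + 1)
    rw [im_succ f (Nat.le_add_right i n), ih]

lemma rankArray_eq {i j : ℕ} (h : i ≤ j) : rankArray f i j = finrank k (im f i j) := by
  rw [rankArray, if_pos h, iterImage_eq]
  exact congrArg (fun m => finrank k (im f i m)) (Nat.add_sub_cancel' h)

lemma im_mono {i i' : ℕ} (h : i ≤ i') (j : ℕ) : im f i j ≤ im f i' j := by
  induction j with
  | zero => exact le_rfl
  | succ j ih =>
    by_cases h' : i' ≤ j
    · rw [im_succ f h', im_succ f (h.trans h')]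
      exact Submodule.map_mono ih
    · simp [im, h']

section Rank

variable {V W : Type*} [AddCommGroup V] [Module k V] [FiniteDimensional k V] [AddCommGroup W] [Module k W]

lemma finrank_map_add (A : Submodule k V) (φ : V →ₗ[k] W) :
    finrank k (A.map φ) + finrank k (A ⊓ LinearMap.ker φ : Submodule k V) = finrank k A := by
  have h := LinearMap.finrank_range_add_finrank_ker (φ.domRestrict A)
  rw [LinearMap.range_domRestrict, LinearMap.ker_domRestrict] at h
  rw [← h]
  congr 1
  have e : (LinearMap.ker φ).comap A.subtype = (A ⊓ LinearMap.ker φ).comap A.subtype := by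
    ext x
    simp
  rw [e]
  exact (Submodule.comapSubtypeEquivOfLe inf_le_left).finrank_eq.symm

lemma finrank_map_add_le {A B : Submodule k V} (h : A ≤ B) (φ : V →ₗ[k] W) :
    finrank k (B.map φ) + finrank k A ≤ finrank k B + finrank k (A.map φ) := by
  have h1 := finrank_map_add A φ
  have h2 := finrank_map_add B φ
  have h3 : finrank k (A ⊓ LinearMap.ker φ : Submodule k V) ≤ finrank k (B ⊓ LinearMap.ker φ : Submodule k V) :=
    Submodule.finrank_mono (inf_le_inf_right _ h)
  omega

end Rank

theorem isRankArray (r : ℕ) : IsRankArray d r (rankArray f) := by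
  refine ⟨fun j _ _ => ?_, fun i j _ hij _ => ?_, fun i j _ hij _ => ?_, fun i j hi hij _ => ?_⟩
  · rw [rankArray_eq f le_rfl, im_self, finrank_top, finrank_fin_fun]
  · rw [rankArray_eq f hij.le, rankArray_eq f hij]
    exact Submodule.finrank_mono (im_mono f (Nat.le_succ i) j)
  · rw [rankArray_eq f hij, rankArray_eq f (hij.trans (Nat.le_succ j)), im_succ f hij]
    exact Submodule.finrank_map_le _ _
  · have h1 : i - 1 ≤ j := by omega
    rw [rankArray_eq f hij, rankArray_eq f (hij.trans (Nat.le_succ j)), rankArray_eq f h1,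
      rankArray_eq f (h1.trans (Nat.le_succ j)), im_succ f hij, im_succ f h1]
    exact finrank_map_add_le (im_mono f (Nat.sub_le i 1) j) _

/-! ### invariance -/

lemma toLin'_gl_bijective {n : ℕ} (g : Matrix.GeneralLinearGroup (Fin n) k) :
    Function.Bijective (Matrix.toLin' (g : Matrix (Fin n) (Fin n) k)) := by
  refine Function.bijective_iff_has_inverse.2 ⟨Matrix.toLin' ((g⁻¹ : Matrix.GeneralLinearGroup (Fin n) k) :
    Matrix (Fin n) (Fin n) k), fun x => ?_, fun x => ?_⟩
  · rw [← LinearMap.comp_apply, ← Matrix.toLin'_mul, ← Matrix.GeneralLinearGroup.coe_mul, inv_mul_cancel]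
    simp
  · rw [← LinearMap.comp_apply, ← Matrix.toLin'_mul, ← Matrix.GeneralLinearGroup.coe_mul, mul_inv_cancel]
    simp

lemma toLin'_conj (g : (j : ℕ) → Matrix.GeneralLinearGroup (Fin (d j)) k) (i : ℕ) (x : Fin (d i) → k) :
    Matrix.toLin' (conj g f i) (Matrix.toLin' (g i : Matrix _ _ k) x) =
      Matrix.toLin' (g (i + 1) : Matrix _ _ k) (Matrix.toLin' (f i) x) := by
  rw [conj, ← LinearMap.comp_apply, ← Matrix.toLin'_mul, ← LinearMap.comp_apply, ← Matrix.toLin'_mul]
  congr 2
  rw [Matrix.mul_assoc, ← Matrix.GeneralLinearGroup.coe_mul, inv_mul_cancel]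
  simp

lemma iterImage_conj (g : (j : ℕ) → Matrix.GeneralLinearGroup (Fin (d j)) k) (i n : ℕ) :
    iterImage (conj g f) i n = (iterImage f i n).map (Matrix.toLin' (g (i + n) : Matrix _ _ k)) := by
  induction n with
  | zero =>
    change (⊤ : Submodule k _) = (⊤ : Submodule k _).map _
    rw [Submodule.map_top, LinearMap.range_eq_top.2 (toLin'_gl_bijective _).2]
  | succ n ih =>
    change (iterImage (conj g f) i n).map _ = ((iterImage f i n).map _).map _
    rw [ih, ← Submodule.map_comp, ← Submodule.map_comp]
    congr 1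
    exact LinearMap.ext fun x => toLin'_conj f g (i + n) x

theorem rankArray_conj (g : (j : ℕ) → Matrix.GeneralLinearGroup (Fin (d j)) k) (i j : ℕ) :
    rankArray (conj g f) i j = rankArray f i j := by
  rw [rankArray, rankArray]
  split_ifs with h
  · rw [iterImage_conj]
    exact (Submodule.equivMapOfInjective _ (toLin'_gl_bijective _).1 _).finrank_eq.symm
  · rfl

/-! ### kernels -/

/-- The kernel of `k^{d l} → k^{d (l+n)}`. -/
noncomputable def kr : (n l : ℕ) → Submodule k (Fin (d l) → k)
  | 0, _ => ⊥
  | n + 1, l => (kr n (l + 1)).comap (Matrix.toLin' (f l))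

lemma kr_mono_succ (n l : ℕ) : kr f n l ≤ kr f (n + 1) l := by
  induction n generalizing l with
  | zero => exact bot_le
  | succ n ih => exact Submodule.comap_mono (ih (l + 1))

lemma kr_mono (l : ℕ) : Monotone fun n => kr f n l := monotone_nat_of_le_succ fun n => kr_mono_succ f n l

lemma kr_one (l : ℕ) : kr f 1 l = LinearMap.ker (Matrix.toLin' (f l)) := rfl

/-- dimension of the image of `W ⊆ k^{d l}` in `k^{d (l+n)}`. -/
noncomputable def pr : (n l : ℕ) → Submodule k (Fin (d l) → k) → ℕ
  | 0, _, W => finrank k W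
  | n + 1, l, W => pr n (l + 1) (W.map (Matrix.toLin' (f l)))

lemma finrank_inf_kr_add_pr (n l : ℕ) (W : Submodule k (Fin (d l) → k)) :
    finrank k (W ⊓ kr f n l : Submodule k _) + pr f n l W = finrank k W := by
  induction n generalizing l with
  | zero =>
    change finrank k (W ⊓ ⊥ : Submodule k _) + finrank k W = finrank k W
    rw [inf_bot_eq, finrank_bot, zero_add]
  | succ n ih =>
    change finrank k (W ⊓ (kr f n (l + 1)).comap (Matrix.toLin' (f l)) : Submodule k _) +
      pr f n (l + 1) (W.map (Matrix.toLin' (f l))) = finrank k W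
    have h1 := ih (l + 1) (W.map (Matrix.toLin' (f l)))
    have h2 := finrank_map_add W (Matrix.toLin' (f l))
    have h3 := finrank_map_add (W ⊓ (kr f n (l + 1)).comap (Matrix.toLin' (f l))) (Matrix.toLin' (f l))
    have h4 : (W ⊓ (kr f n (l + 1)).comap (Matrix.toLin' (f l))).map (Matrix.toLin' (f l)) =
        W.map (Matrix.toLin' (f l)) ⊓ kr f n (l + 1) := by
      ext y
      constructor
      · rintro ⟨x, ⟨hx1, hx2⟩, rfl⟩
        exact ⟨⟨x, hx1, rfl⟩, hx2⟩
      · rintro ⟨⟨x, hx, rfl⟩, hy⟩
        exact ⟨x, ⟨hx, hy⟩, rfl⟩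
    have h5 : (W ⊓ (kr f n (l + 1)).comap (Matrix.toLin' (f l))) ⊓ LinearMap.ker (Matrix.toLin' (f l)) =
        W ⊓ LinearMap.ker (Matrix.toLin' (f l)) := by
      ext x
      constructor
      · rintro ⟨⟨h, -⟩, h'⟩
        exact ⟨h, h'⟩
      · rintro ⟨h, h'⟩
        refine ⟨⟨h, ?_⟩, h'⟩
        change Matrix.toLin' (f l) x ∈ kr f n (l + 1)
        rw [show Matrix.toLin' (f l) x = 0 from h']
        exact zero_mem _
    rw [h4, h5] at h3
    omega

lemma pr_im (n l i : ℕ) (h : i ≤ l) : pr f n l (im f i l) = finrank k (im f i (l + n)) := by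
  induction n generalizing l with
  | zero => rfl
  | succ n ih =>
    change pr f n (l + 1) ((im f i l).map (Matrix.toLin' (f l))) = _
    rw [← im_succ f h, ih (l + 1) (h.trans (Nat.le_succ l))]
    exact congrArg (fun m => finrank k (im f i m)) (by omega)

lemma finrank_kr (n l : ℕ) : finrank k (kr f n l) + rankArray f l (l + n) = d l := by
  have h := finrank_inf_kr_add_pr f n l (im f l l)
  rw [pr_im f n l l le_rfl, im_self, top_inf_eq, finrank_top, finrank_fin_fun] at h
  rw [rankArray_eq f (Nat.le_add_right l n)]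
  exact h

/-! ### separation of orbits -/

/-- The matrix of a bijective endomorphism. -/
lemma exists_gl {n : ℕ} (g : (Fin n → k) →ₗ[k] (Fin n → k)) (hg : Function.Injective g) :
    ∃ G : Matrix.GeneralLinearGroup (Fin n) k, Matrix.toLin' (G : Matrix (Fin n) (Fin n) k) = g := by
  let e : (Fin n → k) ≃ₗ[k] (Fin n → k) := LinearEquiv.ofInjectiveEndo g hg
  refine ⟨⟨LinearMap.toMatrix' e.toLinearMap, LinearMap.toMatrix' e.symm.toLinearMap, ?_, ?_⟩, ?_⟩
  · rw [← LinearMap.toMatrix'_comp]
    simp
  · rw [← LinearMap.toMatrix'_comp]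
    simp
  · change Matrix.toLin' (LinearMap.toMatrix' e.toLinearMap) = g
    rw [Matrix.toLin'_toMatrix']
    rfl

lemma exists_next {r : ℕ} (h : ∀ i j : ℕ, 1 ≤ i → i ≤ j → j ≤ r → rankArray f i j = rankArray f' i j)
    {L : ℕ} (hL : 1 ≤ L) (W : Submodule k (Fin (d L) → k))
    (g : (Fin (d L) → k) →ₗ[k] (Fin (d L) → k)) (hW : Disjoint W (LinearMap.ker g))
    (hg : ∀ m, L + m ≤ r → (W ⊓ kr f m L).map g = W.map g ⊓ kr f' m L) :
    ∃ G : Matrix.GeneralLinearGroup (Fin (d L)) k, (∀ x ∈ W, Matrix.toLin' (G : Matrix _ _ k) x = g x) ∧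
      ∀ m, L + m ≤ r → (kr f m L).map (Matrix.toLin' (G : Matrix _ _ k)) = kr f' m L := by
  let K : ℕ → Submodule k (Fin (d L) → k) := fun m => if L + m ≤ r then kr f m L else ⊤
  let K' : ℕ → Submodule k (Fin (d L) → k) := fun m => if L + m ≤ r then kr f' m L else ⊤
  have mono : ∀ F : (i : ℕ) → Matrix (Fin (d (i + 1))) (Fin (d i)) k,
      Monotone (fun m => if L + m ≤ r then kr F m L else ⊤) := by
    intro F m n hmn
    by_cases h1 : L + n ≤ r
    · have h2 : L + m ≤ r := by omega
      simp only [h1, h2, if_true]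
      exact kr_mono F L hmn
    · simp only [h1, if_false]
      exact le_top
  obtain ⟨g', h1, h2, h3, -⟩ := exists_extend_flag K K' (mono f) (mono f') (fun m => by
    by_cases h1 : L + m ≤ r
    · have h2 := finrank_kr f m L
      have h3 := finrank_kr f' m L
      rw [h L (L + m) hL (Nat.le_add_right L m) h1] at h2
      rw [show K m = kr f m L from if_pos h1, show K' m = kr f' m L from if_pos h1]
      omega
    · rw [show K m = ⊤ from if_neg h1, show K' m = ⊤ from if_neg h1]) W g hW (fun m => by
      by_cases h1 : L + m ≤ r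
      · simp only [K, K', h1, if_true]
        exact hg m h1
      · simp only [K, K', h1, if_false, inf_top_eq]) (r + 1)
  have h4 : ¬ (L + (r + 1) ≤ r) := by omega
  have h5 : Function.Injective g' := by
    rw [← LinearMap.ker_eq_bot]
    have : W ⊔ K (r + 1) = ⊤ := by simp only [K, h4, if_false, sup_top_eq]
    rw [this] at h2
    simpa using h2
  obtain ⟨G, hG⟩ := exists_gl g' h5
  refine ⟨G, fun x hx => by rw [hG]; exact h1 x hx, fun m hm => ?_⟩
  have := h3 m (by omega)
  simp only [K, K', hm, if_true] at this
  rw [hG, this]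

theorem exists_conj {r : ℕ} (h : ∀ i j : ℕ, 1 ≤ i → i ≤ j → j ≤ r → rankArray f i j = rankArray f' i j) :
    ∃ g : (j : ℕ) → Matrix.GeneralLinearGroup (Fin (d j)) k, ∀ i : ℕ, 1 ≤ i → i + 1 ≤ r → conj g f i = f' i := by
  have main : ∀ n : ℕ, n + 1 ≤ r → ∃ g : (j : ℕ) → Matrix.GeneralLinearGroup (Fin (d j)) k,
      (∀ i : ℕ, 1 ≤ i → i + 1 ≤ n + 1 → conj g f i = f' i) ∧
      ∀ m, n + 1 + m ≤ r → (kr f m (n + 1)).map (Matrix.toLin' (g (n + 1) : Matrix _ _ k)) = kr f' m (n + 1) := by
    intro n
    induction n with
    | zero =>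
      intro _
      obtain ⟨G, -, hG⟩ := exists_next f f' h (L := 1) le_rfl ⊥ 0 disjoint_bot_left (fun m _ => by simp)
      refine ⟨Function.update (fun _ => 1) (0 + 1) G, fun i hi hi' => by omega, fun m hm => ?_⟩
      rw [Function.update_self]
      exact hG m hm
    | succ n ih =>
      intro hn
      obtain ⟨g, hg1, hg2⟩ := ih (by omega)
      -- the induced map on the image
      obtain ⟨s, hs⟩ : ∃ s : (Fin (d (n + 1 + 1)) → k) →ₗ[k] (Fin (d (n + 1)) → k), ∀ x,
          Matrix.toLin' (f (n + 1)) (s (Matrix.toLin' (f (n + 1)) x)) = Matrix.toLin' (f (n + 1)) x := by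
        obtain ⟨s₀, hs₀⟩ := (Matrix.toLin' (f (n + 1))).rangeRestrict.exists_rightInverse_of_surjective
          (LinearMap.range_rangeRestrict _)
        obtain ⟨s, hs⟩ := s₀.exists_extend
        refine ⟨s, fun x => ?_⟩
        have h1 : s (Matrix.toLin' (f (n + 1)) x) = s₀ ((Matrix.toLin' (f (n + 1))).rangeRestrict x) :=
          LinearMap.congr_fun hs ((Matrix.toLin' (f (n + 1))).rangeRestrict x)
        have h2 := congrArg Subtype.val (LinearMap.congr_fun hs₀ ((Matrix.toLin' (f (n + 1))).rangeRestrict x))
        rw [h1]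
        exact h2
      have hker : ∀ x, Matrix.toLin' (f (n + 1)) x = 0 ↔
          Matrix.toLin' (f' (n + 1)) (Matrix.toLin' (g (n + 1) : Matrix _ _ k) x) = 0 := by
        intro x
        have h1 := hg2 1 (by omega)
        constructor
        · intro hx
          have h2 : Matrix.toLin' (g (n + 1) : Matrix _ _ k) x ∈ kr f' 1 (n + 1) := h1 ▸ ⟨x, hx, rfl⟩
          exact h2
        · intro hx
          have h2 : Matrix.toLin' (g (n + 1) : Matrix _ _ k) x ∈ kr f' 1 (n + 1) := hx
          rw [← h1] at h2
          obtain ⟨y, hy, hxy⟩ := h2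
          rw [← (toLin'_gl_bijective (g (n + 1))).1 hxy]
          exact hy
      let γ : (Fin (d (n + 1 + 1)) → k) →ₗ[k] (Fin (d (n + 1 + 1)) → k) :=
        Matrix.toLin' (f' (n + 1)) ∘ₗ Matrix.toLin' (g (n + 1) : Matrix _ _ k) ∘ₗ s
      have hγ : ∀ x, γ (Matrix.toLin' (f (n + 1)) x) =
          Matrix.toLin' (f' (n + 1)) (Matrix.toLin' (g (n + 1) : Matrix _ _ k) x) := by
        intro x
        have h1 : Matrix.toLin' (f (n + 1)) (s (Matrix.toLin' (f (n + 1)) x) - x) = 0 := by
          rw [map_sub, hs, sub_self]
        rw [hker, map_sub, map_sub, sub_eq_zero] at h1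
        exact h1
      have hmap : ∀ A : Submodule k (Fin (d (n + 1)) → k), (A.map (Matrix.toLin' (f (n + 1)))).map γ =
          (A.map (Matrix.toLin' (g (n + 1) : Matrix _ _ k))).map (Matrix.toLin' (f' (n + 1))) := by
        intro A
        rw [← Submodule.map_comp, ← Submodule.map_comp]
        exact map_congr_of_eqOn fun x _ => hγ x
      have hcm : ∀ (F : (i : ℕ) → Matrix (Fin (d (i + 1))) (Fin (d i)) k) (m : ℕ),
          (kr F (m + 1) (n + 1)).map (Matrix.toLin' (F (n + 1))) =
            LinearMap.range (Matrix.toLin' (F (n + 1))) ⊓ kr F m (n + 1 + 1) := by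
        intro F m
        change ((kr F m (n + 1 + 1)).comap (Matrix.toLin' (F (n + 1)))).map _ = _
        rw [Submodule.map_comap_eq]
      obtain ⟨G, hG1, hG2⟩ := exists_next f f' h (L := n + 1 + 1) (by omega)
        (LinearMap.range (Matrix.toLin' (f (n + 1)))) γ (by
          rw [Submodule.disjoint_def]
          rintro _ ⟨x, rfl⟩ hx
          rw [LinearMap.mem_ker, hγ, ← hker] at hx
          exact hx) (by
          intro m hm
          have hgt : (⊤ : Submodule k (Fin (d (n + 1)) → k)).map
              (Matrix.toLin' (g (n + 1) : Matrix (Fin (d (n + 1))) (Fin (d (n + 1))) k)) = ⊤ := by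
            rw [Submodule.map_top, LinearMap.range_eq_top.2 (toLin'_gl_bijective (g (n + 1))).2]
          rw [← hcm, hmap, hg2 (m + 1) (by omega), hcm, ← Submodule.map_top (Matrix.toLin' (f (n + 1))), hmap,
            hgt, Submodule.map_top])
      refine ⟨Function.update g (n + 1 + 1) G, fun i hi hi' => ?_, fun m hm => ?_⟩
      · rcases Nat.lt_or_ge i (n + 1) with hlt | hge
        · rw [← hg1 i hi (by omega)]
          rw [conj, conj, Function.update_of_ne (by omega), Function.update_of_ne (by omega)]
        · have hi2 : i = n + 1 := by omega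
          subst hi2
          apply Matrix.toLin'.injective
          apply LinearMap.ext
          intro y
          obtain ⟨x, rfl⟩ := (toLin'_gl_bijective (g (n + 1))).2 y
          have h1 := toLin'_conj f (Function.update g (n + 1 + 1) G) (n + 1) x
          rw [Function.update_of_ne (by omega), Function.update_self] at h1
          rw [h1, hG1 _ ⟨x, rfl⟩, hγ]
      · rw [Function.update_self]
        exact hG2 m hm
  rcases Nat.eq_zero_or_pos r with hr | hr
  · exact ⟨fun _ => 1, fun i hi hi' => by omega⟩
  · obtain ⟨g, hg, -⟩ := main (r - 1) (by omega)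
    exact ⟨g, fun i hi hi' => hg i hi (by omega)⟩

/-! ### every admissible array occurs -/

lemma im_update {n : ℕ} (M : Matrix (Fin (d (n + 1))) (Fin (d n)) k) (i j : ℕ) (hj : j ≤ n) :
    im (Function.update f n M) i j = im f i j := by
  induction j with
  | zero => rfl
  | succ j ih =>
    by_cases h : i ≤ j
    · rw [im_succ _ h, im_succ _ h, ih (by omega), Function.update_of_ne (by omega)]
    · simp [im, h]

theorem exists_of_isRankArray {r : ℕ} (a : ℕ → ℕ → ℕ) (ha : IsRankArray d r a) :
    ∃ f : (i : ℕ) → Matrix (Fin (d (i + 1))) (Fin (d i)) k,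
      ∀ i j : ℕ, 1 ≤ i → i ≤ j → j ≤ r → rankArray f i j = a i j := by
  obtain ⟨h1, h2, h3, h4⟩ := ha
  have main : ∀ n : ℕ, n ≤ r → ∃ f : (i : ℕ) → Matrix (Fin (d (i + 1))) (Fin (d i)) k,
      ∀ i j : ℕ, 1 ≤ i → i ≤ j → j ≤ n → finrank k (im f i j) = a i j := by
    intro n
    induction n with
    | zero => exact fun _ => ⟨fun _ => 0, fun i j hi hij hj => by omega⟩
    | succ n ih =>
      intro hn
      obtain ⟨f, hf⟩ := ih (by omega)
      rcases Nat.eq_zero_or_pos n with hn0 | hn0
      · subst hn0
        refine ⟨f, fun i j hi hij hj => ?_⟩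
        have e1 : i = 1 := by omega
        have e2 : j = 1 := by omega
        subst e1 e2
        rw [im_self, finrank_top, finrank_fin_fun, h1 1 le_rfl hn]
      · -- flag `im f (i+1) n` for `i + 1 ≤ n`, constant afterwards
        obtain ⟨φ, hφ⟩ := exists_ranks (V' := Fin (d (n + 1)) → k) (fun i => im f (min (i + 1) n) n)
          (fun i j hij => im_mono f (by omega) n) (fun i => a (min (i + 1) n) (n + 1))
          (by
            rw [hf _ n (by omega) (by omega) le_rfl]
            exact h3 _ n (by omega) (by omega) (by omega))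
          (monotone_nat_of_le_succ fun i => by
            rcases Nat.lt_or_ge (i + 1) n with hi | hi
            · rw [min_eq_left (by omega : i + 1 ≤ n), min_eq_left (by omega : i + 1 + 1 ≤ n)]
              exact h2 (i + 1) (n + 1) (by omega) (by omega) hn
            · rw [min_eq_right (by omega : n ≤ i + 1), min_eq_right (by omega : n ≤ i + 1 + 1)])
          (fun i => by
            rw [hf _ n (by omega) (by omega) le_rfl, hf _ n (by omega) (by omega) le_rfl]
            rcases Nat.lt_or_ge (i + 1) n with hi | hi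
            · rw [min_eq_left (by omega : i + 1 ≤ n), min_eq_left (by omega : i + 1 + 1 ≤ n)]
              have := h4 (i + 1 + 1) n (by omega) (by omega) (by omega)
              have e : i + 1 + 1 - 1 = i + 1 := by omega
              rw [e] at this
              have h5 := h2 (i + 1) (n + 1) (by omega) (by omega) hn
              have h6 := h2 (i + 1) n (by omega) (by omega) (by omega)
              omega
            · rw [min_eq_right (by omega : n ≤ i + 1), min_eq_right (by omega : n ≤ i + 1 + 1)]
              omega)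
          (fun i => by
            rw [finrank_fin_fun]
            -- `a i (n+1) ≤ a (n+1) (n+1) = d (n+1)`
            have h5 : ∀ t, ∀ i, i + t = n + 1 → 1 ≤ i → a i (n + 1) ≤ d (n + 1) := by
              intro t
              induction t with
              | zero =>
                intro i hi hi'
                have : i = n + 1 := by omega
                rw [this, h1 (n + 1) (by omega) hn]
              | succ t iht =>
                intro i hi hi'
                exact (h2 i (n + 1) hi' (by omega) hn).trans (iht (i + 1) (by omega) (by omega))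
            exact h5 (n + 1 - min (i + 1) n) _ (by omega) (by omega))
          n
        refine ⟨Function.update f n (LinearMap.toMatrix' φ), fun i j hi hij hj => ?_⟩
        rcases Nat.lt_or_ge j (n + 1) with hj' | hj'
        · rw [im_update f _ i j (by omega), hf i j hi hij (by omega)]
        · have hj2 : j = n + 1 := by omega
          subst hj2
          rcases Nat.lt_or_ge i (n + 1) with hi' | hi'
          · rw [im_succ _ (by omega : i ≤ n), im_update f _ i n le_rfl, Function.update_self,
              Matrix.toLin'_toMatrix']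
            have := hφ (i - 1) (by omega)
            have e : min (i - 1 + 1) n = i := by omega
            rw [e] at this
            exact this
          · have hi2 : i = n + 1 := by omega
            subst hi2
            rw [im_self, finrank_top, finrank_fin_fun, h1 (n + 1) (by omega) hn]
  obtain ⟨f, hf⟩ := main r le_rfl
  exact ⟨f, fun i j hi hij hj => by rw [rankArray_eq f hij, hf i j hi hij hj]⟩

end K815.Chain
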