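import Groth.Agent.StackCount.K815.Procyc
import Mathlib.FieldTheory.KrullTopology
import Mathlib.FieldTheory.Finite.Basic
import Mathlib.FieldTheory.IsAlgClosed.Basic
import Mathlib.FieldTheory.PrimitiveElement
import Mathlib.RingTheory.RootsOfUnity.AlgebraicallyClosed
import Mathlib.Data.Nat.GCD.Basic

/-!
# The absolute Galois group of a finite field is procyclic
-/

set_option autoImplicit false
set_option linter.unusedSectionVars false
set_option linter.overlappingInstances false
universe u v

namespace K815.GalFin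

open K815.Procyc

variable {k : Type u} [Field k] [Finite k] {kb : Type v} [Field kb] [Algebra k kb]

theorem pow_apply {π : kb ≃ₐ[k] kb} (hπ : ∀ x, π x = x ^ Nat.card k) (n : ℕ) (x : kb) :
    (π ^ n) x = x ^ (Nat.card k ^ n) := by
  induction n generalizing x with
  | zero => simp
  | succ n ih => rw [pow_succ', AlgEquiv.mul_apply, ih, hπ, ← pow_mul, ← pow_succ]

/-- The Frobenius of the algebraic closure of a finite field. -/
theorem exists_frob [Algebra.IsAlgebraic k kb] : ∃ π : kb ≃ₐ[k] kb, ∀ x, π x = x ^ Nat.card k := by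
  cases nonempty_fintype k
  refine ⟨FiniteField.frobeniusAlgEquivOfAlgebraic k kb, fun x => ?_⟩
  rw [Nat.card_eq_fintype_card]
  rfl

theorem dense [Algebra.IsAlgebraic k kb] [Normal k kb] {π : kb ≃ₐ[k] kb} (hπ : ∀ x, π x = x ^ Nat.card k)
    (U : Set (kb ≃ₐ[k] kb)) (hU : IsOpen U) (hne : U.Nonempty) : ∃ i : ℕ, π ^ i ∈ U := by
  cases nonempty_fintype k
  obtain ⟨σ, hσ⟩ := hne
  have h1 : (fun τ => σ * τ) ⁻¹' U ∈ nhds (1 : kb ≃ₐ[k] kb) :=
    (hU.preimage (continuous_const_mul σ)).mem_nhds (by simpa using hσ)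
  rw [krullTopology_mem_nhds_one_iff_of_normal] at h1
  obtain ⟨E, hE1, hE2, hE3⟩ := h1
  have : Finite E := Module.finite_of_finite k
  obtain ⟨n, hn⟩ := (FiniteField.bijective_frobeniusAlgEquivOfAlgebraic_pow k E).2 (σ.restrictNormal E)
  refine ⟨n.1, ?_⟩
  have h2 : σ⁻¹ * π ^ n.1 ∈ E.fixingSubgroup := by
    rw [IntermediateField.mem_fixingSubgroup_iff]
    intro x hx
    have h3 := congrArg (fun f : E ≃ₐ[k] E => ((f ⟨x, hx⟩ : E) : kb)) hn
    have h4 : ((σ.restrictNormal E) ⟨x, hx⟩ : kb) = σ x := σ.restrictNormal_commutes E ⟨x, hx⟩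
    have h5 : ∀ m : ℕ, ∀ y : E, (((FiniteField.frobeniusAlgEquivOfAlgebraic k E) ^ m) y : kb) =
        (y : kb) ^ (Nat.card k ^ m) := by
      intro m
      induction m with
      | zero => intro y; simp
      | succ m ih =>
        intro y
        rw [pow_succ, AlgEquiv.mul_apply, ih]
        rw [FiniteField.coe_frobeniusAlgEquivOfAlgebraic]
        change ((y : kb) ^ Fintype.card k) ^ (Nat.card k ^ m) = _
        rw [Nat.card_eq_fintype_card, ← pow_mul, ← pow_succ']
    have h6 : (x : kb) ^ (Nat.card k ^ n.1) = σ x := by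
      rw [← h4, ← h3]
      exact (h5 n.1 ⟨x, hx⟩).symm
    rw [AlgEquiv.mul_apply, pow_apply hπ, h6]
    exact σ.symm_apply_apply x
  have := hE3 h2
  simpa using this

theorem dvd_of_pow_sub_one_dvd {q M i : ℕ} (hq : 1 < q) (h : q ^ M - 1 ∣ q ^ i - 1) : M ∣ i := by
  have h1 := Nat.pow_sub_one_gcd_pow_sub_one q M i
  rw [Nat.gcd_eq_left h] at h1
  have h2 : q ^ M = q ^ Nat.gcd M i := by
    have e1 : 1 ≤ q ^ M := Nat.one_le_pow _ _ (by omega)
    have e2 : 1 ≤ q ^ Nat.gcd M i := Nat.one_le_pow _ _ (by omega)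
    omega
  have h3 := Nat.pow_right_injective hq h2
  rw [h3]
  exact Nat.gcd_dvd_right _ _

theorem exact [IsAlgClosed kb] [Algebra.IsAlgebraic k kb] {π : kb ≃ₐ[k] kb} (hπ : ∀ x, π x = x ^ Nat.card k)
    (M : ℕ) (hM : 0 < M) :
    ∃ V : Subgroup (kb ≃ₐ[k] kb), IsOpen (V : Set (kb ≃ₐ[k] kb)) ∧ V.Normal ∧ ∀ i : ℕ, π ^ i ∈ V ↔ M ∣ i := by
  classical
  cases nonempty_fintype k
  have hq : 1 < Nat.card k := Finite.one_lt_card
  set q := Nat.card k with hqdef
  have hqM : 1 < q ^ M := Nat.one_lt_pow hM.ne' hq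
  let S : Set kb := {x | x ^ q ^ M = x}
  have hS : S.Finite := by
    have h1 : (Polynomial.X ^ (q ^ M) - Polynomial.X : Polynomial kb) ≠ 0 := by
      intro h
      have := congrArg (fun p : Polynomial kb => p.coeff (q ^ M)) h
      simp [Polynomial.coeff_X, hqM.ne] at this
    refine (Polynomial.rootSet_finite (Polynomial.X ^ (q ^ M) - Polynomial.X : Polynomial kb) kb).subset ?_
    intro x hx
    rw [Polynomial.mem_rootSet]
    refine ⟨h1, ?_⟩
    simp only [map_sub, map_pow, Polynomial.aeval_X]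
    exact sub_eq_zero.2 hx
  let V : Subgroup (kb ≃ₐ[k] kb) :=
    { carrier := {σ | ∀ x ∈ S, σ x = x}
      one_mem' := fun x _ => rfl
      mul_mem' := fun {a b} ha hb x hx => by rw [AlgEquiv.mul_apply, hb x hx, ha x hx]
      inv_mem' := fun {a} ha x hx => by
        have := ha x hx
        calc a⁻¹ x = a⁻¹ (a x) := by rw [this]
          _ = x := a.symm_apply_apply x }
  have hSst : ∀ (σ : kb ≃ₐ[k] kb), ∀ x ∈ S, σ x ∈ S := by
    intro σ x hx
    change (σ x) ^ q ^ M = σ x
    rw [← map_pow, show x ^ q ^ M = x from hx]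
  refine ⟨V, ?_, ?_, ?_⟩
  · have h1 : (V : Set (kb ≃ₐ[k] kb)) = ((IntermediateField.adjoin k S).fixingSubgroup : Set (kb ≃ₐ[k] kb)) := by
      ext σ
      constructor
      · intro h
        change σ ∈ (IntermediateField.adjoin k S).fixingSubgroup
        rw [IntermediateField.mem_fixingSubgroup_iff]
        intro x hx
        induction hx using IntermediateField.adjoin_induction with
        | mem x hx => exact h x hx
        | algebraMap x => exact σ.commutes x
        | add x y _ _ h1 h2 => rw [map_add, h1, h2]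
        | inv x _ h1 => rw [map_inv₀, h1]
        | mul x y _ _ h1 h2 => rw [map_mul, h1, h2]
      · intro h x hx
        have h' : σ ∈ (IntermediateField.adjoin k S).fixingSubgroup := h
        rw [IntermediateField.mem_fixingSubgroup_iff] at h'
        exact h' x (IntermediateField.subset_adjoin k S hx)
    rw [h1]
    have : FiniteDimensional k (IntermediateField.adjoin k S) := by
      have : Finite S := hS
      exact IntermediateField.finiteDimensional_adjoin fun x _ => Algebra.IsIntegral.isIntegral x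
    exact IntermediateField.fixingSubgroup_isOpen _
  · constructor
    intro σ hσ τ x hx
    have h1 : τ⁻¹ x ∈ S := hSst _ x hx
    rw [AlgEquiv.mul_apply, AlgEquiv.mul_apply, hσ _ h1]
    exact τ.apply_symm_apply x
  · intro i
    constructor
    · intro h
      have hne : NeZero ((q ^ M - 1 : ℕ) : kb) := by
        constructor
        obtain ⟨p, hp⟩ := CharP.exists k
        have : Fact p.Prime := ⟨CharP.char_is_prime k p⟩
        have : CharP kb p := charP_of_injective_algebraMap (algebraMap k kb).injective p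
        have h2 : ((q : ℕ) : kb) = 0 := by
          obtain ⟨n, -, hn⟩ := FiniteField.card k p
          rw [hqdef, Nat.card_eq_fintype_card, hn]
          push_cast
          rw [CharP.cast_eq_zero, zero_pow n.pos.ne']
        rw [Nat.cast_sub hqM.le, Nat.cast_pow, h2, zero_pow hM.ne']
        simp
      obtain ⟨ζ, hζ⟩ := HasEnoughRootsOfUnity.exists_primitiveRoot kb (q ^ M - 1)
      have h1 : ζ ∈ S := by
        change ζ ^ q ^ M = ζ
        have : q ^ M = (q ^ M - 1) + 1 := by omega
        rw [this, pow_succ, hζ.pow_eq_one, one_mul]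
      have h2 := h ζ h1
      rw [pow_apply hπ] at h2
      have h3 : ζ ^ (q ^ i - 1) = 1 := by
        have h4 : ζ ≠ 0 := hζ.ne_zero (by omega)
        have h5 : q ^ i = (q ^ i - 1) + 1 := by
          have : 1 ≤ q ^ i := Nat.one_le_pow _ _ (by omega)
          omega
        rw [← hqdef, h5, pow_succ] at h2
        exact mul_right_cancel₀ h4 (by rw [h2, one_mul])
      exact dvd_of_pow_sub_one_dvd hq ((hζ.pow_eq_one_iff_dvd _).1 h3)
    · rintro ⟨c, rfl⟩ x hx
      rw [pow_apply hπ]
      induction c with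
      | zero => simp
      | succ c ih => rw [Nat.mul_succ, pow_add, pow_mul, ih, hx]

theorem gen [IsAlgClosed kb] [Algebra.IsAlgebraic k kb] {π : kb ≃ₐ[k] kb} (hπ : ∀ x, π x = x ^ Nat.card k) :
    Gen π :=
  have : IsAlgClosure k kb := ⟨inferInstance, inferInstance⟩
  have : Normal k kb := IsAlgClosure.normal k kb
  ⟨dense hπ, exact hπ⟩

end K815.GalFin
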