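import Groth.Agent.StackCount.K815.Ess

/-!
# `[X/G]` over an algebraically closed field
-/

set_option autoImplicit false
set_option linter.unusedSectionVars false
universe u
open CategoryTheory Limits MonoidalCategory CartesianMonoidalCategory MonObj GrpObj AlgebraicGeometry

namespace K815.AlgPt

open K815.Tors K815.Obj K815.PtEq K815.Coc K815.Ess

variable {k kb : Type u} [Field k] [Field kb] [Algebra k kb]

theorem q_self : q k kb kb = 𝟙 _ := by
  apply Over.OverMorphism.ext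
  exact Spec.map_id _

theorem aut_eq_one (σ : kb ≃ₐ[kb] kb) : σ = 1 := by
  ext x
  exact σ.commutes x

variable {G : Over (Spec (CommRingCat.of k))} [GrpObj G] {X : Over (Spec (CommRingCat.of k))} {aX : AlgGrp.Action G X}

theorem coc_one (A : TObj Scheme.etalePrecoverage G aX (SGA7.pt (K := k) kb)) (t : SGA7.pt (K := k) kb ⟶ A.P)
    (ht : t ≫ A.π = q k kb kb) (σ : kb ≃ₐ[kb] kb) : coc A t ht σ = 1 := by
  symm
  apply coc_unique
  rw [aut_eq_one σ, s_one, Category.id_comp, ac_one]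

theorem iso_iff [PerfectField kb] (O O' : TObj Scheme.etalePrecoverage G aX (SGA7.pt (K := k) kb))
    (tA : SGA7.pt (K := k) kb ⟶ O.P) (tB : SGA7.pt (K := k) kb ⟶ O'.P) (hA : tA ≫ O.π = q k kb kb)
    (hB : tB ≫ O'.π = q k kb kb) :
    Nonempty (O.toFiber ≅ O'.toFiber) ↔ ∃ g : SGA7.pt (K := k) kb ⟶ G, ac aX g (tA ≫ O.φ) = tB ≫ O'.φ := by
  constructor
  · rintro ⟨e⟩
    obtain ⟨h, hh⟩ := exists_dv O'.act O'.π O'.cart (tA ≫ top e.hom) tB (by
      rw [Category.assoc, (isHom_top e.hom).wπ, hA, hB])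
    obtain ⟨-, h2⟩ := cond_of_isHom O O' tA hA tB hB (isHom_top e.hom) hh.symm
    exact ⟨h⁻¹, by rw [← h2, ac_inv_ac]⟩
  · rintro ⟨g, hg⟩
    obtain ⟨f, hf1, hf2⟩ := exists_isHom_of_cond O O' tA hA tB hB (h := g⁻¹) (by
      intro σ
      rw [coc_one, coc_one, aut_eq_one σ, s_one, Category.id_comp, _root_.one_mul, _root_.mul_one]) (by
      rw [← hg, ac_inv_ac])
    have := hf2.isIso (q k kb kb) tA hA
    obtain ⟨F, hF⟩ := exists_fiber_hom hf2
    have := isIso_fiber_hom O O' tA hA tB hB F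
    exact ⟨asIso F⟩

theorem exists_obj [IsAlgClosed kb] [IsAffineHom G.hom] (x : SGA7.pt (K := k) kb ⟶ X) :
    ∃ (A : TObj Scheme.etalePrecoverage G aX (SGA7.pt (K := k) kb)) (t : SGA7.pt (K := k) kb ⟶ A.P),
      t ≫ A.π = q k kb kb ∧ t ≫ A.φ = x := by
  obtain ⟨A, t, ht, -, h2⟩ := K815.Ess.exists_tobj (k := k) (k' := kb) (kb := kb) (aX := aX) (fun _ => 1)
    (IsLocallyConstant.const _) (fun σ τ => by rw [MonObj.comp_one, _root_.one_mul]) x (fun σ => by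
      rw [aut_eq_one σ, s_one, Category.id_comp, ac_one])
  exact ⟨A, t, ht, h2⟩

theorem main [IsAlgClosed kb] [IsAffineHom G.hom] :
    (∀ A : (AlgSt.QuotObj.forget Scheme.etalePrecoverage G aX).Fiber (SGA7.pt (K := k) kb),
        ∃ t : SGA7.pt (K := k) kb ⟶ A.1.P, t ≫ A.1.π = eqToHom A.2.symm) ∧
    (∀ (A B : (AlgSt.QuotObj.forget Scheme.etalePrecoverage G aX).Fiber (SGA7.pt (K := k) kb))
        (tA : SGA7.pt (K := k) kb ⟶ A.1.P) (tB : SGA7.pt (K := k) kb ⟶ B.1.P),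
        tA ≫ A.1.π = eqToHom A.2.symm → tB ≫ B.1.π = eqToHom B.2.symm →
        (Nonempty (A ≅ B) ↔
          ∃ g : SGA7.pt (K := k) kb ⟶ G,
            CartesianMonoidalCategory.lift g (tA ≫ A.1.φ) ≫ aX.act = tB ≫ B.1.φ)) ∧
    (∀ x : SGA7.pt (K := k) kb ⟶ X,
        ∃ (A : (AlgSt.QuotObj.forget Scheme.etalePrecoverage G aX).Fiber (SGA7.pt (K := k) kb))
          (t : SGA7.pt (K := k) kb ⟶ A.1.P),
          t ≫ A.1.π = eqToHom A.2.symm ∧ t ≫ A.1.φ = x) := by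
  refine ⟨fun A => ?_, fun A B => ?_, fun x => ?_⟩
  · obtain ⟨O, rfl⟩ := K815.Obj.exists_tobj A
    obtain ⟨t, ht, -⟩ := exists_point (kb := kb) O
    exact ⟨t, ht.trans q_self⟩
  · obtain ⟨O, rfl⟩ := K815.Obj.exists_tobj A
    obtain ⟨O', rfl⟩ := K815.Obj.exists_tobj B
    intro tA tB hA hB
    exact iso_iff O O' tA tB (hA.trans q_self.symm) (hB.trans q_self.symm)
  · obtain ⟨A, t, ht, h2⟩ := exists_obj (k := k) (aX := aX) x
    exact ⟨A.toFiber, t, ht.trans q_self, h2⟩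

end K815.AlgPt
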