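import Groth.Agent.StackCount.K815.Lc

/-!
# Models over `k'` of objects of `[X/G]` over `kb`
-/

set_option autoImplicit false
set_option linter.unusedSectionVars false
universe u
open CategoryTheory Limits MonoidalCategory CartesianMonoidalCategory MonObj GrpObj AlgebraicGeometry

namespace K815.Model

open K815.Tors K815.Obj K815.PtEq K815.Coc K815.Ess K815.Lc AlgSt

section gen

variable {S : Scheme.{u}} {K : Precoverage Scheme.{u}} {G : Over S} [GrpObj G] {X : Over S} {aX : AlgGrp.Action G X}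

/-- An object with a section maps to every object with a point over the base. -/
theorem exists_quot_hom {T T' : Over S} (A : TObj K G aX T) (t : T ⟶ A.P) (ht : t ≫ A.π = 𝟙 T) (B : TObj K G aX T')
    (r : T ⟶ T') (t' : T ⟶ B.P) (ht' : t' ≫ B.π = r) (hφ : t' ≫ B.φ = t ≫ A.φ) :
    ∃ h : A.toQuot ⟶ B.toQuot, h.base = r ∧ t ≫ h.top = t' := by
  have i1 : Surjective (𝟙 T : T ⟶ T).left := inferInstanceAs (Surjective (𝟙 T.left))
  have i2 : Flat (𝟙 T : T ⟶ T).left := inferInstanceAs (Flat (𝟙 T.left))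
  have i3 : QuasiCompact (𝟙 T : T ⟶ T).left := inferInstanceAs (QuasiCompact (𝟙 T.left))
  obtain ⟨f, hf1, hf2⟩ := exists_eqv A.act A.π A.cart (𝟙 T) t ht B.act t' (by
    intro Z x₀ x₁ g hg
    have h1 : x₁ = x₀ := by
      have h2 := congrArg (fun e => e ≫ A.π) hg
      simp only [ac_π A.act A.π A.cart, Category.assoc, ht, Category.comp_id] at h2
      exact h2
    subst h1
    have h3 : g = 1 := ac_inj A.act A.π A.cart (p := x₁ ≫ t) (by rw [hg, ac_one])
    rw [h3, ac_one])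
  have hw : f ≫ B.π = A.π ≫ r := by
    apply hom_ext_cov A.act A.π A.cart (𝟙 T) t ht
    rw [← Category.assoc, hf2, ac_π B.act B.π B.cart, ← Category.assoc, ac_π A.act A.π A.cart, Category.assoc,
      Category.assoc, Category.assoc, Category.assoc, ← Category.assoc t f, hf1, ht', ← Category.assoc t A.π, ht,
      Category.id_comp]
  have hwφ : f ≫ B.φ = A.φ := by
    refine eqv_ext A.act A.π A.cart (𝟙 T) t ht aX ?_ ?_ ?_
    · intro Z g x
      rw [← Category.assoc, hf2, B.eqv', Category.assoc]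
    · intro Z g x
      exact A.eqv' g x
    · rw [← Category.assoc, hf1, hφ]
  have hg : ∀ s : PullbackCone B.π r, ∃ g : s.pt ⟶ G, ac B.act g (s.snd ≫ t') = s.fst := fun s =>
    exists_dv B.act B.π B.cart s.fst (s.snd ≫ t') (by rw [s.condition, Category.assoc, ht'])
  choose g hg using hg
  have hc : IsPullback f A.π B.π r := by
    refine ⟨⟨hw⟩, ⟨PullbackCone.IsLimit.mk hw (fun s => ac A.act (g s) (s.snd ≫ t)) ?_ ?_ ?_⟩⟩
    · intro s
      rw [hf2, Category.assoc, hf1]
      exact hg s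
    · intro s
      rw [ac_π A.act A.π A.cart, Category.assoc, ht, Category.comp_id]
    · intro s m h1 h2
      obtain ⟨c, hcc⟩ := exists_dv A.act A.π A.cart m (s.snd ≫ t) (by rw [h2, Category.assoc, ht, Category.comp_id])
      have h3 : c = g s := by
        apply ac_inj B.act B.π B.cart (p := s.snd ≫ t')
        rw [hg s, ← h1, ← hcc, hf2, Category.assoc, hf1]
      rw [← hcc, h3]
  exact ⟨{ base := r, top := f, eqv := (eqv_iff A.act B.act f).mpr hf2, cart := hc, wφ := hwφ }, rfl, hf1⟩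

theorem quot_hom_facts {T T' : Over S} (A : TObj K G aX T) (B : TObj K G aX T') (h : A.toQuot ⟶ B.toQuot)
    (r : T ⟶ T') (hr : h.base = r) : ∃ f : A.P ⟶ B.P, f ≫ B.π = A.π ≫ r ∧ f ≫ B.φ = A.φ := by
  subst hr
  exact ⟨h.top, h.cart.w, h.wφ⟩

end gen

section tower

variable {k k' kb : Type u} [Field k] [Field k'] [Field kb] [Algebra k k'] [Algebra k kb] [Algebra k' kb]
  [IsScalarTower k k' kb] [Finite k] [Finite k'] [IsAlgClosed kb] [Algebra.IsAlgebraic k kb]

theorem hasModel_iff {G X : Over (Spec (CommRingCat.of k))} [GrpObj G] [LocallyOfFiniteType G.hom]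
    [IsAffineHom G.hom] [LocallyOfFiniteType X.hom] {aX : AlgGrp.Action G X}
    (A : TObj Scheme.etalePrecoverage G aX (SGA7.pt (K := k) kb)) (t : SGA7.pt (K := k) kb ⟶ A.P)
    (ht : t ≫ A.π = 𝟙 _) :
    (∃ (B : TObj Scheme.etalePrecoverage G aX (SGA7.pt (K := k) k')) (h : A.toQuot ⟶ B.toQuot),
      h.base = q k k' kb) ↔
    ∀ σ : kb ≃ₐ[k'] kb, ∃ g : SGA7.pt (K := k) kb ⟶ G, ac aX g (t ≫ A.φ) = s σ ≫ t ≫ A.φ := by
  constructor
  · rintro ⟨B, h, hb⟩ σ
    obtain ⟨f, hf1, hf2⟩ := quot_hom_facts A B h _ hb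
    have ht' : (t ≫ f) ≫ B.π = q k k' kb := by
      rw [Category.assoc, hf1, ← Category.assoc, ht, Category.id_comp]
    have hφ : (t ≫ f) ≫ B.φ = t ≫ A.φ := by
      rw [Category.assoc, hf2]
    refine ⟨(coc B (t ≫ f) ht' σ)⁻¹, ?_⟩
    have h2 := coc_φ B (t ≫ f) ht' σ
    rw [hφ] at h2
    conv_lhs => rw [← h2]
    rw [ac_inv_ac]
  · intro H
    have halg : Algebra.IsAlgebraic k' kb := Algebra.IsAlgebraic.tower_top (K := k) k'
    obtain ⟨π', hπ'⟩ := GalFin.exists_frob (k := k') (kb := kb)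
    obtain ⟨g, hg⟩ := H π'
    obtain ⟨B, t', ht', h1, h2⟩ := exists_obj (aX := aX) hπ' g⁻¹ (t ≫ A.φ) (by rw [← hg, ac_inv_ac])
    obtain ⟨h, hb, -⟩ := exists_quot_hom A t ht B (q k k' kb) t' ht' h2
    exact ⟨B, h, hb⟩

end tower

end K815.Model
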