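import Groth.Agent.StackCount.K815.DictMass
import Mathlib.FieldTheory.Minpoly.Field
import Mathlib.AlgebraicGeometry.Morphisms.Finite
import Mathlib.FieldTheory.IsAlgClosed.AlgebraicClosure

/-!
# The point count of `BG` for `G` finite etale (S15385)
-/

set_option autoImplicit false
set_option linter.unusedSectionVars false
universe u
open CategoryTheory Limits MonoidalCategory CartesianMonoidalCategory MonObj GrpObj AlgebraicGeometry

namespace K815.BGone

open K815.Tors K815.Obj K815.PtEq K815.Coc K815.Ess K815.Lc K815.Dict K815.DictMass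

/-- A finite scheme has finitely many points with values in a field. -/
theorem finite_pts {k K : Type u} [Field k] [Field K] [Algebra k K] (X : Over (Spec (CommRingCat.of k)))
    [IsFinite X.hom] : Finite (SGA7.Pts K X) := by
  have haff : IsAffine X.left := isAffine_of_isAffineHom X.hom
  have h1 : (X.hom.appLE ⊤ ⊤ le_top).hom.Finite := by
    have h0 : X.hom.appLE ⊤ ⊤ le_top = X.hom.appTop := X.hom.appLE_eq_app
    rw [h0]
    exact X.hom.finite_appTop
  have h2 : (Rat.kmap X ⊤).hom.Finite := by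
    rw [Rat.kmap, CommRingCat.hom_comp]
    exact h1.comp (RingHom.Finite.of_surjective _
      (ConcreteCategory.bijective_of_isIso (Scheme.ΓSpecIso (CommRingCat.of k)).inv).2)
  let _ : Algebra k Γ(X.left, ⊤) := (Rat.kmap X ⊤).hom.toAlgebra
  have h3 : Module.Finite k Γ(X.left, ⊤) := h2
  have h4 : Finite (Γ(X.left, ⊤) →ₐ[k] K) := inferInstance
  have h5 : ∀ x : SGA7.Pts K X, ∃ f : Γ(X.left, ⊤) →ₐ[k] K,
      x.left = Spec.map (CommRingCat.ofHom (f : Γ(X.left, ⊤) →+* K)) ≫ (isAffineOpen_top X.left).fromSpec := by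
    intro x
    obtain ⟨χ, h6, h7⟩ := Rat.exists_chart x ⊤ (isAffineOpen_top X.left) trivial
    exact ⟨{ χ.hom with commutes' := h7 }, h6⟩
  choose f hf using h5
  refine Finite.of_injective f fun x y hxy => ?_
  apply Over.OverMorphism.ext
  rw [hf, hf, hxy]

theorem main (k : Type u) [Field k] [Finite k]
    (G : Over (Spec (CommRingCat.of k))) [GrpObj G] [IsFinite G.hom] [Etale G.hom]
    (k' : Type u) [Field k'] [Algebra k k'] [Module.Finite k k']
    (h : StkCnt.IsEssFinite (StkCnt.pts (AlgSt.BG Scheme.etalePrecoverage G) k')) :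
    StkCnt.ptCount (AlgSt.BG Scheme.etalePrecoverage G) k' h = 1 := by
  classical
  have hfk : Finite k' := Module.finite_of_finite k
  let kb := AlgebraicClosure k'
  have halg : Algebra.IsAlgebraic k kb := Algebra.IsAlgebraic.trans k k' kb
  obtain ⟨π, hπ⟩ := GalFin.exists_frob (k := k') (kb := kb)
  have hlf : LocallyOfFiniteType (𝟙_ (Over (Spec (CommRingCat.of k)))).hom :=
    inferInstanceAs (LocallyOfFiniteType (𝟙 (Spec (CommRingCat.of k))))
  obtain ⟨D⟩ := nonempty_Dict (k := k) (k' := k') (kb := kb) (AlgSt.trivAction G) hπ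
  let _ : MulAction (SGA7.pt (K := k) kb ⟶ G) (SGA7.pt (K := k) kb ⟶ 𝟙_ (Over (Spec (CommRingCat.of k)))) :=
    mulAction (AlgSt.trivAction G) (SGA7.pt (K := k) kb)
  have hΓ : Finite (SGA7.pt (K := k) kb ⟶ G) := finite_pts (k := k) (K := kb) G
  have hfin : Fintype (StkCnt.IsoCl (StkCnt.pts (AlgSt.BG Scheme.etalePrecoverage G) k')) :=
    @Fintype.ofFinite _ h.finite_isoCl
  have hW : {p : (SGA7.pt (K := k) kb ⟶ G) × (SGA7.pt (K := k) kb ⟶ 𝟙_ (Over (Spec (CommRingCat.of k)))) //
      p.1 • (s (k := k) π ≫ p.2) = p.2} ≃ (SGA7.pt (K := k) kb ⟶ G) :=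
    { toFun := fun p => p.1.1
      invFun := fun g => ⟨(g, toUnit _), toUnit_unique _ _⟩
      left_inv := fun p => Subtype.ext (Prod.ext rfl (toUnit_unique _ _))
      right_inv := fun g => rfl }
  have hWf : Finite {p : (SGA7.pt (K := k) kb ⟶ G) × (SGA7.pt (K := k) kb ⟶ 𝟙_ (Over (Spec (CommRingCat.of k)))) //
      p.1 • (s (k := k) π ≫ p.2) = p.2} := Finite.of_equiv _ hW.symm
  rw [StkCnt.ptCount, StkCnt.count_eq_sum, D.sum_all (fun g x => toUnit_unique _ _), Nat.card_congr hW]
  exact div_self (Nat.cast_ne_zero.2 Nat.card_pos.ne')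

end K815.BGone
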