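import Groth.Agent.StackCount.K815.Rat

/-!
# Rational points of twists
-/

set_option autoImplicit false
set_option linter.unusedSectionVars false
universe u
open CategoryTheory Limits MonoidalCategory CartesianMonoidalCategory MonObj GrpObj AlgebraicGeometry

namespace K815.TwPts

open K815.Frob K815.PtsBC K815.TwLang K815.Rat GalTw Groth.Agent.Sga3B.BcPts

/-- Rational points of a twist through an action. -/
theorem card_actTwist {k : Type u} [Field k] [Finite k] {kb : Type u} [Field kb] [Algebra k kb]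
    {π : kb ≃ₐ[k] kb} (hπ : ∀ x, π x = x ^ Nat.card k)
    {B A : Over (Spec (CommRingCat.of k))} [GrpObj B] {c : AlgGrp.Action B A}
    {z : GpH1.OneCocycle (kb ≃ₐ[k] kb) (SGA7.Pts kb B)} {Az : Over (Spec (CommRingCat.of k))}
    (hAz : GalTw.IsActTwist kb c z Az) :
    Nat.card (SGA7.Pts k Az) = Nat.card {a : SGA7.Pts kb A // lift (z π) (π • a) ≫ c.act = a} := by
  obtain ⟨φ, hφ⟩ := hAz
  rw [card_rat hπ Az]
  refine Nat.card_congr ((onPtsEquiv φ).subtypeEquiv fun x => ?_)
  rw [onPtsEquiv_apply, ← twist_onPts (hφ π)]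
  exact ((onPtsEquiv φ).injective.eq_iff (a := π • x) (b := x)).symm

/-- Rational points of an inner twist. -/
theorem card_innTwist {k : Type u} [Field k] [Finite k] {kb : Type u} [Field kb] [Algebra k kb]
    {π : kb ≃ₐ[k] kb} (hπ : ∀ x, π x = x ^ Nat.card k)
    {B : Over (Spec (CommRingCat.of k))} [GrpObj B]
    {z : GpH1.OneCocycle (kb ≃ₐ[k] kb) (SGA7.Pts kb B)} {Bz : Over (Spec (CommRingCat.of k))} [GrpObj Bz]
    (hBz : GalTw.IsInnTwist kb B z Bz) :
    Nat.card (SGA7.Pts k Bz) = Nat.card {b : SGA7.Pts kb B // z π * π • b * (z π)⁻¹ = b} := by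
  obtain ⟨φ, -, hφ⟩ := hBz
  rw [card_rat hπ Bz]
  refine Nat.card_congr ((onPtsEquiv φ).subtypeEquiv fun x => ?_)
  rw [onPtsEquiv_apply, ← inn_onPts (hφ π)]
  exact ((onPtsEquiv φ).injective.eq_iff (a := π • x) (b := x)).symm

/-- The twisted Frobenius as a homomorphism. -/
noncomputable def twFrob {Γ : Type*} [Group Γ] {B : Type*} [Group B] [MulDistribMulAction Γ B] (π : Γ) (b : B) :
    B →* B :=
  (MulAut.conj b).toMonoidHom.comp (MulDistribMulAction.toMonoidHom B π)

theorem twFrob_apply {Γ : Type*} [Group Γ] {B : Type*} [Group B] [MulDistribMulAction Γ B] (π : Γ) (b x : B) :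
    twFrob π b x = b * π • x * b⁻¹ := rfl

section comp

variable {k : Type u} [Field k] {K : Type u} [Field K] [Algebra k K]

theorem bcEquiv_fst (X : Over (Spec (CommRingCat.of k))) (T : Over (Spec (CommRingCat.of K)))
    (h : (Over.map (SGA7.pt (K := k) K).hom).obj T ⟶ X) :
    (bcEquiv (SGA7.pt (K := k) K).hom T X h).left ≫ pullback.fst X.hom (SGA7.pt (K := k) K).hom = h.left := by
  simp only [bcEquiv, Adjunction.homEquiv_unit]
  simp
  erw [pullback.lift_fst]
  rw [← Category.assoc]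
  erw [pullback.lift_fst]
  exact Category.id_comp _

theorem bcEquiv_ext {X : Over (Spec (CommRingCat.of k))} {T : Over (Spec (CommRingCat.of K))} {f g : T ⟶ bcK K X}
    (h : f.left ≫ pullback.fst X.hom (SGA7.pt (K := k) K).hom =
      g.left ≫ pullback.fst X.hom (SGA7.pt (K := k) K).hom) : f = g := by
  apply Over.OverMorphism.ext
  apply pullback.hom_ext h
  exact (Over.w f).trans (Over.w g).symm

theorem bcEquiv_symm_left {X : Over (Spec (CommRingCat.of k))} {T : Over (Spec (CommRingCat.of K))} (f : T ⟶ bcK K X) :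
    ((bcEquiv (SGA7.pt (K := k) K).hom T X).symm f).left = f.left ≫ pullback.fst X.hom (SGA7.pt (K := k) K).hom := by
  obtain ⟨h, rfl⟩ := (bcEquiv (SGA7.pt (K := k) K).hom T X).surjective f
  rw [Equiv.symm_apply_apply]
  exact (bcEquiv_fst X T h).symm

/-- The structure morphism of a `K`-scheme, regarded over `k`. -/
noncomputable def strK (T : Over (Spec (CommRingCat.of K))) :
    (Over.map (SGA7.pt (K := k) K).hom).obj T ⟶ SGA7.pt (K := k) K :=
  Over.homMk T.hom rfl

theorem bcEquiv_const {G : Over (Spec (CommRingCat.of k))} (g : SGA7.Pts K G) (T : Over (Spec (CommRingCat.of K))) :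
    toUnit T ≫ secOfPt K g = bcEquiv (SGA7.pt (K := k) K).hom T G (strK T ≫ g) := by
  apply bcEquiv_ext
  rw [bcEquiv_fst, Over.comp_left, Category.assoc, sec_fst]
  rfl

/-- Acting by `g` on `T`-points of `X_K`. -/
theorem bcEquiv_actK {G X : Over (Spec (CommRingCat.of k))} [GrpObj G] (a : AlgGrp.Action G X) (g : SGA7.Pts K G)
    (T : Over (Spec (CommRingCat.of K))) (x : (Over.map (SGA7.pt (K := k) K).hom).obj T ⟶ X) :
    bcEquiv (SGA7.pt (K := k) K).hom T X x ≫ actK K a g =
      bcEquiv (SGA7.pt (K := k) K).hom T X (lift (strK T ≫ g) x ≫ a.act) := by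
  apply bcEquiv_ext
  rw [bcEquiv_fst, Over.comp_left, Category.assoc]
  have h : (actK K a g).left ≫ pullback.fst X.hom (SGA7.pt (K := k) K).hom =
      (lift (snd X (SGA7.pt (K := k) K) ≫ g) (fst X (SGA7.pt (K := k) K)) ≫ a.act).left :=
    pullback.lift_fst _ _ _
  rw [h]
  have h2 : (bcEquiv (SGA7.pt (K := k) K).hom T X x).left = (lift x (strK T)).left := by
    apply pullback.hom_ext
    · rw [bcEquiv_fst]
      exact (congrArg CommaMorphism.left (lift_fst x (strK T))).symm
    · exact (Over.w _).trans (congrArg CommaMorphism.left (lift_snd x (strK T))).symm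
  rw [h2]
  change (lift x (strK T) ≫ lift (snd X (SGA7.pt (K := k) K) ≫ g) (fst X (SGA7.pt (K := k) K)) ≫ a.act).left = _
  rw [← Category.assoc, comp_lift, lift_snd_assoc, lift_fst]

/-- Conjugation by `g` on `T`-points of `G_K`. -/
theorem bcEquiv_innK {G : Over (Spec (CommRingCat.of k))} [GrpObj G] (g : SGA7.Pts K G)
    (T : Over (Spec (CommRingCat.of K))) (x : (Over.map (SGA7.pt (K := k) K).hom).obj T ⟶ G) :
    bcEquiv (SGA7.pt (K := k) K).hom T G x ≫ innK K g =
      bcEquiv (SGA7.pt (K := k) K).hom T G ((strK T ≫ g) * x * (strK T ≫ g)⁻¹) := by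
  rw [innK, AGF.conjBy, MonObj.comp_mul, MonObj.comp_mul, GrpObj.comp_inv, Category.comp_id, ← Category.assoc,
    comp_toUnit, bcEquiv_const]
  have h := bcEquiv_mul (SGA7.pt (K := k) K).hom (T := T) (G := G)
  rw [h, h]
  congr 1
  exact (map_inv (bcMulEquiv (SGA7.pt (K := k) K).hom T G) _).symm

/-- A homomorphism intertwining an action with conjugation. -/
theorem actK_map {A B : Over (Spec (CommRingCat.of k))} [GrpObj B] (c : AlgGrp.Action B A) (i : A ⟶ B)
    (h : ∀ (T : Over (Spec (CommRingCat.of k))) (g : T ⟶ B) (a : T ⟶ A),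
      (lift g a ≫ c.act) ≫ i = g * (a ≫ i) * g⁻¹) (g : SGA7.Pts K B) :
    actK K c g ≫ (Over.pullback (SGA7.pt (K := k) K).hom).map i =
      (Over.pullback (SGA7.pt (K := k) K).hom).map i ≫ innK K g := by
  obtain ⟨x, hx⟩ := (bcEquiv (SGA7.pt (K := k) K).hom (bcK K A) A).surjective (𝟙 _)
  have h1 : actK K c g = bcEquiv (SGA7.pt (K := k) K).hom (bcK K A) A x ≫ actK K c g := by
    rw [hx, Category.id_comp]
  have h2 : (Over.pullback (SGA7.pt (K := k) K).hom).map i =
      bcEquiv (SGA7.pt (K := k) K).hom (bcK K A) A x ≫ (Over.pullback (SGA7.pt (K := k) K).hom).map i := by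
    rw [hx, Category.id_comp]
  have h3 : actK K c g ≫ (Over.pullback (SGA7.pt (K := k) K).hom).map i =
      bcEquiv (SGA7.pt (K := k) K).hom (bcK K A) B ((lift (strK (bcK K A) ≫ g) x ≫ c.act) ≫ i) := by
    rw [h1, bcEquiv_actK]
    exact (bcEquiv_comp (SGA7.pt (K := k) K).hom (lift (strK (bcK K A) ≫ g) x ≫ c.act) i).symm
  rw [h3, h2, ← bcEquiv_comp, bcEquiv_innK, h]

end comp

end K815.TwPts
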