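import Groth.Agent.StackCount.K815.DictMass
import Groth.Agent.StackCount.K815.TwPts

/-!
# The point count of `[X/G]` as a sum over twists (S15686), and of `BG` for `G` finite etale (S15385)
-/

set_option autoImplicit false
set_option linter.unusedSectionVars false
universe u
open CategoryTheory Limits MonoidalCategory CartesianMonoidalCategory MonObj GrpObj AlgebraicGeometry

namespace K815.SumTw

open K815.Tors K815.Obj K815.PtEq K815.Coc K815.Ess K815.Lc K815.Dict K815.DictMass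

theorem main (k : Type u) [Field k] [Finite k]
    (kb : Type u) [Field kb] [Algebra k kb] [IsAlgClosure k kb]
    (G : Over (Spec (CommRingCat.of k))) [GrpObj G] [Smooth G.hom] [IsAffineHom G.hom]
    (X : Over (Spec (CommRingCat.of k))) [LocallyOfFiniteType X.hom] [QuasiCompact X.hom]
    (aX : AlgGrp.Action G X)
    [Fintype (GpH1.H1lc (kb ≃ₐ[k] kb) (SGA7.Pts kb G))]
    (z : GpH1.H1lc (kb ≃ₐ[k] kb) (SGA7.Pts kb G) → GpH1.OneCocycleLC (kb ≃ₐ[k] kb) (SGA7.Pts kb G))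
    (hz : ∀ c, (z c).cl = c)
    (Xz : GpH1.H1lc (kb ≃ₐ[k] kb) (SGA7.Pts kb G) → Over (Spec (CommRingCat.of k)))
    (hXz : ∀ c, GalTw.IsActTwist kb aX (z c).1 (Xz c))
    (Gin : GpH1.H1lc (kb ≃ₐ[k] kb) (SGA7.Pts kb G) → Over (Spec (CommRingCat.of k)))
    [∀ c, GrpObj (Gin c)]
    (hGin : ∀ c, GalTw.IsInnTwist kb G (z c).1 (Gin c))
    (h : StkCnt.IsEssFinite (StkCnt.pts (AlgSt.QuotSt Scheme.etalePrecoverage G aX) k)) :
    StkCnt.ptCount (AlgSt.QuotSt Scheme.etalePrecoverage G aX) k h =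
      ∑ c : GpH1.H1lc (kb ≃ₐ[k] kb) (SGA7.Pts kb G),
        (Nat.card (SGA7.Pts k (Xz c)) : ℚ) / (Nat.card (SGA7.Pts k (Gin c)) : ℚ) := by
  classical
  have hac : IsAlgClosed kb := IsAlgClosure.isAlgClosed k
  have halg : Algebra.IsAlgebraic k kb := IsAlgClosure.isAlgebraic
  obtain ⟨π, hπ⟩ := GalFin.exists_frob (k := k) (kb := kb)
  have hgen := GalFin.gen hπ
  obtain ⟨D⟩ := nonempty_Dict (k := k) (k' := k) (kb := kb) aX hπ
  let _ : MulAction (SGA7.pt (K := k) kb ⟶ G) (SGA7.pt (K := k) kb ⟶ X) := mulAction aX (SGA7.pt (K := k) kb)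
  have hψ : ∀ (g : SGA7.pt (K := k) kb ⟶ G) (x : SGA7.pt (K := k) kb ⟶ X),
      s (k := k) π ≫ (g • x) = frH G π g • (s (k := k) π ≫ x) := fun g x => comp_ac aX (s π) g x
  -- cocycles and their values at Frobenius
  have hcont : ∀ a : SGA7.Pts kb G, IsOpen {σ : kb ≃ₐ[k] kb | σ • a = a} := fun a => Rat.isOpen_stab (k := k) (K := kb) a
  have hbij := hgen.bijective (A := SGA7.Pts kb G) hcont (fun a => exists_fin_sub (G := G) hπ a)
  choose zz hzz using hbij.2
  have hzz' : ∀ a, (zz a).1 π = a := hzz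
  -- the class of an object
  let F : StkCnt.IsoCl (StkCnt.pts (AlgSt.QuotSt Scheme.etalePrecoverage G aX) k) →
    GpH1.H1lc (kb ≃ₐ[k] kb) (SGA7.Pts kb G) := fun c => (zz (D.pr c.out).1).cl
  have hF : ∀ (A : StkCnt.pts (AlgSt.QuotSt Scheme.etalePrecoverage G aX) k) (c : GpH1.H1lc (kb ≃ₐ[k] kb) (SGA7.Pts kb G)),
      F (StkCnt.IsoCl.mk A) = c ↔ ∃ h : SGA7.Pts kb G, (z c).1 π * frH G π h = h * (D.pr A).1 := by
    intro A c
    have h1 : StkCnt.IsoCl.mk (Quotient.out (StkCnt.IsoCl.mk A)) = StkCnt.IsoCl.mk A := Quotient.out_eq _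
    rw [D.mk_eq_iff] at h1
    obtain ⟨b, hb, -⟩ := h1
    have h2 : F (StkCnt.IsoCl.mk A) = c ↔ (zz (D.pr (Quotient.out (StkCnt.IsoCl.mk A))).1).cl = (z c).cl := by
      rw [hz c]
    rw [h2, hgen.cl_eq_iff hcont, hzz']
    constructor
    · rintro ⟨a, ha⟩
      refine ⟨a * b, ?_⟩
      have h3 : (z c).1 π * frH G π a = a * (D.pr (Quotient.out (StkCnt.IsoCl.mk A))).1 := by
        rw [ha]
        exact inv_mul_cancel_right _ _
      rw [map_mul, ← _root_.mul_assoc, h3, _root_.mul_assoc, hb, _root_.mul_assoc]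
    · rintro ⟨a, ha⟩
      refine ⟨a * b⁻¹, ?_⟩
      have h3 : (z c).1 π * frH G π (a * b⁻¹) = a * b⁻¹ * (D.pr (Quotient.out (StkCnt.IsoCl.mk A))).1 := by
        rw [map_mul, ← _root_.mul_assoc, ha, map_inv, mul_inv_eq_iff_eq_mul, _root_.mul_assoc, _root_.mul_assoc, hb,
          inv_mul_cancel_left]
      rw [← h3]
      exact (mul_inv_cancel_right _ _).symm
  have hfin : Fintype (StkCnt.IsoCl (StkCnt.pts (AlgSt.QuotSt Scheme.etalePrecoverage G aX) k)) :=
    @Fintype.ofFinite _ h.finite_isoCl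
  rw [StkCnt.ptCount, StkCnt.count_eq_sum, ← Finset.sum_fiberwise Finset.univ F]
  refine Finset.sum_congr rfl fun c _ => ?_
  have h5 := finite_cent (k := k) (k' := k) (kb := kb) (G := G) hπ ((z c).1 π)
  have h6 : Finite {x : SGA7.pt (K := k) kb ⟶ X // (z c).1 π • (s (k := k) π ≫ x) = x} :=
    (finite_tw (k := k) (k' := k) (kb := kb) aX hπ ((z c).1 π)).to_subtype
  rw [D.sum_fiber hψ ((z c).1 π) _ (fun A => by
    rw [Finset.mem_filter]
    simp only [Finset.mem_univ, true_and]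
    exact hF A c)]
  congr 2
  · rw [TwPts.card_actTwist hπ (hXz c)]
    rfl
  · rw [TwPts.card_innTwist hπ (hGin c)]
    refine Nat.card_congr (Equiv.subtypeEquivRight fun b => ?_)
    rw [mul_inv_eq_iff_eq_mul]
    rfl

end K815.SumTw
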