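import Groth.Agent.RedSub.H650.ValAC
import Mathlib.AlgebraicGeometry.Sites.Fpqc
import Mathlib.AlgebraicGeometry.Sites.Etale
import Mathlib.AlgebraicGeometry.PullbackCarrier

/-!
# Lifting geometric points along coverings
-/

set_option autoImplicit false
universe u
open CategoryTheory Limits AlgebraicGeometry

namespace K815.Cov

theorem mem_cov {P : MorphismProperty Scheme.{u}} {S : Scheme.{u}} {R : Presieve S} (hR : R ∈ Scheme.precoverage P S)
    (x : S) : ∃ (Y : Scheme.{u}) (f : Y ⟶ S), R f ∧ P f ∧ ∃ y : Y, f y = x := by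
  obtain ⟨h1, h2⟩ := hR
  obtain ⟨Y, f, hf, y, hy⟩ := (Presieve.mem_comap_jointlySurjectivePrecoverage_iff Scheme.forget).mp h1 x
  exact ⟨Y, f, hf, h2 hf, y, hy⟩

/-- A geometric point of `S` lifts along `f` locally of finite type as soon as its image point does. -/
theorem exists_lift_geom {Y S : Scheme.{u}} (f : Y ⟶ S) [LocallyOfFiniteType f] {K : Type u} [Field K] [IsAlgClosed K]
    (s : Spec (CommRingCat.of K) ⟶ S) (h : ∃ y : Y, f y = s (IsLocalRing.closedPoint K)) :
    ∃ y : Spec (CommRingCat.of K) ⟶ Y, y ≫ f = s := by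
  let π : pullback f s ⟶ Spec (CommRingCat.of K) := pullback.snd f s
  have h0 : Nonempty ↥(pullback f s) := by
    obtain ⟨y, hy⟩ := h
    obtain ⟨z, -, -⟩ := Scheme.Pullback.exists_preimage_pullback (f := f) (g := s) y (IsLocalRing.closedPoint K) hy
    exact ⟨z⟩
  have h1 : Surjective π := by
    constructor
    intro x
    have : Subsingleton (Spec (CommRingCat.of K)) := inferInstance
    exact ⟨h0.some, Subsingleton.elim _ _⟩
  obtain ⟨y, hy⟩ := Groth.Agent.RedSub.H650.ValAC.exists_lift_pt π K (𝟙 _)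
  refine ⟨y ≫ pullback.fst f s, ?_⟩
  rw [Category.assoc, pullback.condition, ← Category.assoc]
  exact (congrArg (· ≫ s) hy).trans (Category.id_comp s)

/-- A geometric point lifts to a member of an fppf covering. -/
theorem exists_fppf {S : Scheme.{u}} {R : Presieve S} (hR : R ∈ Scheme.fppfPrecoverage S) {K : Type u} [Field K]
    [IsAlgClosed K] (s : Spec (CommRingCat.of K) ⟶ S) :
    ∃ (Y : Scheme.{u}) (f : Y ⟶ S), R f ∧ ∃ y : Spec (CommRingCat.of K) ⟶ Y, y ≫ f = s := by
  obtain ⟨Y, f, h1, h2, h3⟩ := mem_cov hR (s (IsLocalRing.closedPoint K))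
  have : LocallyOfFinitePresentation f := h2.2
  exact ⟨Y, f, h1, exists_lift_geom f s h3⟩

/-- A geometric point lifts to a member of an etale covering. -/
theorem exists_etale {S : Scheme.{u}} {R : Presieve S} (hR : R ∈ Scheme.etalePrecoverage S) {K : Type u} [Field K]
    [IsAlgClosed K] (s : Spec (CommRingCat.of K) ⟶ S) :
    ∃ (Y : Scheme.{u}) (f : Y ⟶ S), R f ∧ ∃ y : Spec (CommRingCat.of K) ⟶ Y, y ≫ f = s := by
  obtain ⟨Y, f, h1, h2, h3⟩ := mem_cov hR (s (IsLocalRing.closedPoint K))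
  have : Etale f := h2
  exact ⟨Y, f, h1, exists_lift_geom f s h3⟩

end K815.Cov
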