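import Groth.Agent.StackCount.K815.TwLang
import Groth.Agent.Lefpen.H534.PointDescent

/-!
# Rational points and Galois fixed points

* `exists_chart`: a point with values in a field, in terms of an affine chart;
* `isOpen_stab`: stabilisers of geometric points are open;
* `exists_rat`: Frobenius-fixed points are rational; `ratEquiv`;
* `finite_fixed`: finitely many points fixed by a power of Frobenius.
-/

set_option autoImplicit false
set_option linter.unusedSectionVars false
universe u
open CategoryTheory Limits MonoidalCategory CartesianMonoidalCategory MonObj GrpObj AlgebraicGeometry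

namespace K815.Rat

open K815.Frob K815.PtsBC GalTw

section chart

variable {k : Type u} [Field k] {K : Type u} [Field K] [Algebra k K] {X : Over (Spec (CommRingCat.of k))}

/-- The ring map from `k` to the sections over an affine open. -/
noncomputable def kmap (X : Over (Spec (CommRingCat.of k))) (U : X.left.Opens) : CommRingCat.of k ⟶ Γ(X.left, U) :=
  (Scheme.ΓSpecIso (CommRingCat.of k)).inv ≫ X.hom.appLE ⊤ U le_top

theorem fromSpec_hom (U : X.left.Opens) (hU : IsAffineOpen U) : hU.fromSpec ≫ X.hom = Spec.map (kmap X U) := by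
  have h := IsAffineOpen.SpecMap_appLE_fromSpec X.hom (isAffineOpen_top (Spec (CommRingCat.of k))) hU le_top
  rw [← h, IsAffineOpen.fromSpec_top, kmap, Spec.map_comp]
  congr 1
  rw [← Scheme.isoSpec_Spec_inv]

theorem exists_chart (x : SGA7.Pts K X) (U : X.left.Opens) (hU : IsAffineOpen U)
    (hx : x.left (IsLocalRing.closedPoint K) ∈ U) :
    ∃ χ : Γ(X.left, U) ⟶ CommRingCat.of K, x.left = Spec.map χ ≫ hU.fromSpec ∧
      ∀ a : k, χ.hom ((kmap X U).hom a) = algebraMap k K a := by
  have h1 : Set.range x.left ⊆ Set.range hU.fromSpec := by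
    rintro _ ⟨y, rfl⟩
    have : Subsingleton (SGA7.pt (K := k) K).left := inferInstanceAs (Subsingleton (Spec (CommRingCat.of K)))
    rw [hU.range_fromSpec, Subsingleton.elim y (IsLocalRing.closedPoint K)]
    exact hx
  obtain ⟨χ, hχ⟩ := Spec.map_surjective (IsOpenImmersion.lift hU.fromSpec x.left h1)
  have h2 : x.left = Spec.map χ ≫ hU.fromSpec := by
    rw [hχ, IsOpenImmersion.lift_fac]
  refine ⟨χ, h2, fun a => ?_⟩
  have h3 : x.left ≫ X.hom = Spec.map (CommRingCat.ofHom (algebraMap k K)) := Over.w x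
  rw [h2, Category.assoc, fromSpec_hom, ← Spec.map_comp] at h3
  exact congrArg (fun f => f.hom a) (Spec.map_injective h3)

theorem smul_eq_iff_chart {x : SGA7.Pts K X} {U : X.left.Opens} {hU : IsAffineOpen U}
    {χ : Γ(X.left, U) ⟶ CommRingCat.of K} (h : x.left = Spec.map χ ≫ hU.fromSpec) (σ : K ≃ₐ[k] K) :
    σ • x = x ↔ ∀ a, σ (χ.hom a) = χ.hom a := by
  have h1 : (σ • x).left = Spec.map (χ ≫ CommRingCat.ofHom (σ : K →+* K)) ≫ hU.fromSpec := by
    rw [Spec.map_comp, Category.assoc, ← h]
    rfl
  constructor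
  · intro hx a
    have h2 : (σ • x).left = x.left := by rw [hx]
    rw [h1, h, cancel_mono] at h2
    exact congrArg (fun f => f.hom a) (Spec.map_injective h2)
  · intro hx
    apply Over.OverMorphism.ext
    rw [h1, h]
    congr 2
    ext a
    exact hx a

/-- Finitely many generators of a chart of a scheme locally of finite type. -/
theorem exists_gens [LocallyOfFiniteType X.hom] (U : X.left.Opens) (hU : IsAffineOpen U) :
    ∃ s : Finset Γ(X.left, U), ∀ (L : Type u) [CommRing L] (f g : Γ(X.left, U) →+* L),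
      (∀ a : k, f ((kmap X U).hom a) = g ((kmap X U).hom a)) → (∀ a ∈ s, f a = g a) → f = g := by
  have h1 : (X.hom.appLE ⊤ U le_top).hom.FiniteType :=
    X.hom.finiteType_appLE (isAffineOpen_top _) hU le_top
  have h2 : (kmap X U).hom.FiniteType := by
    rw [kmap, CommRingCat.hom_comp]
    exact h1.comp (RingHom.FiniteType.of_surjective _
      (ConcreteCategory.bijective_of_isIso (Scheme.ΓSpecIso (CommRingCat.of k)).inv).2)
  let _ : Algebra k Γ(X.left, U) := (kmap X U).hom.toAlgebra
  obtain ⟨s, hs⟩ := (show Algebra.FiniteType k Γ(X.left, U) from h2).out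
  refine ⟨s, fun L _ f g hfg hs' => ?_⟩
  let _ : Algebra k L := (f.comp (kmap X U).hom).toAlgebra
  let f' : Γ(X.left, U) →ₐ[k] L := { f with commutes' := fun a => rfl }
  let g' : Γ(X.left, U) →ₐ[k] L := { g with commutes' := fun a => (hfg a).symm }
  have h3 : f' = g' := AlgHom.ext_of_adjoin_eq_top hs (fun a ha => hs' a ha)
  exact congrArg (fun h : Γ(X.left, U) →ₐ[k] L => (h : Γ(X.left, U) →+* L)) h3

theorem exists_chart' (x : SGA7.Pts K X) : ∃ (U : X.left.Opens) (hU : IsAffineOpen U)
    (χ : Γ(X.left, U) ⟶ CommRingCat.of K), x.left = Spec.map χ ≫ hU.fromSpec ∧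
      ∀ a : k, χ.hom ((kmap X U).hom a) = algebraMap k K a := by
  obtain ⟨U, hU, hx, -⟩ := exists_isAffineOpen_mem_and_subset
    (show x.left (IsLocalRing.closedPoint K) ∈ (⊤ : X.left.Opens) from trivial)
  obtain ⟨χ, h1, h2⟩ := exists_chart x U hU hx
  exact ⟨U, hU, χ, h1, h2⟩

/-- Stabilisers of geometric points are open. -/
theorem isOpen_stab [Algebra.IsAlgebraic k K] [LocallyOfFiniteType X.hom] (x : SGA7.Pts K X) :
    IsOpen {σ : K ≃ₐ[k] K | σ • x = x} := by
  classical
  obtain ⟨U, hU, χ, h1, h2⟩ := exists_chart' x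
  obtain ⟨s, hs⟩ := exists_gens (X := X) U hU
  let E : IntermediateField k K := IntermediateField.adjoin k (χ.hom '' s)
  have hE : FiniteDimensional k E := by
    have : Finite (χ.hom '' (s : Set Γ(X.left, U))) := Finite.Set.finite_image _ _
    exact IntermediateField.finiteDimensional_adjoin (fun y _ => Algebra.IsIntegral.isIntegral y)
  have h3 : (MulAction.stabilizer (K ≃ₐ[k] K) x : Set (K ≃ₐ[k] K)) = {σ : K ≃ₐ[k] K | σ • x = x} := rfl
  rw [← h3]
  refine Subgroup.isOpen_mono (H₁ := E.fixingSubgroup) ?_ E.fixingSubgroup_isOpen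
  intro σ hσ
  rw [MulAction.mem_stabilizer_iff, smul_eq_iff_chart h1]
  rw [IntermediateField.mem_fixingSubgroup_iff] at hσ
  have h4 : (σ : K →+* K).comp χ.hom = χ.hom := by
    apply hs
    · intro a
      change σ (χ.hom ((kmap X U).hom a)) = _
      rw [h2, AlgEquiv.commutes]
    · intro a ha
      exact hσ _ (IntermediateField.subset_adjoin k _ ⟨a, ha, rfl⟩)
  exact fun a => congrArg (fun f : Γ(X.left, U) →+* K => f a) h4

end chart

section fin

variable {k : Type u} [Field k] [Finite k] {K : Type u} [Field K] [Algebra k K] {X : Over (Spec (CommRingCat.of k))}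

theorem mem_range_of_pow {x : K} (h : x ^ Nat.card k = x) : x ∈ Set.range (algebraMap k K) := by
  classical
  cases nonempty_fintype k
  have hq : 1 < Nat.card k := by rw [Nat.card_eq_fintype_card]; exact Fintype.one_lt_card
  let P : Polynomial K := Polynomial.X ^ Nat.card k - Polynomial.X
  have hP : P ≠ 0 := FiniteField.X_pow_card_sub_X_ne_zero K hq
  have hd : P.natDegree = Nat.card k := FiniteField.X_pow_card_sub_X_natDegree_eq K hq
  have h1 : (Finset.univ.image (algebraMap k K)) ⊆ P.roots.toFinset := by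
    intro y hy
    obtain ⟨a, -, rfl⟩ := Finset.mem_image.mp hy
    rw [Multiset.mem_toFinset, Polynomial.mem_roots hP]
    simp only [P, Polynomial.IsRoot.def, Polynomial.eval_sub, Polynomial.eval_pow, Polynomial.eval_X]
    rw [← map_pow, Nat.card_eq_fintype_card, FiniteField.pow_card, sub_self]
  have h2 : (Finset.univ.image (algebraMap k K)).card = Nat.card k := by
    rw [Finset.card_image_of_injective _ (algebraMap k K).injective, Finset.card_univ, Nat.card_eq_fintype_card]
  have h3 : (Finset.univ.image (algebraMap k K)) = P.roots.toFinset := by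
    apply Finset.eq_of_subset_of_card_le h1
    rw [h2, ← hd]
    exact (Multiset.toFinset_card_le _).trans (Polynomial.card_roots' P)
  have h4 : x ∈ P.roots.toFinset := by
    rw [Multiset.mem_toFinset, Polynomial.mem_roots hP]
    simp only [P, Polynomial.IsRoot.def, Polynomial.eval_sub, Polynomial.eval_pow, Polynomial.eval_X]
    rw [h, sub_self]
  rw [← h3] at h4
  obtain ⟨a, -, ha⟩ := Finset.mem_image.mp h4
  exact ⟨a, ha⟩

/-- `Spec K ⟶ Spec k`. -/
noncomputable def incl (k : Type u) [Field k] (K : Type u) [Field K] [Algebra k K] :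
    SGA7.pt (K := k) K ⟶ SGA7.pt (K := k) k :=
  Over.homMk (Spec.map (CommRingCat.ofHom (algebraMap k K))) (by
    change Spec.map _ ≫ Spec.map _ = Spec.map _
    rw [← Spec.map_comp]
    rfl)

theorem exists_rat {π : K ≃ₐ[k] K} (hπ : ∀ x, π x = x ^ Nat.card k) (x : SGA7.Pts K X) (h : π • x = x) :
    ∃ x₀ : SGA7.Pts k X, incl k K ≫ x₀ = x := by
  obtain ⟨U, hU, χ, h1, h2⟩ := exists_chart' x
  rw [smul_eq_iff_chart h1] at h
  have h3 : ∀ a, ∃ c : k, algebraMap k K c = χ.hom a := fun a => mem_range_of_pow (by rw [← hπ, h a])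
  choose c hc using h3
  have hinj : Function.Injective (algebraMap k K) := (algebraMap k K).injective
  let ψ : Γ(X.left, U) →+* k :=
    { toFun := c
      map_one' := hinj (by rw [hc, map_one, map_one])
      map_mul' := fun a b => hinj (by rw [hc, map_mul, map_mul, hc, hc])
      map_zero' := hinj (by rw [hc, map_zero, map_zero])
      map_add' := fun a b => hinj (by rw [hc, map_add, map_add, hc, hc]) }
  have h4 : Spec.map (CommRingCat.ofHom (algebraMap k K)) ≫ Spec.map (CommRingCat.ofHom ψ) = Spec.map χ := by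
    rw [← Spec.map_comp]
    congr 1
    ext a
    exact hc a
  have h5 : Spec.map (CommRingCat.ofHom (algebraMap k K)) ≫ Spec.map (CommRingCat.ofHom ψ) ≫ hU.fromSpec = x.left := by
    rw [h1, ← h4, Category.assoc]
  refine ⟨Over.homMk (Spec.map (CommRingCat.ofHom ψ) ≫ hU.fromSpec) ?_, ?_⟩
  · have := Groth.Agent.Lefpen.H534.PointDescent.epi_specMap (algebraMap k K)
    rw [← cancel_epi (Spec.map (CommRingCat.ofHom (algebraMap k K))), ← Category.assoc, h5, Over.w]
    exact (Over.w (incl k K)).symm
  · apply Over.OverMorphism.ext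
    exact h5

theorem fixed_incl (σ : K ≃ₐ[k] K) (x₀ : SGA7.Pts k X) : σ • (incl k K ≫ x₀ : SGA7.Pts K X) = incl k K ≫ x₀ := by
  rw [pts_smul_def, ← Category.assoc]
  congr 1
  apply Over.OverMorphism.ext
  exact SGA7.spec_map_algEquiv_comp σ

/-- Rational points are the points fixed by Frobenius. -/
noncomputable def ratEquiv {π : K ≃ₐ[k] K} (hπ : ∀ x, π x = x ^ Nat.card k) (X : Over (Spec (CommRingCat.of k))) :
    SGA7.Pts k X ≃ {x : SGA7.Pts K X // π • x = x} :=
  Equiv.ofBijective (fun x₀ => ⟨incl k K ≫ x₀, fixed_incl π x₀⟩) (by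
    constructor
    · intro x y h
      have h1 : incl k K ≫ x = incl k K ≫ y := congrArg Subtype.val h
      have := Groth.Agent.Lefpen.H534.PointDescent.epi_specMap (algebraMap k K)
      apply Over.OverMorphism.ext
      rw [← cancel_epi (Spec.map (CommRingCat.ofHom (algebraMap k K)))]
      exact congrArg CommaMorphism.left h1
    · rintro ⟨x, hx⟩
      obtain ⟨x₀, h⟩ := exists_rat hπ x hx
      exact ⟨x₀, Subtype.ext h⟩)

theorem card_rat {π : K ≃ₐ[k] K} (hπ : ∀ x, π x = x ^ Nat.card k) (X : Over (Spec (CommRingCat.of k))) :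
    Nat.card (SGA7.Pts k X) = Nat.card {x : SGA7.Pts K X // π • x = x} := Nat.card_congr (ratEquiv hπ X)

/-- Finitely many points are fixed by a power of Frobenius. -/
theorem finite_fixed [LocallyOfFiniteType X.hom] [QuasiCompact X.hom] {π : K ≃ₐ[k] K}
    (hπ : ∀ x, π x = x ^ Nat.card k) (n : ℕ) (hn : n ≠ 0) :
    {x : SGA7.Pts K X | π ^ n • x = x}.Finite := by
  classical
  have hq : 1 < Nat.card k ^ n := by
    cases nonempty_fintype k
    rw [Nat.card_eq_fintype_card]
    exact Nat.one_lt_pow hn Fintype.one_lt_card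
  have hR : {a : K | a ^ (Nat.card k ^ n) = a}.Finite := by
    let P : Polynomial K := Polynomial.X ^ (Nat.card k ^ n) - Polynomial.X
    have hP : P ≠ 0 := FiniteField.X_pow_card_sub_X_ne_zero K hq
    refine (P.roots.toFinset.finite_toSet).subset ?_
    intro a ha
    rw [Finset.mem_coe, Multiset.mem_toFinset, Polynomial.mem_roots hP]
    simp only [P, Polynomial.IsRoot.def, Polynomial.eval_sub, Polynomial.eval_pow, Polynomial.eval_X]
    rw [show a ^ (Nat.card k ^ n) = a from ha, sub_self]
  have hcomp : CompactSpace X.left := by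
    have := (quasiCompact_iff_compactSpace (f := X.hom)).mp inferInstance
    exact this
  have hU : ∀ y : X.left, ∃ U : X.left.Opens, IsAffineOpen U ∧ y ∈ U := by
    intro y
    obtain ⟨U, hU, hy, -⟩ := exists_isAffineOpen_mem_and_subset (show y ∈ (⊤ : X.left.Opens) from trivial)
    exact ⟨U, hU, hy⟩
  choose U hU1 hU2 using hU
  obtain ⟨t, ht⟩ := CompactSpace.elim_nhds_subcover (fun y => (U y : Set X.left))
    (fun y => (U y).isOpen.mem_nhds (hU2 y))
  have hs := fun y => exists_gens (X := X) (U y) (hU1 y)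
  choose s hs using hs
  -- the points with a chart at `y`, determined by the values at the generators
  have key : ∀ y : X.left, {x : SGA7.Pts K X | π ^ n • x = x ∧ x.left (IsLocalRing.closedPoint K) ∈ U y}.Finite := by
    intro y
    have h1 : ∀ x : {x : SGA7.Pts K X // π ^ n • x = x ∧ x.left (IsLocalRing.closedPoint K) ∈ U y},
        ∃ χ : Γ(X.left, U y) ⟶ CommRingCat.of K, x.1.left = Spec.map χ ≫ (hU1 y).fromSpec ∧
          ∀ a : k, χ.hom ((kmap X (U y)).hom a) = algebraMap k K a :=
      fun x => exists_chart x.1 (U y) (hU1 y) x.2.2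
    choose χ hχ1 hχ2 using h1
    have h2 : ∀ x a, (χ x).hom a ∈ {a : K | a ^ (Nat.card k ^ n) = a} := by
      intro x a
      have h3 := (smul_eq_iff_chart (hχ1 x) (π ^ n)).mp x.2.1 a
      rw [GalFin.pow_apply hπ] at h3
      exact h3
    have hfin : Finite {a : K | a ^ (Nat.card k ^ n) = a} := hR
    let ev : {x : SGA7.Pts K X // π ^ n • x = x ∧ x.left (IsLocalRing.closedPoint K) ∈ U y} →
        (s y → {a : K | a ^ (Nat.card k ^ n) = a}) := fun x a => ⟨(χ x).hom a.1, h2 x a.1⟩
    have hev : Function.Injective ev := by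
      intro x x' h
      have h4 : (χ x).hom = (χ x').hom := by
        apply hs y
        · intro a
          rw [hχ2, hχ2]
        · intro a ha
          exact congrArg (fun f => (f ⟨a, ha⟩).1) h
      have h5 : χ x = χ x' := CommRingCat.hom_ext h4
      apply Subtype.ext
      apply Over.OverMorphism.ext
      rw [hχ1, hχ1, h5]
    have : Finite {x : SGA7.Pts K X // π ^ n • x = x ∧ x.left (IsLocalRing.closedPoint K) ∈ U y} :=
      Finite.of_injective ev hev
    exact this
  refine (t.finite_toSet.biUnion fun y _ => key y).subset ?_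
  intro x hx
  have h6 : x.left (IsLocalRing.closedPoint K) ∈ ⋃ y ∈ t, (U y : Set X.left) := by
    rw [ht]; trivial
  simp only [Set.mem_iUnion] at h6 ⊢
  obtain ⟨y, hy, h7⟩ := h6
  exact ⟨y, hy, hx, h7⟩

end fin

end K815.Rat
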