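import Groth.Agent.StackCount.K815.Obj

/-!
# The cocycle of an object of `[X/G]` over a perfect field with a geometric point of its torsor
-/

set_option autoImplicit false
set_option linter.unusedSectionVars false
universe u
open CategoryTheory Limits MonoidalCategory CartesianMonoidalCategory MonObj GrpObj AlgebraicGeometry

namespace K815.Coc

open K815.Tors K815.Obj K815.PtEq AlgSt

variable {k k' kb : Type u} [Field k] [Field k'] [Field kb] [Algebra k k'] [Algebra k kb] [Algebra k' kb]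
  [IsScalarTower k k' kb]

instance : Flat (q k k' kb).left := by
  change Flat (Spec.map (CommRingCat.ofHom (algebraMap k' kb)))
  rw [Flat.SpecMap_iff, CommRingCat.hom_ofHom, RingHom.flat_algebraMap_iff]
  infer_instance

instance : Surjective (q k k' kb).left := by
  constructor
  intro x
  have : Subsingleton (SGA7.pt (K := k) k').left := inferInstanceAs (Subsingleton (Spec (CommRingCat.of k')))
  have : Nonempty (SGA7.pt (K := k) kb).left := inferInstanceAs (Nonempty (Spec (CommRingCat.of kb)))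
  exact ⟨Classical.choice this, Subsingleton.elim _ _⟩

instance : QuasiCompact (q k k' kb).left :=
  inferInstanceAs (QuasiCompact (Spec.map (CommRingCat.ofHom (algebraMap k' kb))))

variable {K : Precoverage Scheme.{u}} {G : Over (Spec (CommRingCat.of k))} [GrpObj G]
  {X : Over (Spec (CommRingCat.of k))} {aX : AlgGrp.Action G X}

section coc

variable (A : TObj K G aX (SGA7.pt (K := k) k')) (t : SGA7.pt (K := k) kb ⟶ A.P) (ht : t ≫ A.π = q k k' kb)

include ht

theorem exists_coc (σ : kb ≃ₐ[k'] kb) : ∃ g : SGA7.pt (K := k) kb ⟶ G, ac A.act g (s σ ≫ t) = t :=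
  exists_dv A.act A.π A.cart t (s σ ≫ t) (by rw [Category.assoc, ht, s_comp_q])

/-- The cocycle: `z(σ) · σ(t) = t`. -/
noncomputable def coc (σ : kb ≃ₐ[k'] kb) : SGA7.pt (K := k) kb ⟶ G := (exists_coc A t ht σ).choose

theorem coc_spec (σ : kb ≃ₐ[k'] kb) : ac A.act (coc A t ht σ) (s σ ≫ t) = t := (exists_coc A t ht σ).choose_spec

theorem coc_unique {σ : kb ≃ₐ[k'] kb} {g : SGA7.pt (K := k) kb ⟶ G} (h : ac A.act g (s σ ≫ t) = t) :
    g = coc A t ht σ := ac_inj A.act A.π A.cart (h.trans (coc_spec A t ht σ).symm)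

theorem coc_mul (σ τ : kb ≃ₐ[k'] kb) : coc A t ht (σ * τ) = coc A t ht σ * (s σ ≫ coc A t ht τ) := by
  symm
  apply coc_unique
  rw [ac_mul, s_mul, Category.assoc, ← comp_ac, coc_spec, coc_spec]

/-- The condition for an equivariant morphism out of the torsor only has to be checked on the Galois group. -/
theorem desc_cond [PerfectField k'] [Normal k' kb] {Y : Over (Spec (CommRingCat.of k))} (b : AlgGrp.Action G Y)
    (y : SGA7.pt (K := k) kb ⟶ Y) (hy : ∀ σ, ac b (coc A t ht σ) (s σ ≫ y) = y)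
    (Z : Over (Spec (CommRingCat.of k))) (x₀ x₁ : Z ⟶ SGA7.pt (K := k) kb) (g : Z ⟶ G)
    (hg : ac A.act g (x₁ ≫ t) = x₀ ≫ t) : ac b g (x₁ ≫ y) = x₀ ≫ y := by
  obtain ⟨ζ, hζ⟩ := exists_dv A.act A.π A.cart (p0 k k' kb ≫ t) (p1 k k' kb ≫ t) (by
    rw [Category.assoc, Category.assoc, ht, p0_q])
  have h1 : ac b ζ (p1 k k' kb ≫ y) = p0 k k' kb ≫ y := by
    apply uni2
    intro σ r h0 h1
    have h2 : r ≫ ζ = coc A t ht σ := by
      apply coc_unique
      rw [← h1, Category.assoc, ← comp_ac, hζ, ← Category.assoc, h0, Category.id_comp]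
    rw [comp_ac, h2, ← Category.assoc, h1, hy, ← Category.assoc, h0, Category.id_comp]
  have hq : x₀ ≫ q k k' kb = x₁ ≫ q k k' kb := by
    rw [← ht, ← Category.assoc, ← hg, ac_π A.act A.π A.cart, Category.assoc]
  obtain ⟨r, h2, h3⟩ := exists_lift2 x₀ x₁ hq
  have h4 : g = r ≫ ζ := by
    apply ac_inj A.act A.π A.cart (p := x₁ ≫ t)
    rw [hg, ← h3, Category.assoc, ← comp_ac, hζ, ← Category.assoc, h2]
  rw [h4, ← h3, Category.assoc, ← comp_ac, h1, ← Category.assoc, h2]

/-- The equivariant map to `X` on the point `t`. -/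
theorem coc_φ (σ : kb ≃ₐ[k'] kb) : ac aX (coc A t ht σ) (s σ ≫ t ≫ A.φ) = t ≫ A.φ := by
  rw [← Category.assoc, ← A.eqv', coc_spec]

end coc

section hom

variable (A B : TObj K G aX (SGA7.pt (K := k) k')) (t : SGA7.pt (K := k) kb ⟶ A.P) (ht : t ≫ A.π = q k k' kb)
  (t' : SGA7.pt (K := k) kb ⟶ B.P) (ht' : t' ≫ B.π = q k k' kb)

theorem cond_of_isHom {f : A.P ⟶ B.P} (hf : IsHom A B f) {h : SGA7.pt (K := k) kb ⟶ G} (hh : t ≫ f = ac B.act h t') :
    (∀ σ, coc A t ht σ * (s σ ≫ h) = h * coc B t' ht' σ) ∧ ac aX h (t' ≫ B.φ) = t ≫ A.φ := by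
  constructor
  · intro σ
    apply ac_inj B.act B.π B.cart (p := s σ ≫ t')
    rw [ac_mul, ac_mul, coc_spec, ← comp_ac, ← hh, ← Category.assoc, ← hf.eqv, coc_spec]
  · rw [← B.eqv', ← hh, Category.assoc, hf.wφ]

theorem exists_isHom_of_cond [PerfectField k'] [Normal k' kb] {h : SGA7.pt (K := k) kb ⟶ G}
    (h1 : ∀ σ, coc A t ht σ * (s σ ≫ h) = h * coc B t' ht' σ) (h2 : ac aX h (t' ≫ B.φ) = t ≫ A.φ) :
    ∃ f : A.P ⟶ B.P, t ≫ f = ac B.act h t' ∧ IsHom A B f := by
  refine exists_isHom (q k k' kb) t ht (ac B.act h t') ?_ ?_ ?_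
  · refine desc_cond A t ht B.act _ fun σ => ?_
    rw [comp_ac, ← ac_mul, h1, ac_mul, coc_spec]
  · rw [ac_π B.act B.π B.cart, ht']
  · rw [B.eqv', h2]

/-- Morphisms in the fibre category, in terms of cocycles. -/
theorem exists_homEquiv [PerfectField k'] [Normal k' kb] :
    Nonempty ((A.toFiber ⟶ B.toFiber) ≃ {h : SGA7.pt (K := k) kb ⟶ G //
      (∀ σ, coc A t ht σ * (s σ ≫ h) = h * coc B t' ht' σ) ∧ ac aX h (t' ≫ B.φ) = t ≫ A.φ}) := by
  have hh : ∀ F : A.toFiber ⟶ B.toFiber, ∃ h : SGA7.pt (K := k) kb ⟶ G, ac B.act h t' = t ≫ top F := fun F =>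
    exists_dv B.act B.π B.cart _ _ (by rw [Category.assoc, (isHom_top F).wπ, ht, ht'])
  choose h hh using hh
  refine ⟨Equiv.ofBijective (fun F => ⟨h F, cond_of_isHom A B t ht t' ht' (isHom_top F) (hh F).symm⟩) ⟨?_, ?_⟩⟩
  · intro F F' hFF
    have h1 : h F = h F' := congrArg Subtype.val hFF
    apply fiber_hom_ext
    apply IsHom.ext (q k k' kb) (isHom_top F) (isHom_top F') t ht
    rw [← hh, ← hh, h1]
  · rintro ⟨g, h1, h2⟩
    obtain ⟨f, hf1, hf2⟩ := exists_isHom_of_cond A B t ht t' ht' h1 h2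
    have := hf2.isIso (q k k' kb) t ht
    obtain ⟨F, hF⟩ := exists_fiber_hom hf2
    refine ⟨F, Subtype.ext ?_⟩
    apply ac_inj B.act B.π B.cart (p := t')
    rw [hh, hF]
    exact hf1

include ht ht' in
/-- All morphisms of the fibre category are isomorphisms. -/
theorem isIso_fiber_hom [PerfectField k'] [Normal k' kb] (F : A.toFiber ⟶ B.toFiber) : IsIso F := by
  have h1 : ∃ h : SGA7.pt (K := k) kb ⟶ G, ac B.act h t' = t ≫ top F :=
    exists_dv B.act B.π B.cart _ _ (by rw [Category.assoc, (isHom_top F).wπ, ht, ht'])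
  obtain ⟨h, hh⟩ := h1
  obtain ⟨h1, h2⟩ := cond_of_isHom A B t ht t' ht' (isHom_top F) hh.symm
  obtain ⟨f, hf1, hf2⟩ := exists_isHom_of_cond B A t' ht' t ht (h := h⁻¹) (by
    intro σ
    have h3 := h1 σ
    rw [GrpObj.comp_inv]
    rw [mul_inv_eq_iff_eq_mul, _root_.mul_assoc, h3, inv_mul_cancel_left]) (by
    rw [← h2, ac_inv_ac])
  have := hf2.isIso (q k k' kb) t' ht'
  obtain ⟨F', hF'⟩ := exists_fiber_hom hf2
  refine ⟨F', ?_, ?_⟩
  · apply fiber_hom_ext
    apply IsHom.ext (q k k' kb) (isHom_top _) (isHom_top _) t ht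
    rw [top_comp, top_id, hF', ← Category.assoc, ← hh, hf2.eqv, hf1, ac_ac_inv, Category.comp_id]
  · apply fiber_hom_ext
    apply IsHom.ext (q k k' kb) (isHom_top _) (isHom_top _) t' ht'
    rw [top_comp, top_id, hF', ← Category.assoc, hf1, (isHom_top F).eqv, ← hh, ac_inv_ac, Category.comp_id]

end hom

end K815.Coc
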