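import Groth.Agent.StackCount.K815.Lc
import Groth.Prelude.Def_StkCnt

/-!
# The groupoid of points of `[X/G]` over a finite field in terms of pairs `(g, x)` with `g · φ x = x`
-/

set_option autoImplicit false
set_option linter.unusedSectionVars false
universe u
open CategoryTheory Limits MonoidalCategory CartesianMonoidalCategory MonObj GrpObj AlgebraicGeometry

namespace K815.Dict

open K815.Tors K815.Obj K815.PtEq K815.Coc K815.Ess K815.Lc

variable {k k' kb : Type u} [Field k] [Field k'] [Field kb] [Algebra k k'] [Algebra k kb] [Algebra k' kb]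
  [IsScalarTower k k' kb]

section lc

/-- The cocycle of a point with open stabiliser is locally constant. -/
theorem isLocallyConstant_coc {K : Precoverage Scheme.{u}} {G X : Over (Spec (CommRingCat.of k))} [GrpObj G]
    {aX : AlgGrp.Action G X} (A : TObj K G aX (SGA7.pt (K := k) k')) (t : SGA7.pt (K := k) kb ⟶ A.P)
    (ht : t ≫ A.π = q k k' kb) (hop : IsOpen {σ : kb ≃ₐ[k'] kb | s (k := k) σ ≫ t = t}) :
    IsLocallyConstant (coc A t ht) := by
  rw [IsLocallyConstant.iff_exists_open]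
  intro σ
  refine ⟨(fun τ => σ⁻¹ * τ) ⁻¹' {σ : kb ≃ₐ[k'] kb | s (k := k) σ ≫ t = t},
    hop.preimage (continuous_const_mul σ⁻¹), ?_, ?_⟩
  · change s (k := k) (σ⁻¹ * σ) ≫ t = t
    rw [inv_mul_cancel, s_one, Category.id_comp]
  · intro τ hτ
    have hτ' : s (k := k) (σ⁻¹ * τ) ≫ t = t := hτ
    symm
    apply coc_unique
    have h1 : s (k := k) σ ≫ s (k := k) (σ⁻¹ * τ) ≫ t = s (k := k) τ ≫ t := by
      rw [← Category.assoc, ← s_mul, mul_inv_cancel_left]
    rw [← h1, hτ']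
    exact coc_spec A t ht σ

theorem isLocallyConstant_s [Algebra.IsAlgebraic k kb] {X : Over (Spec (CommRingCat.of k))}
    [LocallyOfFiniteType X.hom] (x : SGA7.pt (K := k) kb ⟶ X) :
    IsLocallyConstant fun σ : kb ≃ₐ[k'] kb => s (k := k) σ ≫ x := by
  rw [IsLocallyConstant.iff_exists_open]
  intro τ
  refine ⟨(fun σ => τ⁻¹ * σ) ⁻¹' {σ : kb ≃ₐ[k'] kb | s (k := k) σ ≫ x = x},
    (isOpen_stab (k := k) (k' := k') x).preimage (continuous_const_mul τ⁻¹), ?_, ?_⟩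
  · change s (k := k) (τ⁻¹ * τ) ≫ x = x
    rw [inv_mul_cancel, s_one, Category.id_comp]
  · intro σ hσ
    have hσ' : s (k := k) (τ⁻¹ * σ) ≫ x = x := hσ
    have h1 : s (k := k) τ ≫ s (k := k) (τ⁻¹ * σ) ≫ x = s (k := k) σ ≫ x := by
      rw [← Category.assoc, ← s_mul, mul_inv_cancel_left]
    rw [← h1, hσ']

end lc

variable [Finite k] [Finite k'] [IsAlgClosed kb] [Algebra.IsAlgebraic k kb]

/-- Locally constant cocycles are determined by the value at Frobenius. -/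
theorem cocycle_ext {G : Over (Spec (CommRingCat.of k))} [GrpObj G] {π' : kb ≃ₐ[k'] kb}
    (hπ' : ∀ x, π' x = x ^ Nat.card k') {z z' : (kb ≃ₐ[k'] kb) → (SGA7.pt (K := k) kb ⟶ G)}
    (hz : IsLocallyConstant z) (hz' : IsLocallyConstant z') (hzm : ∀ σ τ, z (σ * τ) = z σ * (s σ ≫ z τ))
    (hzm' : ∀ σ τ, z' (σ * τ) = z' σ * (s σ ≫ z' τ)) (h : z π' = z' π') : z = z' := by
  have halg : Algebra.IsAlgebraic k' kb := Algebra.IsAlgebraic.tower_top (K := k) k'
  have h1 : ∀ {w : (kb ≃ₐ[k'] kb) → (SGA7.pt (K := k) kb ⟶ G)}, (∀ σ τ, w (σ * τ) = w σ * (s σ ≫ w τ)) → w 1 = 1 := by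
    intro w hw
    have := hw 1 1
    rw [_root_.mul_one, s_one, Category.id_comp] at this
    exact (mul_eq_left.mp this.symm)
  refine (GalFin.gen hπ').ext_lc hz hz' fun i => ?_
  induction i with
  | zero => rw [pow_zero, h1 hzm, h1 hzm']
  | succ i ih => rw [pow_succ, hzm, hzm', ih, h]

/-- The compatibility condition only has to be checked at Frobenius. -/
theorem cond_iff {K : Precoverage Scheme.{u}} {G X : Over (Spec (CommRingCat.of k))} [GrpObj G]
    [LocallyOfFiniteType G.hom] {aX : AlgGrp.Action G X} {π' : kb ≃ₐ[k'] kb}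
    (hπ' : ∀ x, π' x = x ^ Nat.card k')
    (A B : TObj K G aX (SGA7.pt (K := k) k')) (t : SGA7.pt (K := k) kb ⟶ A.P) (ht : t ≫ A.π = q k k' kb)
    (t' : SGA7.pt (K := k) kb ⟶ B.P) (ht' : t' ≫ B.π = q k k' kb)
    (hop : IsOpen {σ : kb ≃ₐ[k'] kb | s (k := k) σ ≫ t = t})
    (hop' : IsOpen {σ : kb ≃ₐ[k'] kb | s (k := k) σ ≫ t' = t'}) (h : SGA7.pt (K := k) kb ⟶ G) :
    (∀ σ, coc A t ht σ * (s σ ≫ h) = h * coc B t' ht' σ) ↔ coc A t ht π' * (s π' ≫ h) = h * coc B t' ht' π' := by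
  refine ⟨fun H => H π', fun H => ?_⟩
  have h1 : (fun σ => h⁻¹ * coc A t ht σ * (s σ ≫ h)) = coc B t' ht' := by
    refine cocycle_ext hπ' ?_ (isLocallyConstant_coc B t' ht' hop') ?_ (coc_mul B t' ht') ?_
    · exact ((isLocallyConstant_coc A t ht hop).prodMk (isLocallyConstant_s (k := k) (k' := k') h)).comp
        (fun p : (SGA7.pt (K := k) kb ⟶ G) × (SGA7.pt (K := k) kb ⟶ G) => h⁻¹ * p.1 * p.2)
    · intro σ τ
      rw [coc_mul, s_mul, MonObj.comp_mul, MonObj.comp_mul, GrpObj.comp_inv, Category.assoc]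
      simp only [_root_.mul_assoc, mul_inv_cancel_left]
    · rw [_root_.mul_assoc, H, inv_mul_cancel_left]
  intro σ
  rw [← h1]
  simp only [_root_.mul_assoc, mul_inv_cancel_left]

/-- **The dictionary**: objects of `[X/G]` over a finite field `k'` are pairs `(g, x)` with `g · φ x = x`. -/
theorem exists_dict {G X : Over (Spec (CommRingCat.of k))} [GrpObj G] [LocallyOfFiniteType G.hom]
    [IsAffineHom G.hom] [LocallyOfFiniteType X.hom] {aX : AlgGrp.Action G X} {π' : kb ≃ₐ[k'] kb}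
    (hπ' : ∀ x, π' x = x ^ Nat.card k') :
    ∃ pr : StkCnt.pts (AlgSt.QuotSt Scheme.etalePrecoverage G aX) k' → (SGA7.Pts kb G × SGA7.Pts kb X),
      (∀ A, ac aX (pr A).1 (s π' ≫ (pr A).2) = (pr A).2) ∧
      (∀ (g : SGA7.Pts kb G) (x : SGA7.Pts kb X), ac aX g (s π' ≫ x) = x →
        ∃ (A : StkCnt.pts (AlgSt.QuotSt Scheme.etalePrecoverage G aX) k') (h : SGA7.Pts kb G),
          g * (s π' ≫ h) = h * (pr A).1 ∧ ac aX h (pr A).2 = x) ∧
      (∀ A B, Nonempty ((A ⟶ B) ≃ {h : SGA7.Pts kb G //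
        (pr A).1 * (s π' ≫ h) = h * (pr B).1 ∧ ac aX h (pr B).2 = (pr A).2})) ∧
      (∀ (A B : StkCnt.pts (AlgSt.QuotSt Scheme.etalePrecoverage G aX) k') (f : A ⟶ B), IsIso f) := by
  have halg : Algebra.IsAlgebraic k' kb := Algebra.IsAlgebraic.tower_top (K := k) k'
  have hcl : IsAlgClosure k' kb := ⟨inferInstance, halg⟩
  have hnor : Normal k' kb := IsAlgClosure.normal k' kb
  have h0 : ∀ A : StkCnt.pts (AlgSt.QuotSt Scheme.etalePrecoverage G aX) k',
      ∃ (O : TObj Scheme.etalePrecoverage G aX (SGA7.pt (K := k) k')) (t : SGA7.pt (K := k) kb ⟶ O.P)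
        (_ : t ≫ O.π = q k k' kb), O.toFiber = A ∧ IsOpen {σ : kb ≃ₐ[k'] kb | s (k := k) σ ≫ t = t} := by
    intro A
    obtain ⟨O, hO⟩ := Obj.exists_tobj A
    obtain ⟨t, ht, hop⟩ := exists_point (kb := kb) O
    exact ⟨O, t, ht, hO, hop⟩
  choose O t ht hO hop using h0
  have hhom : ∀ (A B : StkCnt.pts (AlgSt.QuotSt Scheme.etalePrecoverage G aX) k'),
      Nonempty ((A ⟶ B) ≃ {h : SGA7.Pts kb G //
        coc (O A) (t A) (ht A) π' * (s π' ≫ h) = h * coc (O B) (t B) (ht B) π' ∧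
          ac aX h (t B ≫ (O B).φ) = t A ≫ (O A).φ}) := by
    intro A B
    obtain ⟨e⟩ := exists_homEquiv (O A) (O B) (t A) (ht A) (t B) (ht B)
    have e1 : (A ⟶ B) ≃ ((O A).toFiber ⟶ (O B).toFiber) :=
      Equiv.cast (congrArg₂ (fun U V : StkCnt.pts (AlgSt.QuotSt Scheme.etalePrecoverage G aX) k' => (U ⟶ V))
        (hO A) (hO B)).symm
    refine ⟨e1.trans (e.trans (Equiv.subtypeEquivRight fun h => ?_))⟩
    rw [cond_iff hπ' (O A) (O B) (t A) (ht A) (t B) (ht B) (hop A) (hop B)]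
  refine ⟨fun A => (coc (O A) (t A) (ht A) π', t A ≫ (O A).φ), ?_, ?_, hhom, ?_⟩
  · intro A
    exact coc_φ (O A) (t A) (ht A) π'
  · intro g x hx
    obtain ⟨P, t', ht', h1, h2⟩ := exists_obj (aX := aX) hπ' g x hx
    refine ⟨P.toFiber, ?_⟩
    -- compare `P` with the chosen representative
    have h3 : (O P.toFiber).toFiber = P.toFiber := hO P.toFiber
    obtain ⟨e⟩ := exists_homEquiv P (O P.toFiber) t' ht' (t P.toFiber) (ht P.toFiber)
    obtain ⟨h, h4, h5⟩ := e (eqToHom h3.symm)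
    refine ⟨h, ?_, ?_⟩
    · rw [← h1]
      exact h4 π'
    · rw [h5, h2]
  · intro A B f
    obtain ⟨OA, tA, htA, rfl, -⟩ : ∃ (O : TObj Scheme.etalePrecoverage G aX (SGA7.pt (K := k) k'))
        (t : SGA7.pt (K := k) kb ⟶ O.P) (_ : t ≫ O.π = q k k' kb), O.toFiber = A ∧ True :=
      ⟨O A, t A, ht A, hO A, trivial⟩
    obtain ⟨OB, tB, htB, rfl, -⟩ : ∃ (O : TObj Scheme.etalePrecoverage G aX (SGA7.pt (K := k) k'))
        (t : SGA7.pt (K := k) kb ⟶ O.P) (_ : t ≫ O.π = q k k' kb), O.toFiber = B ∧ True :=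
      ⟨O B, t B, ht B, hO B, trivial⟩
    exact isIso_fiber_hom OA OB tA htA tB htB f

end K815.Dict
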