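import Groth.Prelude.Def_StkCnt
import Mathlib.GroupTheory.GroupAction.Quotient
import Mathlib.Algebra.BigOperators.Field

/-!
# Counting objects of a groupoid described by pairs `(g, x)` with `g • ψ x = x`
-/

set_option autoImplicit false
universe u v w z
open CategoryTheory

namespace K815.Mass

/-- The counting principle: if every non-empty fibre of `p : Y → IsoCl C` has `N / #Aut` elements, then the sum of
`1 / #Aut` over the image of `p` is `#Y / N`. -/
theorem sum_image {C : Type u} [Category.{v} C] {Y : Type w} [Finite Y] (N : ℕ) (hN : N ≠ 0)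
    (p : Y → StkCnt.IsoCl C) (h : ∀ y, Nat.card {y' // p y' = p y} * StkCnt.autCard C (p y) = N)
    (S : Finset (StkCnt.IsoCl C)) (hS : ∀ c, c ∈ S ↔ ∃ y, p y = c) :
    ∑ c ∈ S, ((StkCnt.autCard C c : ℕ) : ℚ)⁻¹ = (Nat.card Y : ℚ) / (N : ℚ) := by
  classical
  cases nonempty_fintype Y
  have h1 : ∀ c ∈ S, ((StkCnt.autCard C c : ℕ) : ℚ)⁻¹ = (((Finset.univ.filter fun y => p y = c).card : ℕ) : ℚ) / N := by
    intro c hc
    obtain ⟨y, rfl⟩ := (hS c).1 hc
    have h2 := h y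
    rw [Nat.card_eq_fintype_card, Fintype.card_subtype] at h2
    have h3 : (N : ℚ) ≠ 0 := Nat.cast_ne_zero.2 hN
    have h4 : ((StkCnt.autCard C (p y) : ℕ) : ℚ) ≠ 0 := by
      rw [Nat.cast_ne_zero]
      intro h5
      rw [h5, mul_zero] at h2
      exact hN h2.symm
    rw [eq_div_iff h3, inv_mul_eq_iff_eq_mul₀ h4, mul_comm, ← Nat.cast_mul, h2]
  rw [Finset.sum_congr rfl h1, ← Finset.sum_div, ← Nat.cast_sum, Nat.card_eq_fintype_card]
  congr 2
  have h6 := Finset.card_eq_sum_card_fiberwise (f := p) (s := Finset.univ) (t := S) (fun y _ => (hS _).2 ⟨y, rfl⟩)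
  rw [← h6, Finset.card_univ]

variable {Γ : Type w} {Ω : Type z} [Group Γ] [MulAction Γ Ω]

/-- The objects of the category `C` are described by pairs `(g, x)` with `g • ψ x = x`, the morphisms from `(g, x)` to
`(g', x')` are the `h` with `g φ(h) = h g'` and `h • x' = x`. -/
structure Dict (C : Type u) [Category.{v} C] (φ : Γ →* Γ) (ψ : Ω → Ω) where
  /-- the pair attached to an object -/
  pr : C → Γ × Ω
  fix : ∀ A, (pr A).1 • ψ (pr A).2 = (pr A).2
  surj : ∀ (g : Γ) (x : Ω), g • ψ x = x → ∃ (A : C) (h : Γ), g * φ h = h * (pr A).1 ∧ h • (pr A).2 = x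
  hom : ∀ A B, Nonempty ((A ⟶ B) ≃ {h : Γ // (pr A).1 * φ h = h * (pr B).1 ∧ h • (pr B).2 = (pr A).2})
  iso : ∀ (A B : C) (f : A ⟶ B), IsIso f

variable {C : Type u} [Category.{v} C] {φ : Γ →* Γ} {ψ : Ω → Ω} (D : Dict C φ ψ)

namespace Dict

include D

theorem mk_eq_iff (A B : C) : StkCnt.IsoCl.mk A = StkCnt.IsoCl.mk B ↔
    ∃ h : Γ, (D.pr A).1 * φ h = h * (D.pr B).1 ∧ h • (D.pr B).2 = (D.pr A).2 := by
  obtain ⟨e⟩ := D.hom A B
  constructor
  · intro h
    obtain ⟨i⟩ : Nonempty (A ≅ B) := Quotient.exact h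
    exact ⟨_, (e i.hom).2⟩
  · rintro ⟨h, hh⟩
    have := D.iso A B (e.symm ⟨h, hh⟩)
    exact Quotient.sound ⟨asIso (e.symm ⟨h, hh⟩)⟩

theorem autCard (A : C) : StkCnt.autCard C (StkCnt.IsoCl.mk A) =
    Nat.card {h : Γ // (D.pr A).1 * φ h = h * (D.pr A).1 ∧ h • (D.pr A).2 = (D.pr A).2} := by
  obtain ⟨e⟩ := D.hom A A
  rw [StkCnt.autCard_mk]
  have := D.iso A A
  refine Nat.card_congr ((Equiv.ofBijective (fun f : Aut A => f.hom) ⟨?_, ?_⟩).trans e)
  · intro f g hfg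
    exact Iso.ext hfg
  · intro f
    exact ⟨asIso f, rfl⟩

end Dict

/-- The twisted centraliser. -/
def cent (φ : Γ →* Γ) (g : Γ) : Subgroup Γ where
  carrier := {h | g * φ h = h * g}
  one_mem' := by
    change g * φ 1 = 1 * g
    rw [map_one, mul_one, one_mul]
  mul_mem' := by
    intro a b ha hb
    change g * φ (a * b) = a * b * g
    rw [map_mul, ← mul_assoc, show g * φ a = a * g from ha, mul_assoc, show g * φ b = b * g from hb, mul_assoc]
  inv_mem' := by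
    intro a ha
    change g * φ a⁻¹ = a⁻¹ * g
    have ha' : g * φ a = a * g := ha
    rw [map_inv, mul_inv_eq_iff_eq_mul, mul_assoc, ha', inv_mul_cancel_left]

theorem mem_cent {g h : Γ} : h ∈ cent φ g ↔ g * φ h = h * g := Iff.rfl

namespace Dict

include D

/-- Two pairs are isomorphic. -/
def Rel (φ : Γ →* Γ) (p p' : Γ × Ω) : Prop := ∃ h : Γ, p.1 * φ h = h * p'.1 ∧ h • p'.2 = p.2

omit D in
theorem Rel.symm {p p' : Γ × Ω} (h : Rel φ p p') : Rel φ p' p := by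
  obtain ⟨h, h1, h2⟩ := h
  refine ⟨h⁻¹, ?_, ?_⟩
  · rw [map_inv, mul_inv_eq_iff_eq_mul, mul_assoc, h1, inv_mul_cancel_left]
  · rw [← h2, inv_smul_smul]

omit D in
theorem Rel.trans {p p' p'' : Γ × Ω} (h : Rel φ p p') (h' : Rel φ p' p'') : Rel φ p p'' := by
  obtain ⟨h, h1, h2⟩ := h
  obtain ⟨h', h1', h2'⟩ := h'
  refine ⟨h * h', ?_, ?_⟩
  · rw [map_mul, ← mul_assoc, h1, mul_assoc, h1', mul_assoc]
  · rw [mul_smul, h2', h2]

omit D in
/-- The number of automorphisms only depends on the isomorphism class. -/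
theorem Rel.card_eq {p p' : Γ × Ω} (h : Rel φ p p') :
    Nat.card {h : Γ // p.1 * φ h = h * p.1 ∧ h • p.2 = p.2} =
      Nat.card {h : Γ // p'.1 * φ h = h * p'.1 ∧ h • p'.2 = p'.2} := by
  obtain ⟨a, h1, h2⟩ := h
  have h1' : a⁻¹ * p.1 = p'.1 * (φ a)⁻¹ := by
    rw [eq_mul_inv_iff_mul_eq, mul_assoc, h1, inv_mul_cancel_left]
  refine Nat.card_congr
    { toFun := fun h => ⟨a⁻¹ * h.1 * a, ?_, ?_⟩
      invFun := fun h => ⟨a * h.1 * a⁻¹, ?_, ?_⟩
      left_inv := fun h => ?_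
      right_inv := fun h => ?_ }
  · have h3 := h.2.1
    rw [map_mul, map_mul, map_inv, ← mul_assoc, ← mul_assoc, ← h1', mul_assoc a⁻¹, h3, mul_assoc, mul_assoc, h1]
    simp only [mul_assoc]
  · rw [mul_smul, mul_smul, h2, h.2.2, ← h2, inv_smul_smul]
  · have h3 := h.2.1
    rw [map_mul, map_mul, map_inv, ← mul_assoc, ← mul_assoc, h1, mul_assoc a, h3, mul_assoc, mul_assoc, ← h1']
    simp only [mul_assoc]
  · have h3 := h.2.2
    rw [mul_smul, mul_smul, ← h2, inv_smul_smul, h3]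
  · apply Subtype.ext
    simp only [mul_assoc, mul_inv_cancel_left, mul_inv_cancel, mul_one]
  · apply Subtype.ext
    simp only [mul_assoc, inv_mul_cancel_left, inv_mul_cancel, mul_one]

/-- An object for a pair. -/
theorem exists_obj (p : Γ × Ω) (hp : p.1 • ψ p.2 = p.2) : ∃ A : C, Rel φ p (D.pr A) := D.surj p.1 p.2 hp

/-- **The mass of the objects with given class of `g`.** -/
theorem sum_fiber (hψ : ∀ (g : Γ) (x : Ω), ψ (g • x) = φ g • ψ x) (g : Γ) [Finite (cent φ g)]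
    [Finite {x : Ω // g • ψ x = x}]
    (S : Finset (StkCnt.IsoCl C))
    (hS : ∀ A : C, StkCnt.IsoCl.mk A ∈ S ↔ ∃ h : Γ, g * φ h = h * (D.pr A).1) :
    ∑ c ∈ S, ((StkCnt.autCard C c : ℕ) : ℚ)⁻¹ =
      (Nat.card {x : Ω // g • ψ x = x} : ℚ) / (Nat.card (cent φ g) : ℚ) := by
  classical
  choose ob hob using fun x : {x : Ω // g • ψ x = x} => D.exists_obj (g, x.1) x.2
  let _ : MulAction (cent φ g) {x : Ω // g • ψ x = x} :=
    { smul := fun h x => ⟨h.1 • x.1, by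
        rw [hψ, ← mul_smul, mem_cent.1 h.2, mul_smul, x.2]⟩
      one_smul := fun x => Subtype.ext (one_smul Γ x.1)
      mul_smul := fun h h' x => Subtype.ext (mul_smul h.1 h'.1 x.1) }
  have hsm : ∀ (h : cent φ g) (x : {x : Ω // g • ψ x = x}), (h • x).1 = h.1 • x.1 := fun _ _ => rfl
  refine sum_image (Nat.card (cent φ g)) Nat.card_pos.ne' (fun x => StkCnt.IsoCl.mk (ob x)) ?_ S ?_
  · intro y
    rw [D.autCard, ← (hob y).card_eq]
    have h1 : Nat.card {y' // StkCnt.IsoCl.mk (ob y') = StkCnt.IsoCl.mk (ob y)} =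
        Nat.card (MulAction.orbit (cent φ g) y) := by
      refine Nat.card_congr (Equiv.subtypeEquivRight fun y' => ?_)
      rw [D.mk_eq_iff]
      change Rel φ (D.pr (ob y')) (D.pr (ob y)) ↔ _
      constructor
      · intro h2
        obtain ⟨a, h3, h4⟩ := ((hob y').trans h2).trans (hob y).symm
        exact ⟨⟨a, h3⟩, Subtype.ext h4⟩
      · rintro ⟨a, rfl⟩
        exact ((hob _).symm.trans (show Rel φ (g, (a • y).1) (g, y.1) from ⟨a.1, a.2, rfl⟩)).trans (hob y)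
    have h2 : Nat.card {h : Γ // g * φ h = h * g ∧ h • y.1 = y.1} =
        Nat.card (MulAction.stabilizer (cent φ g) y) := by
      refine Nat.card_congr
        { toFun := fun h => ⟨⟨h.1, h.2.1⟩, Subtype.ext h.2.2⟩
          invFun := fun h => ⟨h.1.1, h.1.2, congrArg Subtype.val h.2⟩
          left_inv := fun h => rfl
          right_inv := fun h => rfl }
    rw [h1, h2]
    rw [← Nat.card_prod]
    exact Nat.card_congr (MulAction.orbitProdStabilizerEquivGroup (cent φ g) y)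
  · intro c
    obtain ⟨A, rfl⟩ := Quotient.exists_rep c
    change StkCnt.IsoCl.mk A ∈ S ↔ _
    rw [hS]
    constructor
    · rintro ⟨a, ha⟩
      refine ⟨⟨a • (D.pr A).2, ?_⟩, ?_⟩
      · rw [hψ, ← mul_smul, ha, mul_smul, D.fix]
      · change StkCnt.IsoCl.mk _ = StkCnt.IsoCl.mk A
        rw [D.mk_eq_iff]
        exact (hob _).symm.trans ⟨a, ha, rfl⟩
    · rintro ⟨y, hy⟩
      change StkCnt.IsoCl.mk _ = StkCnt.IsoCl.mk A at hy
      rw [D.mk_eq_iff] at hy
      obtain ⟨a, ha, -⟩ := (hob y).trans hy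
      exact ⟨a, ha⟩

/-- **The mass for a finite group acting on a finite set of pairs.** -/
theorem sum_all (hψ : ∀ (g : Γ) (x : Ω), ψ (g • x) = φ g • ψ x) [Finite Γ]
    [Finite {p : Γ × Ω // p.1 • ψ p.2 = p.2}] [Fintype (StkCnt.IsoCl C)] :
    ∑ c : StkCnt.IsoCl C, ((StkCnt.autCard C c : ℕ) : ℚ)⁻¹ =
      (Nat.card {p : Γ × Ω // p.1 • ψ p.2 = p.2} : ℚ) / (Nat.card Γ : ℚ) := by
  classical
  choose ob hob using fun x : {p : Γ × Ω // p.1 • ψ p.2 = p.2} => D.exists_obj x.1 x.2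
  let _ : MulAction Γ {p : Γ × Ω // p.1 • ψ p.2 = p.2} :=
    { smul := fun h p => ⟨(h * p.1.1 * (φ h)⁻¹, h • p.1.2), by
        change (h * p.1.1 * (φ h)⁻¹) • ψ (h • p.1.2) = h • p.1.2
        rw [hψ, ← mul_smul, inv_mul_cancel_right, mul_smul, p.2]⟩
      one_smul := fun p => Subtype.ext (Prod.ext (by
        change 1 * p.1.1 * (φ 1)⁻¹ = p.1.1
        rw [map_one, inv_one, mul_one, one_mul]) (one_smul Γ p.1.2))
      mul_smul := fun h h' p => Subtype.ext (Prod.ext (by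
        change h * h' * p.1.1 * (φ (h * h'))⁻¹ = h * (h' * p.1.1 * (φ h')⁻¹) * (φ h)⁻¹
        rw [map_mul, mul_inv_rev]
        simp only [mul_assoc]) (mul_smul h h' p.1.2)) }
  have hsm : ∀ (h : Γ) (p : {p : Γ × Ω // p.1 • ψ p.2 = p.2}), (h • p).1 = (h * p.1.1 * (φ h)⁻¹, h • p.1.2) :=
    fun _ _ => rfl
  have hrel : ∀ p p' : {p : Γ × Ω // p.1 • ψ p.2 = p.2}, ∀ a : Γ, a • p' = p ↔
      (p.1.1 * φ a = a * p'.1.1 ∧ a • p'.1.2 = p.1.2) := by
    intro p p' a
    rw [Subtype.ext_iff, hsm, Prod.ext_iff]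
    change (a * p'.1.1 * (φ a)⁻¹ = p.1.1 ∧ a • p'.1.2 = p.1.2) ↔ _
    rw [mul_inv_eq_iff_eq_mul, eq_comm]
  refine sum_image (Nat.card Γ) Nat.card_pos.ne' (fun x => StkCnt.IsoCl.mk (ob x)) ?_ Finset.univ ?_
  · intro y
    rw [D.autCard, ← (hob y).card_eq]
    have h1 : Nat.card {y' // StkCnt.IsoCl.mk (ob y') = StkCnt.IsoCl.mk (ob y)} =
        Nat.card (MulAction.orbit Γ y) := by
      refine Nat.card_congr (Equiv.subtypeEquivRight fun y' => ?_)
      rw [D.mk_eq_iff]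
      change Rel φ (D.pr (ob y')) (D.pr (ob y)) ↔ _
      constructor
      · intro h2
        obtain ⟨a, h3, h4⟩ := ((hob y').trans h2).trans (hob y).symm
        exact ⟨a, (hrel y' y a).2 ⟨h3, h4⟩⟩
      · rintro ⟨a, ha⟩
        exact ((hob _).symm.trans (show Rel φ y'.1 y.1 from ⟨a, (hrel y' y a).1 ha⟩)).trans (hob y)
    have h2 : Nat.card {h : Γ // y.1.1 * φ h = h * y.1.1 ∧ h • y.1.2 = y.1.2} =
        Nat.card (MulAction.stabilizer Γ y) :=
      Nat.card_congr (Equiv.subtypeEquivRight fun a => (hrel y y a).symm)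
    rw [h1, h2]
    rw [← Nat.card_prod]
    exact Nat.card_congr (MulAction.orbitProdStabilizerEquivGroup Γ y)
  · intro c
    obtain ⟨A, rfl⟩ := Quotient.exists_rep c
    refine ⟨fun _ => ⟨⟨D.pr A, D.fix A⟩, ?_⟩, fun _ => Finset.mem_univ _⟩
    change StkCnt.IsoCl.mk _ = StkCnt.IsoCl.mk A
    rw [D.mk_eq_iff]
    exact (hob ⟨D.pr A, D.fix A⟩).symm

end Dict

end K815.Mass
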