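import Groth.Agent.StackCount.K815.Dict
import Groth.Agent.StackCount.K815.Mass
import Mathlib.FieldTheory.Finiteness

/-!
# The dictionary between `[X/G](k')` and pairs, and finiteness of twisted fixed points
-/

set_option autoImplicit false
set_option linter.unusedSectionVars false
universe u
open CategoryTheory Limits MonoidalCategory CartesianMonoidalCategory MonObj GrpObj AlgebraicGeometry

namespace K815.DictMass

open K815.Tors K815.Obj K815.PtEq K815.Coc K815.Ess K815.Lc K815.Dict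

variable {k k' kb : Type u} [Field k] [Field k'] [Field kb] [Algebra k k'] [Algebra k kb] [Algebra k' kb]
  [IsScalarTower k k' kb]

/-- The action of `σ` on points, as a homomorphism. -/
noncomputable def frH (G : Over (Spec (CommRingCat.of k))) [GrpObj G] (σ : kb ≃ₐ[k'] kb) :
    (SGA7.pt (K := k) kb ⟶ G) →* (SGA7.pt (K := k) kb ⟶ G) where
  toFun x := s σ ≫ x
  map_one' := MonObj.comp_one (s σ)
  map_mul' x y := MonObj.comp_mul (s σ) x y

theorem frH_apply (G : Over (Spec (CommRingCat.of k))) [GrpObj G] (σ : kb ≃ₐ[k'] kb)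
    (x : SGA7.pt (K := k) kb ⟶ G) : frH G σ x = s σ ≫ x := rfl

variable [Finite k] [Finite k'] [IsAlgClosed kb] [Algebra.IsAlgebraic k kb]

/-- The dictionary as a `Mass.Dict`. -/
theorem nonempty_Dict {G X : Over (Spec (CommRingCat.of k))} [GrpObj G] [LocallyOfFiniteType G.hom]
    [IsAffineHom G.hom] [LocallyOfFiniteType X.hom] (aX : AlgGrp.Action G X) {π' : kb ≃ₐ[k'] kb}
    (hπ' : ∀ x, π' x = x ^ Nat.card k') :
    Nonempty (@Mass.Dict (SGA7.pt (K := k) kb ⟶ G) (SGA7.pt (K := k) kb ⟶ X) _ (mulAction aX (SGA7.pt (K := k) kb))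
      (StkCnt.pts (AlgSt.QuotSt Scheme.etalePrecoverage G aX) k') _ (frH G π') (fun x => s π' ≫ x)) := by
  obtain ⟨pr, h1, h2, h3, h4⟩ := exists_dict (aX := aX) hπ'
  exact ⟨@Mass.Dict.mk _ _ _ (mulAction aX (SGA7.pt (K := k) kb)) _ _ _ _ pr h1 h2 h3 h4⟩

theorem exists_restrict {π : kb ≃ₐ[k] kb} (hπ : ∀ x, π x = x ^ Nat.card k) {π' : kb ≃ₐ[k'] kb}
    (hπ' : ∀ x, π' x = x ^ Nat.card k') : ∃ d : ℕ, d ≠ 0 ∧ π'.restrictScalars k = π ^ d := by
  have hfin : Module.Finite k k' := Module.Finite.of_finite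
  refine ⟨Module.finrank k k', Module.finrank_pos.ne', ?_⟩
  ext x
  rw [GalFin.pow_apply hπ]
  change π' x = _
  rw [hπ', Module.natCard_eq_pow_finrank (K := k) (V := k')]

theorem s_pow (σ : kb ≃ₐ[k'] kb) (n : ℕ) : ((σ ^ n).restrictScalars k : kb ≃ₐ[k] kb) = (σ.restrictScalars k) ^ n := by
  induction n with
  | zero => rfl
  | succ n ih => rw [pow_succ, pow_succ, ← ih]; rfl

theorem finite_fixed' {X : Over (Spec (CommRingCat.of k))} [LocallyOfFiniteType X.hom] [QuasiCompact X.hom]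
    {π' : kb ≃ₐ[k'] kb} (hπ' : ∀ x, π' x = x ^ Nat.card k') (n : ℕ) (hn : n ≠ 0) :
    {x : SGA7.Pts kb X | s (k := k) (π' ^ n) ≫ x = x}.Finite := by
  obtain ⟨π, hπ⟩ := GalFin.exists_frob (k := k) (kb := kb)
  obtain ⟨d, hd, h1⟩ := exists_restrict hπ hπ'
  refine (Rat.finite_fixed (X := X) hπ (d * n) (Nat.mul_ne_zero hd hn)).subset fun x hx => ?_
  change π ^ (d * n) • x = x
  rw [pow_mul, ← h1, ← s_pow]
  exact hx

theorem exists_pow_one {G : Over (Spec (CommRingCat.of k))} [GrpObj G]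
    {π' : kb ≃ₐ[k'] kb} (hπ' : ∀ x, π' x = x ^ Nat.card k')
    {z : (kb ≃ₐ[k'] kb) → (SGA7.pt (K := k) kb ⟶ G)} (hz : IsLocallyConstant z)
    (hzm : ∀ σ τ, z (σ * τ) = z σ * (s σ ≫ z τ)) : ∃ n : ℕ, n ≠ 0 ∧ z (π' ^ n) = 1 := by
  have halg : Algebra.IsAlgebraic k' kb := Algebra.IsAlgebraic.tower_top (K := k) k'
  have hcl : IsAlgClosure k' kb := ⟨inferInstance, halg⟩
  have hnor : Normal k' kb := IsAlgClosure.normal k' kb
  have h4 : z 1 = 1 := by
    have := hzm 1 1
    rw [_root_.mul_one, s_one, Category.id_comp] at this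
    exact (mul_eq_left.mp this.symm)
  have h1 : IsOpen {σ : kb ≃ₐ[k'] kb | z (π' * σ) = 1} :=
    (hz.isOpen_fiber 1).preimage (continuous_const_mul π')
  obtain ⟨i, hi⟩ := (GalFin.gen hπ').dense _ h1 ⟨π'⁻¹, by
    change z (π' * π'⁻¹) = 1
    rw [mul_inv_cancel, h4]⟩
  exact ⟨i + 1, Nat.succ_ne_zero i, by rw [pow_succ']; exact hi⟩

/-- Twisted Frobenius fixed points are finite in number. -/
theorem finite_tw {G X : Over (Spec (CommRingCat.of k))} [GrpObj G] [LocallyOfFiniteType G.hom]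
    [QuasiCompact G.hom] [LocallyOfFiniteType X.hom] [QuasiCompact X.hom] (aX : AlgGrp.Action G X)
    {π' : kb ≃ₐ[k'] kb} (hπ' : ∀ x, π' x = x ^ Nat.card k') (g : SGA7.Pts kb G) :
    {x : SGA7.Pts kb X | ac aX g (s (k := k) π' ≫ x) = x}.Finite := by
  obtain ⟨z, h1, h2, h3⟩ := exists_lc (k := k) (G := G) hπ' g
  obtain ⟨n, hn, hn1⟩ := exists_pow_one hπ' h1 h2
  refine (finite_fixed' (X := X) hπ' n hn).subset fun x hx => ?_
  have h5 := fixed_of_frob (aX := aX) hπ' h1 h2 (x := x) (by rw [h3]; exact hx) (π' ^ n)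
  rw [hn1, ac_one] at h5
  exact h5

/-- Twisted centralisers are finite. -/
theorem finite_cent {G : Over (Spec (CommRingCat.of k))} [GrpObj G] [LocallyOfFiniteType G.hom]
    [QuasiCompact G.hom] {π' : kb ≃ₐ[k'] kb} (hπ' : ∀ x, π' x = x ^ Nat.card k') (g : SGA7.Pts kb G) :
    Finite (Mass.cent (frH G π') g) := by
  obtain ⟨z, h1, h2, h3⟩ := exists_lc (k := k) (G := G) hπ' g
  obtain ⟨n, hn, hn1⟩ := exists_pow_one hπ' h1 h2
  have h4 : z 1 = 1 := by
    have := h2 1 1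
    rw [_root_.mul_one, s_one, Category.id_comp] at this
    exact (mul_eq_left.mp this.symm)
  refine Set.Finite.subset (t := {h | g * frH G π' h = h * g}) (finite_fixed' (X := G) hπ' n hn) fun h hh => ?_
  change s (k := k) (π' ^ n) ≫ h = h
  have key : ∀ i : ℕ, z (π' ^ i) * (s (k := k) (π' ^ i) ≫ h) = h * z (π' ^ i) := by
    intro i
    induction i with
    | zero => rw [pow_zero, h4, s_one, Category.id_comp, _root_.one_mul, _root_.mul_one]
    | succ i ih =>
      have h5 : g * (s (k := k) π' ≫ h) = h * g := hh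
      rw [pow_succ, h2, s_mul, Category.assoc, _root_.mul_assoc, ← MonObj.comp_mul, h3, h5, MonObj.comp_mul,
        ← _root_.mul_assoc, ih, _root_.mul_assoc]
  have h6 := key n
  rwa [hn1, _root_.one_mul, _root_.mul_one] at h6

end K815.DictMass
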