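import Mathlib.AlgebraicGeometry.Sites.Fpqc

/-!
# Descent of morphisms in `Over S` along fpqc coverings
-/

set_option autoImplicit false
universe u
open CategoryTheory Limits AlgebraicGeometry

namespace K815.EffEpi

variable {S : Scheme.{u}} {Y' Y Z : Over S}

theorem exists_desc (c : Y' ⟶ Y) [Surjective c.left] [Flat c.left] [QuasiCompact c.left] (f : Y' ⟶ Z)
    (h : ∀ (W : Over S) (a b : W ⟶ Y'), a ≫ c = b ≫ c → a ≫ f = b ≫ f) : ∃ g : Y ⟶ Z, c ≫ g = f := by
  have h1 : ∀ {W : Scheme.{u}} (a b : W ⟶ Y'.left), a ≫ c.left = b ≫ c.left → a ≫ f.left = b ≫ f.left := by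
    intro W a b hab
    let Wo : Over S := Over.mk (a ≫ Y'.hom)
    let a' : Wo ⟶ Y' := Over.homMk a
    let b' : Wo ⟶ Y' := Over.homMk b (by
      change b ≫ Y'.hom = a ≫ Y'.hom
      rw [← Over.w c, ← Category.assoc, ← hab, Category.assoc])
    have h2 := h Wo a' b' (Over.OverMorphism.ext hab)
    exact congrArg CommaMorphism.left h2
  let g : Y.left ⟶ Z.left := EffectiveEpi.desc c.left f.left h1
  have hg : c.left ≫ g = f.left := EffectiveEpi.fac c.left f.left h1
  refine ⟨Over.homMk g ?_, Over.OverMorphism.ext hg⟩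
  rw [← cancel_epi c.left, ← Category.assoc, hg, Over.w, Over.w]

theorem epi (c : Y' ⟶ Y) [Surjective c.left] [Flat c.left] [QuasiCompact c.left] : Epi c := by
  constructor
  intro Z f g h
  apply Over.OverMorphism.ext
  rw [← cancel_epi c.left]
  exact congrArg CommaMorphism.left h

end K815.EffEpi
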