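import Groth.Agent.StackCount.K815.TorsOf
import Groth.Prelude.Def_AlgSt5

/-!
# The torsor under an affine group scheme defined by a Čech cocycle: action and torsor property
-/

set_option autoImplicit false
set_option linter.unusedSectionVars false
universe u
open CategoryTheory Limits MonoidalCategory CartesianMonoidalCategory MonObj GrpObj AlgebraicGeometry

namespace K815.TorsOf

open K815.Tors

variable {S : Scheme.{u}}

/-- An action from its effect on points. -/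
def mkAction {G X : Over S} [GrpObj G] (act : G ⊗ X ⟶ X)
    (h1 : ∀ (Z : Over S) (x : Z ⟶ X), lift (1 : Z ⟶ G) x ≫ act = x)
    (h2 : ∀ (Z : Over S) (g h : Z ⟶ G) (x : Z ⟶ X), lift (g * h) x ≫ act = lift g (lift h x ≫ act) ≫ act) :
    AlgGrp.Action G X where
  act := act
  one_act := by
    have h3 : (η[G] ▷ X) = lift (1 : 𝟙_ (Over S) ⊗ X ⟶ G) (snd _ _) := by
      ext1
      · rw [whiskerRight_fst, lift_fst, Hom.one_def, toUnit_unique (fst _ _) (toUnit _)]
      · rw [whiskerRight_snd, lift_snd]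
    rw [h3, h1, leftUnitor_hom]
  mul_act := by
    have h3 : (μ[G] ▷ X) = lift ((fst (G ⊗ G) X ≫ fst G G) * (fst (G ⊗ G) X ≫ snd G G)) (snd _ _) := by
      ext1
      · rw [whiskerRight_fst, lift_fst, Hom.mul_def, ← comp_lift, lift_fst_snd, Category.comp_id]
      · rw [whiskerRight_snd, lift_snd]
    have h4 : (α_ G G X).hom ≫ (G ◁ act) =
        lift (fst (G ⊗ G) X ≫ fst G G) (lift (fst (G ⊗ G) X ≫ snd G G) (snd _ _) ≫ act) := by
      ext1
      · rw [Category.assoc, whiskerLeft_fst, associator_hom_fst, lift_fst]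
      · rw [Category.assoc, whiskerLeft_snd, lift_snd, ← Category.assoc]
        congr 1
        ext1 <;> simp
    rw [h3, h2, ← Category.assoc, h4]

variable {T Tb : Over S} {q : Tb ⟶ T} {G : Over S} [GrpObj G] (C : Cech q G)
  {P : Over S} {π : P ⟶ T} {c : G ⊗ Tb ⟶ P} (hc : IsPullback c (snd G Tb) π q)
  (hC : ∀ (Z : Over S) (g : Z ⟶ G) (x₀ x₁ : Z ⟶ Tb) (h : x₀ ≫ q = x₁ ≫ q),
        lift g x₀ ≫ c = lift (g * C.z x₀ x₁ h) x₁ ≫ c)

include hc hC

theorem eq_q {Z : Over S} {g₀ g₁ : Z ⟶ G} {x₀ x₁ : Z ⟶ Tb} (h : lift g₀ x₀ ≫ c = lift g₁ x₁ ≫ c) :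
    x₀ ≫ q = x₁ ≫ q := by
  have h1 := congrArg (fun f => f ≫ π) h
  simp only [Category.assoc, hc.w] at h1
  rw [← Category.assoc, lift_snd, ← Category.assoc, lift_snd] at h1
  exact h1

theorem eq_mul {Z : Over S} {g₀ g₁ : Z ⟶ G} {x₀ x₁ : Z ⟶ Tb} (h : lift g₀ x₀ ≫ c = lift g₁ x₁ ≫ c) :
    g₀ * C.z x₀ x₁ (eq_q C hc hC h) = g₁ := by
  have h1 : lift (g₀ * C.z x₀ x₁ (eq_q C hc hC h)) x₁ = lift g₁ x₁ := by
    apply hc.hom_ext
    · rw [← hC, h]
    · rw [lift_snd, lift_snd]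
  have h2 := congrArg (fun f => f ≫ fst G Tb) h1
  simpa using h2

variable [Surjective q.left] [Flat q.left] [QuasiCompact q.left]

theorem exists_loc {W : Over S} (p p' : W ⟶ P) (h : p ≫ π = p' ≫ π) : ∃ (W' : Over S) (e : W' ⟶ W) (g g' : W' ⟶ G) (x : W' ⟶ Tb),
    Surjective e.left ∧ Flat e.left ∧ QuasiCompact e.left ∧ e ≫ p = lift g x ≫ c ∧ e ≫ p' = lift g' x ≫ c := by
  let hP := (IsPullback.of_hasPullback (p ≫ π) q)
  have h6 := hP.map (Over.forget S)
  have h7 : (pullback.fst (p ≫ π) q ≫ p) ≫ π = pullback.snd (p ≫ π) q ≫ q := by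
    rw [Category.assoc, hP.w]
  have h7' : (pullback.fst (p ≫ π) q ≫ p') ≫ π = pullback.snd (p ≫ π) q ≫ q := by
    rw [Category.assoc, ← h, hP.w]
  refine ⟨pullback (p ≫ π) q, pullback.fst _ _, hc.lift _ _ h7 ≫ fst G Tb, hc.lift _ _ h7' ≫ fst G Tb,
    pullback.snd _ _, ?_, ?_, ?_, ?_, ?_⟩
  · exact MorphismProperty.of_isPullback (P := @Surjective) h6.flip ‹_›
  · exact MorphismProperty.of_isPullback (P := @Flat) h6.flip ‹_›
  · exact MorphismProperty.of_isPullback (P := @QuasiCompact) h6.flip ‹_›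
  · have h8 : lift (hc.lift _ _ h7 ≫ fst G Tb) (pullback.snd (p ≫ π) q) = hc.lift _ _ h7 := by
      ext1
      · rw [lift_fst]
      · rw [lift_snd, hc.lift_snd]
    rw [h8, hc.lift_fst]
  · have h8 : lift (hc.lift _ _ h7' ≫ fst G Tb) (pullback.snd (p ≫ π) q) = hc.lift _ _ h7' := by
      ext1
      · rw [lift_fst]
      · rw [lift_snd, hc.lift_snd]
    rw [h8, hc.lift_fst]

theorem exists_act : ∃ act : G ⊗ P ⟶ P, ∀ (W : Over S) (h g : W ⟶ G) (x : W ⟶ Tb),
    lift h (lift g x ≫ c) ≫ act = lift (h * g) x ≫ c := by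
  have h1 := (hc.map (Over.forget S))
  have e1 : Surjective c.left := MorphismProperty.of_isPullback (P := @Surjective) h1.flip ‹_›
  have e2 : Flat c.left := MorphismProperty.of_isPullback (P := @Flat) h1.flip ‹_›
  have e3 : QuasiCompact c.left := MorphismProperty.of_isPullback (P := @QuasiCompact) h1.flip ‹_›
  have h2 := ((AlgSt.isPullback_whiskerLeft (G := G) c).map (Over.forget S))
  have e4 : Surjective (G ◁ c).left := MorphismProperty.of_isPullback (P := @Surjective) h2.flip e1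
  have e5 : Flat (G ◁ c).left := MorphismProperty.of_isPullback (P := @Flat) h2.flip e2
  have e6 : QuasiCompact (G ◁ c).left := MorphismProperty.of_isPullback (P := @QuasiCompact) h2.flip e3
  let m : G ⊗ (G ⊗ Tb) ⟶ G ⊗ Tb :=
    lift (fst G (G ⊗ Tb) * (snd G (G ⊗ Tb) ≫ fst G Tb)) (snd G (G ⊗ Tb) ≫ snd G Tb)
  have hm : ∀ (W : Over S) (h g : W ⟶ G) (x : W ⟶ Tb), lift h (lift g x) ≫ m = lift (h * g) x := by
    intro W h g x
    simp only [m, comp_lift, MonObj.comp_mul, lift_fst, lift_snd_assoc, lift_snd]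
  obtain ⟨act, hact⟩ := EffEpi.exists_desc (G ◁ c) (m ≫ c) (by
    intro W a b hab
    have h3 : ∀ a : W ⟶ G ⊗ (G ⊗ Tb), a = lift (a ≫ fst _ _) (lift (a ≫ snd _ _ ≫ fst _ _) (a ≫ snd _ _ ≫ snd _ _)) := by
      intro a
      ext1
      · rw [lift_fst]
      · ext1
        · rw [lift_snd, lift_fst, Category.assoc]
        · rw [lift_snd, lift_snd, Category.assoc]
    rw [h3 a, h3 b, lift_whiskerLeft, lift_whiskerLeft] at hab
    have h4 : a ≫ fst _ _ = b ≫ fst _ _ := by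
      have := congrArg (fun f => f ≫ fst _ _) hab
      simpa using this
    have h5 : lift (a ≫ snd _ _ ≫ fst _ _) (a ≫ snd _ _ ≫ snd _ _) ≫ c =
        lift (b ≫ snd _ _ ≫ fst _ _) (b ≫ snd _ _ ≫ snd _ _) ≫ c := by
      have := congrArg (fun f => f ≫ snd _ _) hab
      simpa using this
    have h6 := eq_q C hc hC h5
    have h7 := eq_mul C hc hC h5
    have h8 : ∀ a : W ⟶ G ⊗ (G ⊗ Tb), a ≫ m ≫ c =
        lift ((a ≫ fst _ _) * (a ≫ snd _ _ ≫ fst _ _)) (a ≫ snd _ _ ≫ snd _ _) ≫ c := by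
      intro a
      rw [← Category.assoc, ← hm, ← h3 a]
    rw [h8 a, h8 b, ← h7, ← h4, ← _root_.mul_assoc, ← hC])
  refine ⟨act, fun W h g x => ?_⟩
  rw [← hm, Category.assoc, ← hact, ← Category.assoc, lift_whiskerLeft]

/-- **The torsor defined by a Čech cocycle.** -/
theorem exists_torsor_aux : ∃ (a : AlgGrp.Action G P), (∀ (W : Over S) (h g : W ⟶ G) (x : W ⟶ Tb),
      ac a h (lift g x ≫ c) = lift (h * g) x ≫ c) ∧ IsPullback a.act (snd G P) π π := by
  obtain ⟨act, hact⟩ := exists_act C hc hC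
  let a : AlgGrp.Action G P := mkAction act (by
    intro Z x
    obtain ⟨W, e, g, g', y, e1, e2, e3, h1, -⟩ := exists_loc C hc hC x x rfl
    have := EffEpi.epi e
    rw [← cancel_epi e, ← Category.assoc, comp_lift, h1, MonObj.comp_one, hact, _root_.one_mul]) (by
    intro Z g h x
    obtain ⟨W, e, g₀, g', y, e1, e2, e3, h1, -⟩ := exists_loc C hc hC x x rfl
    have := EffEpi.epi e
    rw [← cancel_epi e, ← Category.assoc, comp_lift, h1, MonObj.comp_mul, hact, ← Category.assoc e, comp_lift,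
      ← Category.assoc e, comp_lift, h1, hact, hact, _root_.mul_assoc])
  have ha : ∀ (W : Over S) (h g : W ⟶ G) (x : W ⟶ Tb), ac a h (lift g x ≫ c) = lift (h * g) x ≫ c := hact
  have hπ : ∀ (W : Over S) (h : W ⟶ G) (p : W ⟶ P), ac a h p ≫ π = p ≫ π := by
    intro W h p
    obtain ⟨W', e, g₀, g', y, e1, e2, e3, h1, -⟩ := exists_loc C hc hC p p rfl
    have := EffEpi.epi e
    rw [← cancel_epi e, ← Category.assoc, comp_ac, h1, ha, ← Category.assoc, h1, Category.assoc, Category.assoc, hc.w,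
      ← Category.assoc, ← Category.assoc, lift_snd, lift_snd]
  have hinj : ∀ (W : Over S) (h h' : W ⟶ G) (p : W ⟶ P), ac a h p = ac a h' p → h = h' := by
    intro W h h' p hh
    obtain ⟨W', e, g₀, g', y, e1, e2, e3, h1, -⟩ := exists_loc C hc hC p p rfl
    have := EffEpi.epi e
    have h2 : lift ((e ≫ h) * g₀) y ≫ c = lift ((e ≫ h') * g₀) y ≫ c := by
      rw [← ha, ← ha, ← h1, ← comp_ac, ← comp_ac, hh]
    have h3 := eq_mul C hc hC h2
    rw [C.self, _root_.mul_one] at h3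
    rw [← cancel_epi e]
    exact mul_right_cancel h3
  have hex : ∀ (W : Over S) (p p' : W ⟶ P), p ≫ π = p' ≫ π → ∃ g : W ⟶ G, ac a g p' = p := by
    intro W p p' h
    obtain ⟨W', e, g₀, g₁, y, e1, e2, e3, h1, h2⟩ := exists_loc C hc hC p p' h
    have := EffEpi.epi e
    obtain ⟨g, hg⟩ := EffEpi.exists_desc e (g₀ * g₁⁻¹) (by
      intro V u v huv
      have h3 : lift (u ≫ g₀) (u ≫ y) ≫ c = lift (v ≫ g₀) (v ≫ y) ≫ c := by
        rw [← comp_lift, ← comp_lift, Category.assoc, Category.assoc, ← h1, ← Category.assoc, huv, Category.assoc]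
      have h4 : lift (u ≫ g₁) (u ≫ y) ≫ c = lift (v ≫ g₁) (v ≫ y) ≫ c := by
        rw [← comp_lift, ← comp_lift, Category.assoc, Category.assoc, ← h2, ← Category.assoc, huv, Category.assoc]
      rw [MonObj.comp_mul, MonObj.comp_mul, GrpObj.comp_inv, GrpObj.comp_inv, ← eq_mul C hc hC h3,
        ← eq_mul C hc hC h4]
      group)
    refine ⟨g, ?_⟩
    rw [← cancel_epi e, comp_ac, h1, h2, hg, ha, inv_mul_cancel_right]
  refine ⟨a, ha, ?_⟩
  have hw : a.act ≫ π = snd G P ≫ π := by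
    have h1 := hπ _ (fst G P) (snd G P)
    rwa [ac, lift_fst_snd, Category.id_comp] at h1
  have hg : ∀ s : PullbackCone π π, ∃ g : s.pt ⟶ G, ac a g s.snd = s.fst := fun s => hex _ _ _ s.condition
  choose g hg using hg
  refine ⟨⟨hw⟩, ⟨PullbackCone.IsLimit.mk hw (fun s => lift (g s) s.snd) ?_ ?_ ?_⟩⟩
  · intro s
    exact hg s
  · intro s
    rw [lift_snd]
  · intro s m h1 h2
    ext1
    · rw [lift_fst]
      apply hinj _ _ _ s.snd
      rw [hg s, ← h1, ac, ← h2]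
      congr 1
      ext1 <;> simp
    · rw [lift_snd, h2]

omit hc hC in
/-- **The torsor defined by a Čech cocycle.** -/
theorem exists_torsor [IsAffineHom G.hom] : ∃ (P : Over S) (a : AlgGrp.Action G P) (π : P ⟶ T) (t : Tb ⟶ P),
    IsPullback a.act (snd G P) π π ∧ t ≫ π = q ∧
      ∀ (Z : Over S) (x₀ x₁ : Z ⟶ Tb) (h : x₀ ≫ q = x₁ ≫ q), ac a (C.z x₀ x₁ h) (x₁ ≫ t) = x₀ ≫ t := by
  obtain ⟨P, π, c, hc, hC⟩ := exists_cover C
  obtain ⟨a, ha, h⟩ := exists_torsor_aux C hc hC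
  have ht : ∀ (Z : Over S) (x : Z ⟶ Tb), x ≫ lift 1 (𝟙 Tb) ≫ c = lift 1 x ≫ c := by
    intro Z x
    rw [← Category.assoc, comp_lift, MonObj.comp_one, Category.comp_id]
  refine ⟨P, a, π, lift 1 (𝟙 Tb) ≫ c, h, ?_, ?_⟩
  · rw [Category.assoc, hc.w, ← Category.assoc, lift_snd, Category.id_comp]
  · intro Z x₀ x₁ h
    rw [ht, ht, ha, _root_.mul_one, hC Z 1 x₀ x₁ h, _root_.one_mul]

end K815.TorsOf
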