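import Groth.Agent.StackCount.K815.Coc
import Groth.Agent.StackCount.K815.TorsOf2
import Groth.Agent.StackCount.K815.Cov
import Groth.Agent.StackCount.K815.Rat
import Groth.Agent.Sga3.H780.FieldPt
import Mathlib.RingTheory.Etale.Field

/-!
# Geometric points of torsors, and objects of `[X/G]` with given cocycle
-/

set_option autoImplicit false
set_option linter.unusedSectionVars false
universe u
open CategoryTheory Limits MonoidalCategory CartesianMonoidalCategory MonObj GrpObj AlgebraicGeometry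

namespace K815.Ess

open K815.Tors K815.Obj K815.PtEq K815.Coc AlgSt

variable {k k' kb : Type u} [Field k] [Field k'] [Field kb] [Algebra k k'] [Algebra k kb] [Algebra k' kb]
  [IsScalarTower k k' kb]

/-- Galois stabilisers of geometric points of a scheme locally of finite type are open. -/
theorem isOpen_stab [Algebra.IsAlgebraic k kb] {X : Over (Spec (CommRingCat.of k))} [LocallyOfFiniteType X.hom]
    (x : SGA7.pt (K := k) kb ⟶ X) : IsOpen {σ : kb ≃ₐ[k'] kb | s σ ≫ x = x} := by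
  classical
  obtain ⟨U, hU, χ, h1, h2⟩ := Rat.exists_chart' (K := kb) x
  obtain ⟨t, hs⟩ := Rat.exists_gens (X := X) U hU
  have halg : Algebra.IsAlgebraic k' kb := Algebra.IsAlgebraic.tower_top (K := k) k'
  let E : IntermediateField k' kb := IntermediateField.adjoin k' (χ.hom '' t)
  have hE : FiniteDimensional k' E := by
    have : Finite (χ.hom '' (t : Set Γ(X.left, U))) := Finite.Set.finite_image _ _
    exact IntermediateField.finiteDimensional_adjoin (fun y _ => Algebra.IsIntegral.isIntegral y)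
  have h0 : ∀ σ : kb ≃ₐ[k'] kb, s σ ≫ x = x ↔ ∀ a, σ (χ.hom a) = χ.hom a := fun σ =>
    Rat.smul_eq_iff_chart h1 (σ.restrictScalars k)
  let V : Subgroup (kb ≃ₐ[k'] kb) :=
    { carrier := {σ | s (k := k) σ ≫ x = x}
      one_mem' := by
        change s (k := k) (1 : kb ≃ₐ[k'] kb) ≫ x = x
        rw [s_one, Category.id_comp]
      mul_mem' := by
        intro σ τ hσ hτ
        change s (k := k) (σ * τ) ≫ x = x
        rw [s_mul, Category.assoc, show s (k := k) τ ≫ x = x from hτ, show s (k := k) σ ≫ x = x from hσ]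
      inv_mem' := by
        intro σ hσ
        change s (k := k) σ⁻¹ ≫ x = x
        have hσ' : s (k := k) σ ≫ x = x := hσ
        conv_lhs => rw [← hσ']
        rw [← Category.assoc, ← s_mul, inv_mul_cancel, s_one, Category.id_comp] }
  have h3 : (V : Set (kb ≃ₐ[k'] kb)) = {σ : kb ≃ₐ[k'] kb | s (k := k) σ ≫ x = x} := rfl
  rw [← h3]
  refine Subgroup.isOpen_mono (H₁ := E.fixingSubgroup) ?_ E.fixingSubgroup_isOpen
  intro σ hσ
  change s (k := k) σ ≫ x = x
  rw [h0]
  rw [IntermediateField.mem_fixingSubgroup_iff] at hσ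
  have h4 : (σ : kb →+* kb).comp χ.hom = χ.hom := by
    apply hs
    · intro a
      change σ (χ.hom ((Rat.kmap X U).hom a)) = _
      rw [h2, IsScalarTower.algebraMap_apply k k' kb, AlgEquiv.commutes]
    · intro a ha
      exact hσ _ (IntermediateField.subset_adjoin k' _ ⟨a, ha, rfl⟩)
  exact fun a => congrArg (fun f : Γ(X.left, U) →+* kb => f a) h4

variable {G : Over (Spec (CommRingCat.of k))} [GrpObj G]
  {X : Over (Spec (CommRingCat.of k))} {aX : AlgGrp.Action G X}

/-- A torsor locally trivial for the etale topology has a geometric point, with open stabiliser. -/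
theorem exists_point [IsAlgClosed kb] [Algebra.IsAlgebraic k' kb]
    (A : TObj Scheme.etalePrecoverage G aX (SGA7.pt (K := k) k')) :
    ∃ t : SGA7.pt (K := k) kb ⟶ A.P, t ≫ A.π = q k k' kb ∧ IsOpen {σ : kb ≃ₐ[k'] kb | s (k := k) σ ≫ t = t} := by
  obtain ⟨R, hR, hR'⟩ := A.loc
  obtain ⟨Y, f, h1, h2, h3⟩ := Cov.mem_cov hR ((q k k' kb).left (IsLocalRing.closedPoint kb))
  have : Etale f := h2
  obtain ⟨y, hy⟩ := Cov.exists_lift_geom (K := kb) f (q k k' kb).left h3
  obtain ⟨t, ht'⟩ : ∃ t : Y ⟶ A.P.left, t ≫ A.π.left = f := hR' f h1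
  have h4 : (y ≫ t) ≫ A.π.left = (q k k' kb).left := by rw [Category.assoc, ht', hy]
  have h5 : (y ≫ t) ≫ A.P.hom = (SGA7.pt (K := k) kb).hom := by
    rw [← Over.w A.π, ← Category.assoc, h4, Over.w]
  refine ⟨Over.homMk (y ≫ t) h5, Over.OverMorphism.ext h4, ?_⟩
  let Yo : Over (Spec (CommRingCat.of k')) := Over.mk (f : Y ⟶ Spec (CommRingCat.of k'))
  have : LocallyOfFiniteType Yo.hom := inferInstanceAs (LocallyOfFiniteType f)
  let yo : SGA7.Pts kb Yo := Over.homMk (show Spec (CommRingCat.of kb) ⟶ Y from y) hy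
  have h6 := Rat.isOpen_stab (k := k') (K := kb) yo
  have h7 : ∀ σ : kb ≃ₐ[k'] kb, σ • yo = yo → s (k := k) σ ≫ (Over.homMk (y ≫ t) h5 : SGA7.pt (K := k) kb ⟶ A.P) =
      Over.homMk (y ≫ t) h5 := by
    intro σ hσ
    apply Over.OverMorphism.ext
    have h8 : Spec.map (CommRingCat.ofHom (σ : kb →+* kb)) ≫ (show Spec (CommRingCat.of kb) ⟶ Y from y) = y :=
      congrArg CommaMorphism.left hσ
    change Spec.map (CommRingCat.ofHom (σ : kb →+* kb)) ≫ (show Spec (CommRingCat.of kb) ⟶ Y from y) ≫ t = _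
    rw [← Category.assoc, h8]
    rfl
  -- the stabiliser is a subgroup containing an open subgroup
  let V : Subgroup (kb ≃ₐ[k'] kb) :=
    { carrier := {σ | s (k := k) σ ≫ (Over.homMk (y ≫ t) h5 : SGA7.pt (K := k) kb ⟶ A.P) = Over.homMk (y ≫ t) h5}
      one_mem' := by
        change s (k := k) (1 : kb ≃ₐ[k'] kb) ≫ _ = _
        rw [s_one, Category.id_comp]
      mul_mem' := by
        intro σ τ hσ hτ
        change s (k := k) (σ * τ) ≫ _ = _
        rw [s_mul, Category.assoc, Set.mem_ofPred.mp hτ, Set.mem_ofPred.mp hσ]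
      inv_mem' := by
        intro σ hσ
        change s (k := k) σ⁻¹ ≫ _ = _
        have hσ' := Set.mem_ofPred.mp hσ
        conv_lhs => rw [← hσ']
        rw [← Category.assoc, ← s_mul, inv_mul_cancel, s_one, Category.id_comp] }
  have h8 : (MulAction.stabilizer (kb ≃ₐ[k'] kb) yo : Set (kb ≃ₐ[k'] kb)) = {σ | σ • yo = yo} := rfl
  rw [← h8] at h6
  exact Subgroup.isOpen_mono (H₁ := MulAction.stabilizer (kb ≃ₐ[k'] kb) yo) (H₂ := V) (fun σ hσ => h7 σ hσ) h6

theorem R2_over_hom_ext {Z : Over (Spec (CommRingCat.of k))} {a b : Z ⟶ R2 k k' kb}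
    (h0 : a ≫ p0 k k' kb = b ≫ p0 k k' kb) (h1 : a ≫ p1 k k' kb = b ≫ p1 k k' kb) : a = b := by
  apply Over.OverMorphism.ext
  exact R2_hom_ext (congrArg CommaMorphism.left h0) (congrArg CommaMorphism.left h1)

/-- The Čech cocycle of a locally constant cocycle of the Galois group. -/
theorem exists_cech [PerfectField k'] [IsGalois k' kb] [IsAffineHom G.hom]
    (z : (kb ≃ₐ[k'] kb) → (SGA7.pt (K := k) kb ⟶ G)) (hz : IsLocallyConstant z)
    (hzm : ∀ σ τ, z (σ * τ) = z σ * (s σ ≫ z τ)) :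
    ∃ C : TorsOf.Cech (q k k' kb) G, ∀ σ h, C.z (𝟙 _) (s σ) h = z σ := by
  have haff : IsAffine G.left := isAffine_of_isAffineHom G.hom
  obtain ⟨ζ, hζ⟩ := exists_zeta z hz
  have hl : ∀ {Z : Over (Spec (CommRingCat.of k))} (x₀ x₁ : Z ⟶ SGA7.pt (K := k) kb)
      (h : x₀ ≫ q k k' kb = x₁ ≫ q k k' kb), ∃ r : Z ⟶ R2 k k' kb, r ≫ p0 k k' kb = x₀ ∧ r ≫ p1 k k' kb = x₁ :=
    fun x₀ x₁ h => exists_lift2 x₀ x₁ h
  let Zt : ∀ {Z : Over (Spec (CommRingCat.of k))} (x₀ x₁ : Z ⟶ SGA7.pt (K := k) kb)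
      (_ : x₀ ≫ q k k' kb = x₁ ≫ q k k' kb), (Z ⟶ G) := fun x₀ x₁ h => (hl x₀ x₁ h).choose ≫ ζ
  have hZt : ∀ {Z : Over (Spec (CommRingCat.of k))} (x₀ x₁ : Z ⟶ SGA7.pt (K := k) kb)
      (h : x₀ ≫ q k k' kb = x₁ ≫ q k k' kb) (r : Z ⟶ R2 k k' kb), r ≫ p0 k k' kb = x₀ → r ≫ p1 k k' kb = x₁ →
        r ≫ ζ = Zt x₀ x₁ h := by
    intro Z x₀ x₁ h r h0 h1
    have h2 := (hl x₀ x₁ h).choose_spec
    have h3 : r = (hl x₀ x₁ h).choose := R2_over_hom_ext (h0.trans h2.1.symm) (h1.trans h2.2.symm)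
    change r ≫ ζ = (hl x₀ x₁ h).choose ≫ ζ
    rw [← h3]
  -- the value at `(σ, τ)`
  have hst : ∀ (σ τ : kb ≃ₐ[k'] kb) (r : SGA7.pt (K := k) kb ⟶ R2 k k' kb), r ≫ p0 k k' kb = s σ →
      r ≫ p1 k k' kb = s τ → z σ * (r ≫ ζ) = z τ := by
    intro σ τ r h0 h1
    obtain ⟨r', h2, h3⟩ := exists_lift2 (k' := k') (𝟙 (SGA7.pt (K := k) kb)) (s (σ⁻¹ * τ))
      (by rw [Category.id_comp, s_comp_q])
    have h4 : r = s σ ≫ r' := by
      apply R2_over_hom_ext
      · rw [h0, Category.assoc, h2, Category.comp_id]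
      · rw [h1, Category.assoc, h3, ← s_mul, mul_inv_cancel_left]
    rw [h4, Category.assoc, hζ _ r' h2 h3, ← hzm, mul_inv_cancel_left]
  -- the cocycle identity on the universal triple
  obtain ⟨r12, h12, h12'⟩ := exists_lift2 (k' := k')
    (prL (k := k) (k' := k') (kb := kb) (TensorProduct k' kb kb) ≫ p1 k k' kb)
    (prR (k := k) (k' := k') (kb := kb) (TensorProduct k' kb kb)) (by
      rw [Category.assoc, ← p0_q, p0_q', prL_spq])
  obtain ⟨r02, h02, h02'⟩ := exists_lift2 (k' := k')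
    (prL (k := k) (k' := k') (kb := kb) (TensorProduct k' kb kb) ≫ p0 k k' kb)
    (prR (k := k) (k' := k') (kb := kb) (TensorProduct k' kb kb)) (by
      rw [Category.assoc, p0_q', prL_spq])
  have hu : (prL (k := k) (k' := k') (kb := kb) (TensorProduct k' kb kb) ≫ ζ) * (r12 ≫ ζ) = r02 ≫ ζ := by
    apply uni3
    intro σ τ r h0 h1 h2
    have h3 : (r ≫ prL _) ≫ ζ = z σ := hζ σ _ (by rw [Category.assoc]; exact h0) (by rw [Category.assoc]; exact h1)
    have h4 := hst σ τ (r ≫ r12) (by rw [Category.assoc, h12, h1]) (by rw [Category.assoc, h12', h2])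
    have h5 : (r ≫ r02) ≫ ζ = z τ := hζ τ _ (by rw [Category.assoc, h02, h0]) (by rw [Category.assoc, h02', h2])
    rw [MonObj.comp_mul, ← Category.assoc, h3, ← Category.assoc, h4, ← Category.assoc, h5]
  refine ⟨⟨Zt, ?_, ?_⟩, ?_⟩
  · intro Z' Z f x₀ x₁ h h'
    have h2 := (hl x₀ x₁ h).choose_spec
    have h3 := hZt (f ≫ x₀) (f ≫ x₁) h' (f ≫ (hl x₀ x₁ h).choose) (by rw [Category.assoc, h2.1])
      (by rw [Category.assoc, h2.2])
    rw [← h3, Category.assoc]
  · intro Z x₀ x₁ x₂ h h'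
    obtain ⟨r, h0, h1, h2⟩ := exists_lift3 x₀ x₁ x₂ h h'
    rw [← hZt x₀ x₁ h (r ≫ prL _) (by rw [Category.assoc, h0]) (by rw [Category.assoc, h1]),
      ← hZt x₁ x₂ h' (r ≫ r12) (by rw [Category.assoc, h12, h1]) (by rw [Category.assoc, h12', h2]),
      ← hZt x₀ x₂ (h.trans h') (r ≫ r02) (by rw [Category.assoc, h02, h0]) (by rw [Category.assoc, h02', h2]),
      Category.assoc, Category.assoc, Category.assoc, ← MonObj.comp_mul, hu]
  · intro σ h
    have h2 := (hl (𝟙 _) (s σ) h).choose_spec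
    exact hζ σ _ h2.1 h2.2

theorem etale_specMap (F L : Type u) [Field F] [Field L] [Algebra F L] [FiniteDimensional F L]
    [Algebra.IsSeparable F L] : Etale (Spec.map (CommRingCat.ofHom (algebraMap F L))) := by
  have h1 : Algebra.FormallyEtale F L := Algebra.FormallyEtale.of_isSeparable F L
  have h2 : Algebra.FinitePresentation F L :=
    Algebra.FinitePresentation.of_finiteType.1 (Module.Finite.finiteType L)
  have h3 : Algebra.Etale F L := ⟨h1, h2⟩
  rw [HasRingHomProperty.Spec_iff (P := @AlgebraicGeometry.Etale)]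
  change RingHom.Etale (algebraMap F L)
  rwa [RingHom.etale_algebraMap]

/-- **Objects of `[X/G]` with given cocycle.** -/
theorem exists_tobj [PerfectField k'] [IsGalois k' kb] [IsAffineHom G.hom]
    (z : (kb ≃ₐ[k'] kb) → (SGA7.pt (K := k) kb ⟶ G)) (hz : IsLocallyConstant z)
    (hzm : ∀ σ τ, z (σ * τ) = z σ * (s σ ≫ z τ)) (x : SGA7.pt (K := k) kb ⟶ X)
    (hx : ∀ σ, ac aX (z σ) (s σ ≫ x) = x) :
    ∃ (A : TObj Scheme.etalePrecoverage G aX (SGA7.pt (K := k) k')) (t : SGA7.pt (K := k) kb ⟶ A.P)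
      (ht : t ≫ A.π = q k k' kb), (∀ σ, coc A t ht σ = z σ) ∧ t ≫ A.φ = x := by
  obtain ⟨C, hC⟩ := exists_cech z hz hzm
  obtain ⟨P, a, π, t, hc, ht, hz'⟩ := TorsOf.exists_torsor C
  have hzt : ∀ σ : kb ≃ₐ[k'] kb, ac a (z σ) (s σ ≫ t) = t := by
    intro σ
    have h1 := hz' _ (𝟙 (SGA7.pt (K := k) kb)) (s σ) (by rw [Category.id_comp, s_comp_q])
    rwa [hC, Category.id_comp] at h1
  have h1 : z 1 = 1 := by
    have := hzm 1 1
    rw [_root_.mul_one, s_one, Category.id_comp] at this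
    exact (mul_eq_left.mp this.symm)
  -- local triviality
  have hloc : NonAbH1.IsLocallyTrivialFor Scheme.etalePrecoverage (Over.mk π.left : Over (SGA7.pt (K := k) k').left) := by
    have h2 : z ⁻¹' {1} ∈ nhds (1 : kb ≃ₐ[k'] kb) := (hz _).mem_nhds h1
    rw [krullTopology_mem_nhds_one_iff_of_normal] at h2
    obtain ⟨E, hE1, -, hE2⟩ := h2
    have hst : ∀ τ ∈ E.fixingSubgroup, s (k := k) τ ≫ t = t := by
      intro τ hτ
      have h3 := hzt τ
      have h4 : z τ = 1 := hE2 hτ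
      rwa [h4, ac_one] at h3
    obtain ⟨θ, hθ⟩ := Groth.Agent.Sga3.H780.FieldPt.exists_factor E kb
      (show Spec (CommRingCat.of kb) ⟶ P.left from t.left) (by
        intro g
        have h3 : (g.restrictScalars k') ∈ E.fixingSubgroup := by
          rw [IntermediateField.mem_fixingSubgroup_iff]
          exact fun x hx => g.commutes ⟨x, hx⟩
        exact congrArg CommaMorphism.left (hst _ h3))
    have hsep : Algebra.IsSeparable k' E := inferInstance
    have het := etale_specMap k' E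
    let f : Spec (CommRingCat.of E) ⟶ (SGA7.pt (K := k) k').left := Spec.map (CommRingCat.ofHom (algebraMap k' E))
    refine ⟨Presieve.singleton f, ?_, ?_⟩
    · refine (Scheme.singleton_mem_precoverage_iff _ f).mpr ⟨fun y => ?_, het⟩
      have : Subsingleton (SGA7.pt (K := k) k').left := inferInstanceAs (Subsingleton (Spec (CommRingCat.of k')))
      have : Nonempty (Spec (CommRingCat.of E)) := inferInstance
      exact ⟨Classical.choice this, Subsingleton.elim _ _⟩
    · rintro S' f' ⟨⟩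
      refine ⟨θ, ?_⟩
      change θ ≫ π.left = f
      have hepi := Groth.Agent.Lefpen.H534.PointDescent.epi_specMap (algebraMap E kb)
      rw [← cancel_epi (Spec.map (CommRingCat.ofHom (algebraMap E kb))), ← Category.assoc, hθ]
      have h5 : t.left ≫ π.left = (q k k' kb).left := congrArg CommaMorphism.left ht
      refine Eq.trans h5 ?_
      change Spec.map _ = Spec.map _ ≫ Spec.map _
      rw [← Spec.map_comp]
      rfl
  -- the equivariant map
  obtain ⟨φ, hφ1, hφ2⟩ := exists_eqv a π hc (q k k' kb) t ht aX x (by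
    let A₀ : TObj Scheme.etalePrecoverage G (AlgSt.trivAction G) (SGA7.pt (K := k) k') :=
      { P := P, act := a, π := π, cart := hc, loc := hloc, φ := toUnit P, eqv := toUnit_unique _ _ }
    have hA : ∀ σ, coc A₀ t ht σ = z σ := fun σ => (coc_unique A₀ t ht (hzt σ)).symm
    intro Z x₀ x₁ g hg
    exact desc_cond A₀ t ht aX x (fun σ => by rw [hA, hx]) Z x₀ x₁ g hg)
  let A : TObj Scheme.etalePrecoverage G aX (SGA7.pt (K := k) k') :=
    { P := P, act := a, π := π, cart := hc, loc := hloc, φ := φ, eqv := (eqv_iff a aX φ).mpr hφ2 }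
  exact ⟨A, t, ht, fun σ => (coc_unique A t ht (hzt σ)).symm, hφ1⟩

end K815.Ess
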