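import Groth.Agent.Fdesc.GeomRed
import Mathlib.FieldTheory.Galois.Profinite
import Mathlib.FieldTheory.PrimitiveElement
import Mathlib.RingTheory.TensorProduct.Basic

/-!
# `K ⊗ K` for a Galois extension `K/k` of a perfect field

* `exists_aut`: two embeddings of `K` agreeing on `k` differ by an automorphism;
* `ev σ : K ⊗ K → K`, `a ⊗ b ↦ a σ(b)`; `ev_ext`: these maps are jointly injective;
* `exists_interp`: a locally constant family of ring maps `A → K` comes from a ring map `A → K ⊗ K`.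
-/

set_option autoImplicit false
universe u v w
open scoped TensorProduct

namespace K815.FieldR

variable (k : Type u) {K : Type v} [Field k] [Field K] [Algebra k K]

theorem exists_aut [Normal k K] {F : Type w} [Field F] (a₀ a₁ : K →+* F)
    (h : a₀.comp (algebraMap k K) = a₁.comp (algebraMap k K)) : ∃ σ : K ≃ₐ[k] K, ∀ x, a₀ (σ x) = a₁ x := by
  let _ : Algebra K F := a₀.toAlgebra
  let _ : Algebra k F := (a₀.comp (algebraMap k K)).toAlgebra
  have : IsScalarTower k K F := IsScalarTower.of_algebraMap_eq fun _ => rfl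
  let φ : K →ₐ[k] F := { a₁ with commutes' := fun x => (RingHom.congr_fun h x).symm }
  exact ⟨φ.restrictNormal' K, fun x => φ.restrictNormal_commutes K x⟩

variable {k}

/-- `a ⊗ b ↦ a σ(b)`. -/
noncomputable def ev (σ : K ≃ₐ[k] K) : K ⊗[k] K →ₐ[k] K :=
  Algebra.TensorProduct.productMap (AlgHom.id k K) (σ : K →ₐ[k] K)

theorem ev_tmul (σ : K ≃ₐ[k] K) (a b : K) : ev σ (a ⊗ₜ b) = a * σ b := rfl

theorem ringHom_tensor_ext {F : Type w} [CommRing F] {f g : K ⊗[k] K →+* F}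
    (h0 : ∀ a, f (a ⊗ₜ 1) = g (a ⊗ₜ 1)) (h1 : ∀ a, f (1 ⊗ₜ a) = g (1 ⊗ₜ a)) : f = g := by
  refine RingHom.ext fun x => ?_
  induction x using TensorProduct.induction_on with
  | zero => simp
  | tmul a b =>
    have : a ⊗ₜ[k] b = (a ⊗ₜ 1) * (1 ⊗ₜ b) := by simp
    rw [this, map_mul, map_mul, h0, h1]
  | add x y hx hy => rw [map_add, map_add, hx, hy]

/-- A point of `K ⊗ K` with values in a field is a point of `K` followed by some `ev σ`. -/
theorem exists_ev [Normal k K] {F : Type w} [Field F] (f : K ⊗[k] K →+* F) :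
    ∃ σ : K ≃ₐ[k] K, f = (f.comp Algebra.TensorProduct.includeLeftRingHom).comp (ev σ : K ⊗[k] K →+* K) := by
  obtain ⟨σ, hσ⟩ := exists_aut k (f.comp Algebra.TensorProduct.includeLeftRingHom)
    (f.comp (Algebra.TensorProduct.includeRight : K →ₐ[k] K ⊗[k] K).toRingHom) (by
      ext x
      change f (algebraMap k K x ⊗ₜ 1) = f (1 ⊗ₜ algebraMap k K x)
      rw [Algebra.algebraMap_eq_smul_one, ← TensorProduct.smul_tmul])
  refine ⟨σ, ringHom_tensor_ext (fun a => ?_) (fun a => ?_)⟩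
  · change f (a ⊗ₜ 1) = f (ev σ (a ⊗ₜ 1) ⊗ₜ 1)
    rw [ev_tmul, map_one, mul_one]
  · change f (1 ⊗ₜ a) = f (ev σ (1 ⊗ₜ a) ⊗ₜ 1)
    rw [ev_tmul, one_mul]
    exact (hσ a).symm

theorem ev_ext [PerfectField k] [Normal k K] {x y : K ⊗[k] K} (h : ∀ σ : K ≃ₐ[k] K, ev σ x = ev σ y) : x = y := by
  have hred : IsReduced (K ⊗[k] K) := Groth.Agent.Fdesc.GeomRed.isReduced_tensor_of_perfectField K K
  rw [← sub_eq_zero]
  have h1 : x - y ∈ nilradical (K ⊗[k] K) := by
    rw [nilradical_eq_sInf, Ideal.mem_sInf]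
    intro P hP
    have hP' : P.IsPrime := hP
    obtain ⟨σ, hσ⟩ := exists_ev (algebraMap (K ⊗[k] K) P.ResidueField)
    rw [← Ideal.algebraMap_residueField_eq_zero, hσ]
    change algebraMap (K ⊗[k] K) P.ResidueField (ev σ (x - y) ⊗ₜ 1) = 0
    rw [map_sub, h σ, sub_self, TensorProduct.zero_tmul, map_zero]
  rw [nilradical_eq_zero (K ⊗[k] K)] at h1
  exact h1

/-- A locally constant function on the Galois group only depends on the restriction to a finite subextension. -/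
theorem exists_finite_level [IsGalois k K] {A : Type*} (z : (K ≃ₐ[k] K) → A) (hz : IsLocallyConstant z) :
    ∃ α : K, ∀ σ τ : K ≃ₐ[k] K, σ α = τ α → z σ = z τ := by
  classical
  have h1 : ∀ σ : K ≃ₐ[k] K, ∃ E : IntermediateField k K, FiniteDimensional k E ∧
      ∀ τ ∈ E.fixingSubgroup, z (σ * τ) = z σ := by
    intro σ
    have h2 : (fun τ => σ * τ) ⁻¹' (z ⁻¹' {z σ}) ∈ nhds (1 : K ≃ₐ[k] K) :=
      ((hz _).preimage (continuous_const_mul σ)).mem_nhds (by simp)
    rw [krullTopology_mem_nhds_one_iff_of_normal] at h2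
    obtain ⟨E, hE1, hE2, hE3⟩ := h2
    exact ⟨E, hE1, fun τ hτ => hE3 hτ⟩
  choose E hE1 hE2 using h1
  obtain ⟨t, ht⟩ := CompactSpace.elim_nhds_subcover
    (fun σ : K ≃ₐ[k] K => (fun τ => σ⁻¹ * τ) ⁻¹' ((E σ).fixingSubgroup : Set (K ≃ₐ[k] K))) (fun σ =>
      (((E σ).fixingSubgroup_isOpen).preimage (continuous_const_mul σ⁻¹)).mem_nhds (by simp))
  let L : IntermediateField k K := ⨆ σ ∈ t, E σ
  have hL : FiniteDimensional k L := by
    have := hE1
    exact IntermediateField.finiteDimensional_iSup_of_finset'  fun i _ => hE1 i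
  let pb := Field.powerBasisOfFiniteOfSeparable k L
  refine ⟨pb.gen, fun σ τ h => ?_⟩
  have h3 : ∀ x : L, σ (x : K) = τ (x : K) := by
    have h4 : ((σ : K →ₐ[k] K).comp L.val) = ((τ : K →ₐ[k] K).comp L.val) := pb.algHom_ext h
    exact fun x => DFunLike.congr_fun h4 x
  have h5 : τ ∈ ⋃ σ ∈ t, (fun τ => σ⁻¹ * τ) ⁻¹' ((E σ).fixingSubgroup : Set (K ≃ₐ[k] K)) := by
    rw [ht]; trivial
  simp only [Set.mem_iUnion] at h5
  obtain ⟨ρ, hρ, h6⟩ := h5
  have h7 : ∀ x ∈ E ρ, σ x = τ x := fun x hx =>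
    h3 ⟨x, (le_iSup₂_of_le (f := fun σ (_ : σ ∈ t) => E σ) ρ hρ le_rfl : E ρ ≤ L) hx⟩
  have h8 : ρ⁻¹ * σ ∈ (E ρ).fixingSubgroup := by
    have h9 : ρ⁻¹ * τ ∈ (E ρ).fixingSubgroup := h6
    rw [IntermediateField.mem_fixingSubgroup_iff] at h9 ⊢
    intro x hx
    have h12 : ρ⁻¹ (τ x) = x := h9 x hx
    change ρ⁻¹ (σ x) = x
    rw [h7 x hx, h12]
  have h10 := hE2 ρ _ h8
  have h11 := hE2 ρ _ h6
  rw [mul_inv_cancel_left] at h10 h11
  rw [h10, h11]

/-- A locally constant family of ring maps `A → K` comes from a ring map `A → K ⊗ K`. -/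
theorem exists_interp [PerfectField k] [IsGalois k K] {A : Type w} [CommRing A] (z : (K ≃ₐ[k] K) → (A →+* K))
    (hz : IsLocallyConstant z) : ∃ ψ : A →+* K ⊗[k] K, ∀ σ a, ev σ (ψ a) = z σ a := by
  classical
  obtain ⟨α, hα⟩ := exists_finite_level z hz
  let O : Set K := Set.range fun σ : K ≃ₐ[k] K => σ α
  have hO : O.Finite := by
    refine ((minpoly k α).rootSet_finite K).subset ?_
    rintro _ ⟨σ, rfl⟩
    rw [Polynomial.mem_rootSet]
    refine ⟨minpoly.ne_zero (Algebra.IsIntegral.isIntegral α), ?_⟩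
    change Polynomial.aeval ((σ : K →ₐ[k] K) α) _ = 0
    rw [Polynomial.aeval_algHom_apply, minpoly.aeval, map_zero]
  have hs : ∀ β : K, ∃ σ : K ≃ₐ[k] K, β ∈ O → σ α = β := by
    intro β
    by_cases hβ : β ∈ O
    · obtain ⟨σ, rfl⟩ := hβ
      exact ⟨σ, fun _ => rfl⟩
    · exact ⟨1, fun h => absurd h hβ⟩
  choose s hs using hs
  let e : K → K ⊗[k] K := fun β => ∏ β' ∈ hO.toFinset.erase β, ((β - β')⁻¹ ⊗ₜ[k] (1 : K)) * (1 ⊗ₜ α - β' ⊗ₜ 1)
  have he : ∀ (σ : K ≃ₐ[k] K) (β : K), β ∈ O → ev σ (e β) = if σ α = β then 1 else 0 := by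
    intro σ β hβ
    simp only [e]
    rw [map_prod]
    simp only [map_mul, map_sub, ev_tmul, map_one, mul_one, one_mul]
    by_cases h : σ α = β
    · rw [if_pos h]
      apply Finset.prod_eq_one
      intro β' hβ'
      rw [h]
      exact inv_mul_cancel₀ (sub_ne_zero.mpr (Finset.ne_of_mem_erase hβ').symm)
    · rw [if_neg h]
      apply Finset.prod_eq_zero (i := σ α)
      · rw [Finset.mem_erase, Set.Finite.mem_toFinset]
        exact ⟨h, σ, rfl⟩
      · rw [sub_self, mul_zero]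
  let f : A → K ⊗[k] K := fun a => ∑ β ∈ hO.toFinset, (z (s β) a ⊗ₜ[k] (1 : K)) * e β
  have hf : ∀ σ a, ev σ (f a) = z σ a := by
    intro σ a
    simp only [f]
    rw [map_sum, Finset.sum_eq_single (σ α)]
    · rw [map_mul, ev_tmul, map_one, mul_one, he σ (σ α) ⟨σ, rfl⟩, if_pos rfl, mul_one]
      rw [hα (s (σ α)) σ (hs _ ⟨σ, rfl⟩)]
    · intro β hβ hne
      rw [map_mul, he σ β ((Set.Finite.mem_toFinset hO).mp hβ), if_neg hne.symm, mul_zero]
    · intro h
      exact absurd ((Set.Finite.mem_toFinset hO).mpr ⟨σ, rfl⟩) h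
  refine ⟨{ toFun := f, map_one' := ?_, map_mul' := ?_, map_zero' := ?_, map_add' := ?_ }, fun σ a => hf σ a⟩
  · exact ev_ext fun σ => by rw [hf, map_one, map_one]
  · exact fun a b => ev_ext fun σ => by rw [hf, map_mul, map_mul, hf, hf]
  · exact ev_ext fun σ => by rw [hf, map_zero, map_zero]
  · exact fun a b => ev_ext fun σ => by rw [hf, map_add, map_add, hf, hf]

end K815.FieldR
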