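import Groth.Agent.StackCount.K815.Lang
import Groth.Agent.StackCount.K815.GalFin
import Groth.Agent.Sga3B.BcPts
import Groth.Prelude.Def_Frob
import Groth.Prelude.Def_GalTw2

/-!
# The `q`-Frobenius endomorphism of a scheme over a finite field

* `Fr X : X ⟶ X` for `X : Over (Spec k)`, `k` finite: natural (`comp_Fr`), a homomorphism on group schemes,
  kills square-zero thickenings (`infKill_Fr`), and on points with values in an algebraic extension it is the action of
  the Frobenius automorphism (`pt_comp_Fr`).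
* `FrK X : bcK K X ⟶ bcK K X`, its base change; `infKill_FrK`, `secOfPt_FrK`.
-/

set_option autoImplicit false
universe u
open CategoryTheory Limits MonoidalCategory CartesianMonoidalCategory MonObj GrpObj AlgebraicGeometry

namespace K815.Frob

section iter

variable (p : ℕ) [Fact p.Prime]

/-- The `p ^ n`-Frobenius. -/
noncomputable def it (X : Scheme.{u}) [FrobSch.IsCharP X p] : ℕ → (X ⟶ X)
  | 0 => 𝟙 X
  | n + 1 => it X n ≫ FrobSch.frob X p

theorem it_comp {X Y : Scheme.{u}} [FrobSch.IsCharP X p] [FrobSch.IsCharP Y p] (f : X ⟶ Y) (n : ℕ) :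
    it p X n ≫ f = f ≫ it p Y n := by
  induction n with
  | zero => simp [it]
  | succ n ih => rw [it, it, Category.assoc, FrobSch.frob_comp, ← Category.assoc, ih, Category.assoc]

theorem frob_spec (R : Type u) [CommRing R] [FrobSch.IsCharP (Spec (CommRingCat.of R)) p] (φ : R →+* R)
    (hφ : ∀ r, φ r = r ^ p) : FrobSch.frob (Spec (CommRingCat.of R)) p = Spec.map (CommRingCat.ofHom φ) := by
  obtain ⟨ψ, hψ⟩ := Spec.map_surjective (FrobSch.frob (Spec (CommRingCat.of R)) p)
  rw [← hψ]
  congr 1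
  ext r
  change ψ.hom r = φ r
  rw [hφ]
  have h1 := Scheme.ΓSpecIso_inv_naturality ψ
  have h2 : (Scheme.ΓSpecIso (CommRingCat.of R)).inv.hom (ψ.hom r) =
      (Spec.map ψ).appTop ((Scheme.ΓSpecIso (CommRingCat.of R)).inv.hom r) :=
    congrArg (fun f => f.hom r) h1
  rw [hψ, FrobSch.frob_appTop, ← map_pow] at h2
  exact (ConcreteCategory.bijective_of_isIso (Scheme.ΓSpecIso (CommRingCat.of R)).inv).1 h2

theorem it_spec (R : Type u) [CommRing R] [FrobSch.IsCharP (Spec (CommRingCat.of R)) p] (n : ℕ) (φ : R →+* R)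
    (hφ : ∀ r, φ r = r ^ p ^ n) : it p (Spec (CommRingCat.of R)) n = Spec.map (CommRingCat.ofHom φ) := by
  have hp : (p : R) = 0 := by
    have h : (p : Γ(Spec (CommRingCat.of R), ⊤)) = 0 := FrobSch.IsCharP.natCast_eq_zero
    have := congrArg (Scheme.ΓSpecIso (CommRingCat.of R)).hom h
    simpa using this
  induction n generalizing φ with
  | zero =>
    have : CommRingCat.ofHom φ = 𝟙 _ := by
      ext r
      exact (hφ r).trans (by simp)
    rw [this, Spec.map_id]
    rfl
  | succ n ih =>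
    let ψ : R →+* R := (FrobSch.powHom p R hp)
    let χ : R →+* R := Nat.rec (RingHom.id R) (fun _ f => f.comp ψ) n
    have hχ : ∀ r, χ r = r ^ p ^ n := by
      have : ∀ m : ℕ, ∀ r, (Nat.rec (RingHom.id R) (fun _ f => f.comp ψ) m : R →+* R) r = r ^ p ^ m := by
        intro m
        induction m with
        | zero => intro r; simp
        | succ m ihm =>
          intro r
          change (Nat.rec (RingHom.id R) (fun _ f => f.comp ψ) m : R →+* R) (ψ r) = _
          rw [ihm]
          change (r ^ p) ^ p ^ m = _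
          rw [← pow_mul, ← pow_succ']
      exact this n
    rw [it, ih χ hχ, frob_spec p R ψ (fun _ => rfl), ← Spec.map_comp]
    congr 1
    ext r
    change χ (ψ r) = φ r
    rw [hχ, hφ]
    change (r ^ p) ^ p ^ n = _
    rw [← pow_mul, ← pow_succ']

end iter

section main

variable {k : Type u} [Field k] [Finite k]

theorem exists_pn (k : Type u) [Field k] [Finite k] :
    ∃ p n : ℕ, ∃ _ : Fact p.Prime, CharP k p ∧ n ≠ 0 ∧ Nat.card k = p ^ n := by
  cases nonempty_fintype k
  obtain ⟨p, hp⟩ := CharP.exists k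
  obtain ⟨n, hn1, hn2⟩ := FiniteField.card k p
  exact ⟨p, n, ⟨hn1⟩, hp, n.2.ne', by rw [Nat.card_eq_fintype_card, hn2]⟩

/-- There is a natural endomorphism of the identity functor of `k`-schemes, which is `c ↦ c ^ q` on affine schemes. -/
theorem exists_Fr (k : Type u) [Field k] [Finite k] :
    ∃ F : 𝟭 (Over (Spec (CommRingCat.of k))) ⟶ 𝟭 (Over (Spec (CommRingCat.of k))),
      ∀ (C : Type u) [CommRing C] (b : Spec (CommRingCat.of C) ⟶ Spec (CommRingCat.of k)),
        ∃ φ : C →+* C, (∀ c, φ c = c ^ Nat.card k) ∧ (F.app (Over.mk b)).left = Spec.map (CommRingCat.ofHom φ) := by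
  obtain ⟨p, n, hp, hc, hn, hq⟩ := exists_pn k
  have hX : ∀ X : Over (Spec (CommRingCat.of k)), FrobSch.IsCharP X.left p := fun X => FrobSch.IsCharP.of_hom X.hom p
  have hk : it p (Spec (CommRingCat.of k)) n = 𝟙 _ := by
    rw [it_spec p k n (RingHom.id k) (fun r => ?_)]
    · exact Spec.map_id _
    · cases nonempty_fintype k
      rw [← hq, Nat.card_eq_fintype_card, FiniteField.pow_card]
      rfl
  refine ⟨{ app := fun X => Over.homMk (it p X.left n) ?_, naturality := fun X Y f => ?_ }, fun C _ b => ?_⟩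
  · change it p X.left n ≫ X.hom = X.hom
    rw [it_comp, hk, Category.comp_id]
  · apply Over.OverMorphism.ext
    exact (it_comp p f.left n).symm
  · have h1 : FrobSch.IsCharP (Spec (CommRingCat.of C)) p := hX (Over.mk b)
    have hp0 : (p : C) = 0 := by
      have h : (p : Γ(Spec (CommRingCat.of C), ⊤)) = 0 := FrobSch.IsCharP.natCast_eq_zero
      have := congrArg (Scheme.ΓSpecIso (CommRingCat.of C)).hom h
      simpa using this
    have h2 : ∀ m : ℕ, ∃ φ : C →+* C, ∀ c, φ c = c ^ p ^ m := by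
      intro m
      induction m with
      | zero => exact ⟨RingHom.id C, fun c => by simp⟩
      | succ m ih =>
        obtain ⟨φ, hφ⟩ := ih
        refine ⟨φ.comp (FrobSch.powHom p C hp0), fun c => ?_⟩
        rw [RingHom.comp_apply, hφ, FrobSch.powHom_apply, ← pow_mul, ← pow_succ']
    obtain ⟨φ, hφ⟩ := h2 n
    exact ⟨φ, fun c => by rw [hφ, hq], it_spec p C n φ hφ⟩

/-- The `q`-Frobenius as a natural endomorphism. -/
noncomputable def FrNat (k : Type u) [Field k] [Finite k] :
    𝟭 (Over (Spec (CommRingCat.of k))) ⟶ 𝟭 (Over (Spec (CommRingCat.of k))) :=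
  (exists_Fr k).choose

/-- The `q`-Frobenius of a `k`-scheme. -/
noncomputable def Fr (X : Over (Spec (CommRingCat.of k))) : X ⟶ X := (FrNat k).app X

theorem exists_Fr_left (C : Type u) [CommRing C] (b : Spec (CommRingCat.of C) ⟶ Spec (CommRingCat.of k)) :
    ∃ φ : C →+* C, (∀ c, φ c = c ^ Nat.card k) ∧ (Fr (Over.mk b)).left = Spec.map (CommRingCat.ofHom φ) :=
  (exists_Fr k).choose_spec C b

@[reassoc]
theorem comp_Fr {X Y : Over (Spec (CommRingCat.of k))} (f : X ⟶ Y) : f ≫ Fr Y = Fr X ≫ f :=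
  (FrNat k).naturality f

theorem infKill_Fr (X : Over (Spec (CommRingCat.of k))) : Lang.InfKill (Fr X) := by
  intro C _ I hI b g₁ g₂ hg
  rw [comp_Fr, comp_Fr]
  obtain ⟨φ, hφ1, hφ2⟩ := exists_Fr_left C b
  have hq : 2 ≤ Nat.card k := by
    cases nonempty_fintype k
    rw [Nat.card_eq_fintype_card]
    exact Fintype.one_lt_card
  have h1 : ∀ c ∈ I, φ c = 0 := by
    intro c hc
    have : c ^ 2 ∈ I ^ 2 := Ideal.pow_mem_pow hc 2
    rw [hI, Ideal.mem_bot] at this
    rw [hφ1]
    exact pow_eq_zero_of_le hq this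
  have h2 : CommRingCat.ofHom φ =
      CommRingCat.ofHom (Ideal.Quotient.mk I) ≫ CommRingCat.ofHom (Ideal.Quotient.lift I φ h1) := by
    ext c
    rfl
  apply Over.OverMorphism.ext
  rw [Over.comp_left, Over.comp_left, hφ2, h2, Spec.map_comp, Category.assoc, hg, Category.assoc]

instance isMonHom_Fr (G : Over (Spec (CommRingCat.of k))) [GrpObj G] : IsMonHom (Fr G) where
  one_hom := by
    rw [comp_Fr]
    have : Fr (𝟙_ (Over (Spec (CommRingCat.of k)))) = 𝟙 _ := toUnit_unique _ _
    rw [this, Category.id_comp]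
  mul_hom := by
    rw [comp_Fr]
    congr 1
    ext1
    · rw [tensorHom_fst, comp_Fr]
    · rw [tensorHom_snd, comp_Fr]

variable {K : Type u} [Field K] [Algebra k K]

theorem pt_comp_Fr {π : K ≃ₐ[k] K} (hπ : ∀ x, π x = x ^ Nat.card k) {X : Over (Spec (CommRingCat.of k))}
    (x : SGA7.Pts K X) : x ≫ Fr X = SGA7.specAut π ≫ x := by
  rw [comp_Fr]
  congr 1
  obtain ⟨φ, hφ1, hφ2⟩ := exists_Fr_left K (Spec.map (CommRingCat.ofHom (algebraMap k K)))
  apply Over.OverMorphism.ext
  refine hφ2.trans ?_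
  change Spec.map _ = Spec.map _
  congr 1
  ext x
  exact (hφ1 x).trans (hπ x).symm

theorem pt_comp_Fr' {π : K ≃ₐ[k] K} (hπ : ∀ x, π x = x ^ Nat.card k) {X : Over (Spec (CommRingCat.of k))}
    (x : SGA7.Pts K X) : x ≫ Fr X = π • x := pt_comp_Fr hπ x

end main

section bc

open Groth.Agent.Sga3B.BcPts

variable {k : Type u} [Field k] {K : Type u} [Field K] [Algebra k K]

theorem infKill_bc {X Y : Over (Spec (CommRingCat.of k))} {F : X ⟶ Y} (hF : Lang.InfKill F)
    (f : Spec (CommRingCat.of K) ⟶ Spec (CommRingCat.of k)) :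
    Lang.InfKill (k := K) ((Over.pullback f).map F) := by
  intro C _ I hI b g₁ g₂ hg
  obtain ⟨h₁, rfl⟩ := (bcEquiv f (Over.mk b) X).surjective g₁
  obtain ⟨h₂, rfl⟩ := (bcEquiv f (Over.mk b) X).surjective g₂
  rw [← bcEquiv_comp, ← bcEquiv_comp]
  congr 1
  refine hF C I hI (b ≫ f) h₁ h₂ ?_
  have h3 : ∀ h : (Over.map f).obj (Over.mk b) ⟶ X,
      (bcEquiv f (Over.mk b) X h).left ≫ pullback.fst X.hom f = h.left := by
    intro h
    simp only [bcEquiv, Adjunction.homEquiv_unit]
    simp
    erw [pullback.lift_fst]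
    rw [← Category.assoc]
    erw [pullback.lift_fst]
    exact Category.id_comp _
  rw [← h3 h₁, ← h3 h₂, ← Category.assoc, hg, Category.assoc]

end bc

end K815.Frob
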