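import Groth.Agent.S1488
import Groth.Agent.Ega43.FPOfComp
import Groth.Agent.RedSub.H650.ValAC
import Mathlib.AlgebraicGeometry.Group.Abelian
import Mathlib.AlgebraicGeometry.PullbackCarrier
import Mathlib.AlgebraicGeometry.Geometrically.Basic
import Mathlib.AlgebraicGeometry.Morphisms.UniversallyOpen

/-!
# Lang's theorem, general form

`G` a smooth connected group scheme over a field `k` (not necessarily affine), `F` an endomorphism of the group
scheme `G` which kills first order thickenings (`InfKill`: two points of `G` with values in a square-zero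
thickening which agree on the closed subscheme have the same image under `F`).  Then `g ↦ g · F(g)⁻¹` is surjective
(`surjective_lang`), and if `k` is algebraically closed it is surjective on `k`-points (`exists_pt`).
(The proof is the one of `Groth.Agent.Agf.H616.LangMain`, with the `q`-Frobenius of an affine group replaced by `F`.)
-/

set_option autoImplicit false
universe u
open CategoryTheory Limits MonoidalCategory CartesianMonoidalCategory MonObj GrpObj AlgebraicGeometry

namespace K815.Lang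

variable {k : Type u} [Field k]

/-- The endomorphism `F` only depends on a point modulo a square-zero ideal. -/
def InfKill {G H : Over (Spec (CommRingCat.of k))} (F : G ⟶ H) : Prop :=
  ∀ (C : Type u) [CommRing C] (I : Ideal C), I ^ 2 = ⊥ → ∀ (b : Spec (CommRingCat.of C) ⟶ Spec (CommRingCat.of k))
    (g₁ g₂ : Over.mk b ⟶ G),
    Spec.map (CommRingCat.ofHom (Ideal.Quotient.mk I)) ≫ g₁.left =
      Spec.map (CommRingCat.ofHom (Ideal.Quotient.mk I)) ≫ g₂.left → g₁ ≫ F = g₂ ≫ F

theorem InfKill.comp {G H K : Over (Spec (CommRingCat.of k))} {F : G ⟶ H} (h : InfKill F) (f : H ⟶ K) :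
    InfKill (F ≫ f) := by
  intro C _ I hI b g₁ g₂ hg
  rw [← Category.assoc, h C I hI b g₁ g₂ hg, Category.assoc]

theorem InfKill.comp_left {G H K : Over (Spec (CommRingCat.of k))} {F : H ⟶ K} (h : InfKill F) (f : G ⟶ H) :
    InfKill (f ≫ F) := by
  intro C _ I hI b g₁ g₂ hg
  rw [← Category.assoc, ← Category.assoc]
  refine h C I hI b (g₁ ≫ f) (g₂ ≫ f) ?_
  rw [Over.comp_left, Over.comp_left, ← Category.assoc, hg, Category.assoc]

theorem InfKill.of_mono {N G H : Over (Spec (CommRingCat.of k))} {F : N ⟶ G} (j : G ⟶ H) [Mono j]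
    (h : InfKill (F ≫ j)) : InfKill F := by
  intro C _ I hI b g₁ g₂ hg
  rw [← cancel_mono j, Category.assoc, Category.assoc]
  exact h C I hI b g₁ g₂ hg

variable (G : Over (Spec (CommRingCat.of k))) [GrpObj G] (F : G ⟶ G)

/-- `(g, t) ↦ g x(t) F(g)⁻¹`. -/
noncomputable def tw {T : Over (Spec (CommRingCat.of k))} (x : T ⟶ G) : G ⊗ T ⟶ G :=
  fst G T * (snd G T ≫ x) * (fst G T ≫ F)⁻¹

lemma lift_tw {Z T : Over (Spec (CommRingCat.of k))} (x : T ⟶ G) (g : Z ⟶ G) (t : Z ⟶ T) :
    lift g t ≫ tw G F x = g * (t ≫ x) * (g ≫ F)⁻¹ := by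
  simp only [tw, MonObj.comp_mul, GrpObj.comp_inv, lift_fst, lift_snd_assoc, lift_fst_assoc]

lemma comp_tw {Z T : Over (Spec (CommRingCat.of k))} (x : T ⟶ G) (z : Z ⟶ G ⊗ T) :
    z ≫ tw G F x = (z ≫ fst G T) * (z ≫ snd G T ≫ x) * (z ≫ fst G T ≫ F)⁻¹ := by
  simp only [tw, MonObj.comp_mul, GrpObj.comp_inv]

/-- `(g, t) ↦ g x(t) F(g)⁻¹` is smooth. -/
theorem smooth_lift_tw [Smooth G.hom] (hF : InfKill F)
    {T : Over (Spec (CommRingCat.of k))} (x : T ⟶ G) :
    Smooth (lift (tw G F x) (snd G T)).left := by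
  have hfp : LocallyOfFinitePresentation (snd G T).left := by
    rw [Over.snd_left]; infer_instance
  refine (Groth.Agent.S1488.result _).mpr ⟨?_, ?_⟩
  · have h1 : (lift (tw G F x) (snd G T)).left ≫ (snd G T).left = (snd G T).left := by
      rw [← Over.comp_left, lift_snd]
    have : LocallyOfFinitePresentation ((lift (tw G F x) (snd G T)).left ≫ (snd G T).left) := by
      rw [h1]; exact hfp
    exact Groth.Agent.Ega43.FPOfComp.locallyOfFinitePresentation_of_comp _ (snd G T).left
  intro C _ I hI a y hay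
  let Z : Over (Spec (CommRingCat.of k)) := Over.mk (y ≫ (G ⊗ T).hom)
  let Z₀ : Over (Spec (CommRingCat.of k)) :=
    Over.mk (Spec.map (CommRingCat.ofHom (Ideal.Quotient.mk I)) ≫ Z.hom)
  let i : Z₀ ⟶ Z := Over.homMk (Spec.map (CommRingCat.ofHom (Ideal.Quotient.mk I)))
  let y' : Z ⟶ G ⊗ T := Over.homMk y
  let a' : Z₀ ⟶ G ⊗ T := Over.homMk a (by
    simp only [Z₀, Z, Over.mk_hom]
    rw [← Category.assoc, hay, Category.assoc, Over.w])
  have hay' : a' ≫ lift (tw G F x) (snd G T) = i ≫ y' := by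
    apply Over.OverMorphism.ext
    exact hay.symm
  have h1 : (a' ≫ fst G T) * (a' ≫ snd G T ≫ x) * (a' ≫ fst G T ≫ F)⁻¹ = i ≫ y' ≫ fst G T := by
    rw [← comp_tw, ← Category.assoc, ← hay', Category.assoc, lift_fst]
  have h2 : a' ≫ snd G T = i ≫ y' ≫ snd G T := by
    rw [← Category.assoc, ← hay', Category.assoc, lift_snd]
  obtain ⟨l, hl1, hl2⟩ := ((Groth.Agent.S1488.result G.hom).mp inferInstance).2 C I hI (a' ≫ fst G T).left Z.hom
    (by rw [Over.w]; rfl)
  let g₁ : Z ⟶ G := Over.homMk l hl2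
  have hg₁ : i ≫ g₁ = a' ≫ fst G T := by
    ext1; exact hl1
  let g : Z ⟶ G := (y' ≫ fst G T) * (g₁ ≫ F) * (y' ≫ snd G T ≫ x)⁻¹
  have hg : i ≫ g = a' ≫ fst G T := by
    simp only [g, MonObj.comp_mul, GrpObj.comp_inv]
    rw [← h1, ← Category.assoc i g₁ F, hg₁, Category.assoc, reassoc_of% h2]
    group
  have hgF : g ≫ F = g₁ ≫ F :=
    hF C I hI _ g g₁ (congrArg CommaMorphism.left (hg.trans hg₁.symm))
  refine ⟨(lift g (y' ≫ snd G T)).left, ?_, ?_⟩
  · have : i ≫ lift g (y' ≫ snd G T) = a' := by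
      ext1
      · rw [Category.assoc, lift_fst, hg]
      · rw [Category.assoc, lift_snd, h2]
    exact congrArg CommaMorphism.left this
  · have : lift g (y' ≫ snd G T) ≫ lift (tw G F x) (snd G T) = y' := by
      ext1
      · rw [Category.assoc, lift_fst, lift_tw, hgF]
        simp only [g, Category.assoc]
        group
      · rw [Category.assoc, lift_snd, lift_snd]
    exact congrArg CommaMorphism.left this

variable {G}

omit [GrpObj G] in
/-- Points with the same image lift to a common test object. -/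
lemma exists_common {S : Scheme.{u}} {X X' Y : Over S} (f : X ⟶ Y) (g : X' ⟶ Y) (x : X.left) (x' : X'.left)
    (h : f.left x = g.left x') :
    ∃ (Z : Over S) (a : Z ⟶ X) (b : Z ⟶ X') (z : Z.left), a ≫ f = b ≫ g ∧ a.left z = x ∧ b.left z = x' := by
  obtain ⟨z, hz1, hz2⟩ := Scheme.Pullback.exists_preimage_pullback (f := f.left) (g := g.left) x x' h
  refine ⟨Over.mk (pullback.fst f.left g.left ≫ X.hom), Over.homMk (pullback.fst f.left g.left),
    Over.homMk (pullback.snd f.left g.left) ?_, z, ?_, hz1, hz2⟩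
  · change pullback.snd f.left g.left ≫ X'.hom = pullback.fst f.left g.left ≫ X.hom
    rw [← Over.w f, pullback.condition_assoc, Over.w g]
  · apply Over.OverMorphism.ext
    exact pullback.condition

lemma comp_lang {Z : Over (Spec (CommRingCat.of k))} (g : Z ⟶ G) :
    g ≫ (𝟙 G * F⁻¹ : G ⟶ G) = g * (g ≫ F)⁻¹ := by
  rw [MonObj.comp_mul, Category.comp_id, GrpObj.comp_inv]

/-- The spectrum of the residue field of a point. -/
noncomputable abbrev resT (z : G.left) : Over (Spec (CommRingCat.of k)) :=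
  Over.mk (G.left.fromSpecResidueField z ≫ G.hom)

/-- The tautological point. -/
noncomputable abbrev resPt (z : G.left) : resT z ⟶ G := Over.homMk (G.left.fromSpecResidueField z)

/-- The twisted orbit of a point. -/
def orb (z : G.left) : Set G.left := Set.range (tw G F (resPt z)).left

lemma isOpen_orb [Smooth G.hom] (hF : InfKill F) (z : G.left) : IsOpen (orb F z) := by
  have h1 : tw G F (resPt z) = lift (tw G F (resPt z)) (snd G (resT z)) ≫ fst G (resT z) := by
    rw [lift_fst]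
  have h2 : Smooth (lift (tw G F (resPt z)) (snd G (resT z))).left := smooth_lift_tw G F hF _
  have h3 : UniversallyOpen (lift (tw G F (resPt z)) (snd G (resT z))).left := inferInstance
  have h4 : UniversallyOpen (fst G (resT z)).left := by
    rw [Over.fst_left]; infer_instance
  have h5 : UniversallyOpen (tw G F (resPt z)).left := by
    rw [h1, Over.comp_left]; infer_instance
  exact (Scheme.Hom.isOpenMap (tw G F (resPt z)).left).isOpen_range

lemma mem_orb [IsMonHom F] (z : G.left) : z ∈ orb F z := by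
  let t : (resT z).left := IsLocalRing.closedPoint (G.left.residueField z)
  refine ⟨(lift 1 (𝟙 (resT z))).left t, ?_⟩
  rw [← Scheme.Hom.comp_apply, ← Over.comp_left, lift_tw, Category.id_comp, _root_.one_mul]
  have : (1 : resT z ⟶ G) ≫ F = 1 := by simp
  rw [this, inv_one, _root_.mul_one]
  exact G.left.fromSpecResidueField_apply z t

lemma mem_of_orb_inter [IsMonHom F] (z y : G.left) (hy : y ∈ orb F z)
    (hy' : y ∈ Set.range (𝟙 G * F⁻¹ : G ⟶ G).left) : z ∈ Set.range (𝟙 G * F⁻¹ : G ⟶ G).left := by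
  obtain ⟨v, rfl⟩ := hy
  obtain ⟨h, hh⟩ := hy'
  obtain ⟨Z, a, b, w, hab, haw, hbw⟩ := exists_common (tw G F (resPt z)) (𝟙 G * F⁻¹ : G ⟶ G) v h hh.symm
  rw [comp_tw, comp_lang] at hab
  refine ⟨((a ≫ fst G _)⁻¹ * b).left w, ?_⟩
  rw [← Scheme.Hom.comp_apply, ← Over.comp_left, comp_lang]
  have h1 : ((a ≫ fst G (resT z))⁻¹ * b) * (((a ≫ fst G (resT z))⁻¹ * b) ≫ F)⁻¹ =
      a ≫ snd G (resT z) ≫ resPt z := by
    rw [MonObj.mul_comp, GrpObj.inv_comp, Category.assoc, _root_.mul_inv_rev, _root_.inv_inv]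
    calc _ = (a ≫ fst G (resT z))⁻¹ * (b * (b ≫ F)⁻¹) * (a ≫ fst G (resT z) ≫ F) := by group
      _ = _ := by rw [← hab]; group
  rw [h1]
  simp only [Over.comp_left, Scheme.Hom.comp_apply, Over.homMk_left]
  exact G.left.fromSpecResidueField_apply z _

lemma orb_subset [IsMonHom F] (z : G.left) (hz : z ∈ Set.range (𝟙 G * F⁻¹ : G ⟶ G).left) :
    orb F z ⊆ Set.range (𝟙 G * F⁻¹ : G ⟶ G).left := by
  rintro _ ⟨v, rfl⟩
  obtain ⟨h, hh⟩ := hz
  obtain ⟨Z, a, b, w, hab, haw, hbw⟩ := exists_common (snd G (resT z) ≫ resPt z) (𝟙 G * F⁻¹ : G ⟶ G) v h (by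
    rw [hh]
    simp only [Over.comp_left, Scheme.Hom.comp_apply, Over.homMk_left]
    exact G.left.fromSpecResidueField_apply z _)
  rw [comp_lang] at hab
  refine ⟨((a ≫ fst G _) * b).left w, ?_⟩
  rw [← Scheme.Hom.comp_apply, ← Over.comp_left, comp_lang]
  have h1 : ((a ≫ fst G (resT z)) * b) * (((a ≫ fst G (resT z)) * b) ≫ F)⁻¹ =
      a ≫ tw G F (resPt z) := by
    rw [comp_tw, hab, MonObj.mul_comp, Category.assoc, _root_.mul_inv_rev]
    group
  rw [h1, Over.comp_left, Scheme.Hom.comp_apply, haw]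

/-- **Lang's theorem**. -/
theorem surjective_lang [Smooth G.hom] [ConnectedSpace G.left] [IsMonHom F] (hF : InfKill F) :
    Surjective ((𝟙 G * F⁻¹ : G ⟶ G).left) := by
  let U : Set G.left := Set.range (𝟙 G * F⁻¹ : G ⟶ G).left
  have hU : IsOpen U := by
    rw [isOpen_iff_forall_mem_open]
    exact fun z hz => ⟨orb F z, orb_subset F z hz, isOpen_orb F hF z, mem_orb F z⟩
  have hUc : IsOpen Uᶜ := by
    rw [isOpen_iff_forall_mem_open]
    exact fun z hz => ⟨orb F z, fun y hy hy' => hz (mem_of_orb_inter F z y hy hy'), isOpen_orb F hF z,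
      mem_orb F z⟩
  have hne : U.Nonempty := Set.range_nonempty _
  have h : U = Set.univ := IsClopen.eq_univ ⟨⟨hUc⟩, hU⟩ hne
  exact ⟨Set.range_eq_univ.mp h⟩

/-- **Lang's theorem** on rational points over an algebraically closed field. -/
theorem exists_pt [IsAlgClosed k] [Smooth G.hom] [ConnectedSpace G.left] [IsMonHom F] (hF : InfKill F)
    (y : 𝟙_ (Over (Spec (CommRingCat.of k))) ⟶ G) :
    ∃ g : 𝟙_ (Over (Spec (CommRingCat.of k))) ⟶ G, g * (g ≫ F)⁻¹ = y := by
  have h1 := surjective_lang F hF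
  have h2 : LocallyOfFiniteType ((𝟙 G * F⁻¹ : G ⟶ G).left) := by
    have h3 : (𝟙 G * F⁻¹ : G ⟶ G).left ≫ G.hom = G.hom := Over.w _
    have h4 : LocallyOfFiniteType ((𝟙 G * F⁻¹ : G ⟶ G).left ≫ G.hom) := by
      rw [h3]; infer_instance
    exact locallyOfFiniteType_of_comp _ G.hom
  obtain ⟨x, hx⟩ := Groth.Agent.RedSub.H650.ValAC.exists_lift_pt (𝟙 G * F⁻¹ : G ⟶ G).left k y.left
  have hx' : x ≫ G.hom = (𝟙_ (Over (Spec (CommRingCat.of k)))).hom := by
    rw [← Over.w (𝟙 G * F⁻¹ : G ⟶ G), ← Category.assoc, hx, Over.w]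
  refine ⟨Over.homMk x hx', ?_⟩
  rw [← comp_lang]
  apply Over.OverMorphism.ext
  exact hx

end K815.Lang
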