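import Groth.Agent.StackCount.K815.Ess

/-!
# Locally constant cocycles with given value at Frobenius, in a tower `k ⊆ k' ⊆ kb` of a finite field
-/

set_option autoImplicit false
set_option linter.unusedSectionVars false
universe u
open CategoryTheory Limits MonoidalCategory CartesianMonoidalCategory MonObj GrpObj AlgebraicGeometry

namespace K815.Lc

open K815.Tors K815.Obj K815.PtEq K815.Coc K815.Ess

section fin

variable {k kb : Type u} [Field k] [Finite k] [Field kb] [Algebra k kb] [IsAlgClosed kb] [Algebra.IsAlgebraic k kb]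

theorem exists_pow_fix {X : Over (Spec (CommRingCat.of k))} [LocallyOfFiniteType X.hom] {π : kb ≃ₐ[k] kb}
    (hπ : ∀ x, π x = x ^ Nat.card k) (x : SGA7.Pts kb X) : ∃ n : ℕ, n ≠ 0 ∧ π ^ n • x = x := by
  have hg := GalFin.gen hπ
  have h1 : IsOpen {σ : kb ≃ₐ[k] kb | (π * σ) • x = x} :=
    (Rat.isOpen_stab (k := k) (K := kb) x).preimage (continuous_const_mul π)
  obtain ⟨i, hi⟩ := hg.dense _ h1 ⟨π⁻¹, by
    change (π * π⁻¹) • x = x
    rw [mul_inv_cancel, one_smul]⟩
  exact ⟨i + 1, Nat.succ_ne_zero i, by rw [pow_succ']; exact hi⟩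

/-- The Galois orbit of a point is the Frobenius orbit. -/
theorem exists_pow_eq {X : Over (Spec (CommRingCat.of k))} [LocallyOfFiniteType X.hom] {π : kb ≃ₐ[k] kb}
    (hπ : ∀ x, π x = x ^ Nat.card k) (x : SGA7.Pts kb X) (σ : kb ≃ₐ[k] kb) : ∃ i : ℕ, σ • x = π ^ i • x := by
  have hg := GalFin.gen hπ
  have h1 : IsOpen {τ : kb ≃ₐ[k] kb | (σ⁻¹ * τ) • x = x} :=
    (Rat.isOpen_stab (k := k) (K := kb) x).preimage (continuous_const_mul σ⁻¹)
  obtain ⟨i, hi⟩ := hg.dense _ h1 ⟨σ, by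
    change (σ⁻¹ * σ) • x = x
    rw [inv_mul_cancel, one_smul]⟩
  refine ⟨i, ?_⟩
  have hi' : (σ⁻¹ * π ^ i) • x = x := hi
  rw [mul_smul, inv_smul_eq_iff] at hi'
  exact hi'.symm

theorem exists_fin_sub {G : Over (Spec (CommRingCat.of k))} [GrpObj G] [LocallyOfFiniteType G.hom] [QuasiCompact G.hom]
    {π : kb ≃ₐ[k] kb} (hπ : ∀ x, π x = x ^ Nat.card k) (a : SGA7.Pts kb G) :
    ∃ H : Subgroup (SGA7.Pts kb G), (H : Set (SGA7.Pts kb G)).Finite ∧ a ∈ H ∧
      ∀ (σ : kb ≃ₐ[k] kb) (x : SGA7.Pts kb G), x ∈ H → σ • x ∈ H := by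
  obtain ⟨n, hn, hna⟩ := exists_pow_fix hπ a
  let H : Subgroup (SGA7.Pts kb G) :=
    { carrier := {x | π ^ n • x = x}
      one_mem' := smul_one _
      mul_mem' := by
        intro x y hx hy
        change π ^ n • (x * y) = x * y
        rw [smul_mul', show π ^ n • x = x from hx, show π ^ n • y = y from hy]
      inv_mem' := by
        intro x hx
        change π ^ n • x⁻¹ = x⁻¹
        rw [smul_inv', show π ^ n • x = x from hx] }
  refine ⟨H, Rat.finite_fixed hπ n hn, hna, ?_⟩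
  intro σ x hx
  obtain ⟨i, hi⟩ := exists_pow_eq hπ x σ
  change π ^ n • σ • x = σ • x
  rw [hi, smul_smul, ← pow_add, add_comm, pow_add, mul_smul, show π ^ n • x = x from hx]

end fin

section tower

variable {k k' kb : Type u} [Field k] [Field k'] [Field kb] [Algebra k k'] [Algebra k kb] [Algebra k' kb]
  [IsScalarTower k k' kb]

/-- The Galois group of `kb/k'` acts on the `kb`-points of a `k`-scheme. -/
noncomputable abbrev gact (k' : Type u) [Field k'] [Algebra k k'] [Algebra k' kb] [IsScalarTower k k' kb]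
    (X : Over (Spec (CommRingCat.of k))) : MulAction (kb ≃ₐ[k'] kb) (SGA7.pt (K := k) kb ⟶ X) where
  smul σ x := s σ ≫ x
  one_smul x := by
    change s (k := k) (1 : kb ≃ₐ[k'] kb) ≫ x = x
    rw [s_one, Category.id_comp]
  mul_smul σ τ x := by
    change s (k := k) (σ * τ) ≫ x = s (k := k) σ ≫ s (k := k) τ ≫ x
    rw [s_mul, Category.assoc]

/-- The Galois group of `kb/k'` acts on the group of `kb`-points of a `k`-group scheme. -/
noncomputable abbrev gactM (k' : Type u) [Field k'] [Algebra k k'] [Algebra k' kb] [IsScalarTower k k' kb]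
    (G : Over (Spec (CommRingCat.of k))) [GrpObj G] :
    MulDistribMulAction (kb ≃ₐ[k'] kb) (SGA7.pt (K := k) kb ⟶ G) :=
  { gact k' G with
    smul_mul := fun σ x y => MonObj.comp_mul (s (k := k) σ) x y
    smul_one := fun σ => MonObj.comp_one (s (k := k) σ) }

variable [Finite k] [Finite k'] [IsAlgClosed kb] [Algebra.IsAlgebraic k kb]

/-- Existence of locally constant cocycles. -/
theorem exists_lc {G : Over (Spec (CommRingCat.of k))} [GrpObj G] [LocallyOfFiniteType G.hom] [QuasiCompact G.hom]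
    {π' : kb ≃ₐ[k'] kb} (hπ' : ∀ x, π' x = x ^ Nat.card k') (a : SGA7.pt (K := k) kb ⟶ G) :
    ∃ z : (kb ≃ₐ[k'] kb) → (SGA7.pt (K := k) kb ⟶ G), IsLocallyConstant z ∧
      (∀ σ τ, z (σ * τ) = z σ * (s σ ≫ z τ)) ∧ z π' = a := by
  obtain ⟨π, hπ⟩ := GalFin.exists_frob (k := k) (kb := kb)
  have halg : Algebra.IsAlgebraic k' kb := Algebra.IsAlgebraic.tower_top (K := k) k'
  obtain ⟨H, h1, h2, h3⟩ := exists_fin_sub (G := G) hπ a
  letI := gactM (k := k) (kb := kb) k' G
  obtain ⟨z, hz⟩ := (GalFin.gen hπ').exists_cocycle (fun a => isOpen_stab (k := k) (k' := k') a) a H h1 h2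
    (fun σ x hx => h3 (σ.restrictScalars k) x hx)
  exact ⟨fun σ => z.1 σ, z.2, fun σ τ => z.1.2 σ τ, hz⟩

/-- A point fixed by the twisted Frobenius is fixed by the twisted Galois action. -/
theorem fixed_of_frob {G X : Over (Spec (CommRingCat.of k))} [GrpObj G] [LocallyOfFiniteType X.hom]
    {aX : AlgGrp.Action G X} {π' : kb ≃ₐ[k'] kb} (hπ' : ∀ x, π' x = x ^ Nat.card k')
    {z : (kb ≃ₐ[k'] kb) → (SGA7.pt (K := k) kb ⟶ G)} (hz : IsLocallyConstant z)
    (hzm : ∀ σ τ, z (σ * τ) = z σ * (s σ ≫ z τ)) {x : SGA7.pt (K := k) kb ⟶ X} (hx : ac aX (z π') (s π' ≫ x) = x)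
    (σ : kb ≃ₐ[k'] kb) : ac aX (z σ) (s σ ≫ x) = x := by
  have halg : Algebra.IsAlgebraic k' kb := Algebra.IsAlgebraic.tower_top (K := k) k'
  letI := gact (k := k) (kb := kb) k' X
  have hlc : IsLocallyConstant fun σ : kb ≃ₐ[k'] kb => s (k := k) σ ≫ x := by
    rw [IsLocallyConstant.iff_exists_open]
    intro τ
    refine ⟨(fun σ => τ⁻¹ * σ) ⁻¹' {σ : kb ≃ₐ[k'] kb | s (k := k) σ ≫ x = x},
      (isOpen_stab (k := k) (k' := k') x).preimage (continuous_const_mul τ⁻¹), ?_, ?_⟩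
    · change s (k := k) (τ⁻¹ * τ) ≫ x = x
      rw [inv_mul_cancel, s_one, Category.id_comp]
    · intro σ hσ
      have hσ' : s (k := k) (τ⁻¹ * σ) ≫ x = x := hσ
      have h1 : s (k := k) τ ≫ s (k := k) (τ⁻¹ * σ) ≫ x = s (k := k) σ ≫ x := by
        rw [← Category.assoc, ← s_mul, mul_inv_cancel_left]
      rw [← h1, hσ']
  have h1 : IsLocallyConstant fun σ : kb ≃ₐ[k'] kb => ac aX (z σ) (s (k := k) σ ≫ x) := by
    have h2 : IsLocallyConstant fun σ : kb ≃ₐ[k'] kb => (z σ, s (k := k) σ ≫ x) := hz.prodMk hlc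
    exact h2.comp (fun p => ac aX p.1 p.2)
  have h3 : (fun σ : kb ≃ₐ[k'] kb => ac aX (z σ) (s (k := k) σ ≫ x)) = fun _ => x := by
    refine (GalFin.gen hπ').ext_lc h1 (IsLocallyConstant.const x) fun i => ?_
    induction i with
    | zero =>
      have h4 : z 1 = 1 := by
        have := hzm 1 1
        rw [_root_.mul_one, s_one, Category.id_comp] at this
        exact (mul_eq_left.mp this.symm)
      rw [pow_zero, h4, s_one, Category.id_comp, ac_one]
    | succ i ih =>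
      rw [pow_succ, hzm, s_mul, Category.assoc, ac_mul, ← comp_ac, hx, ih]
  exact congrFun h3 σ

/-- **Objects of `[X/G]` over `k'`** with given Frobenius invariant. -/
theorem exists_obj {G X : Over (Spec (CommRingCat.of k))} [GrpObj G] [LocallyOfFiniteType G.hom] [IsAffineHom G.hom]
    [LocallyOfFiniteType X.hom] {aX : AlgGrp.Action G X} {π' : kb ≃ₐ[k'] kb} (hπ' : ∀ x, π' x = x ^ Nat.card k')
    (g : SGA7.pt (K := k) kb ⟶ G) (x : SGA7.pt (K := k) kb ⟶ X) (hx : ac aX g (s π' ≫ x) = x) :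
    ∃ (A : TObj Scheme.etalePrecoverage G aX (SGA7.pt (K := k) k')) (t : SGA7.pt (K := k) kb ⟶ A.P)
      (ht : t ≫ A.π = q k k' kb), coc A t ht π' = g ∧ t ≫ A.φ = x := by
  have halg : Algebra.IsAlgebraic k' kb := Algebra.IsAlgebraic.tower_top (K := k) k'
  have hcl : IsAlgClosure k' kb := ⟨inferInstance, halg⟩
  have hnor : Normal k' kb := IsAlgClosure.normal k' kb
  have hsep : Algebra.IsSeparable k' kb := Algebra.IsAlgebraic.isSeparable_of_perfectField
  have hgal : IsGalois k' kb := ⟨⟩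
  obtain ⟨z, h1, h2, h3⟩ := exists_lc (k := k) (G := G) hπ' g
  obtain ⟨A, t, ht, h4, h5⟩ := exists_tobj (aX := aX) z h1 h2 x (fixed_of_frob hπ' h1 h2 (by rw [h3, hx]))
  exact ⟨A, t, ht, by rw [h4, h3], h5⟩

end tower

end K815.Lc
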