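import Groth.Agent.StackCount.K815.Tors

/-!
# Objects of a fibre category of `[X/G]`
-/

set_option autoImplicit false
set_option linter.unusedSectionVars false
universe u
open CategoryTheory Limits MonoidalCategory CartesianMonoidalCategory MonObj GrpObj AlgebraicGeometry

namespace K815.Obj

open K815.Tors AlgSt

variable {S : Scheme.{u}} (K : Precoverage Scheme.{u}) (G : Over S) [GrpObj G] {X : Over S} (aX : AlgGrp.Action G X)

/-- An object of `[X/G]` over `T`, unbundled. -/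
structure TObj (T : Over S) where
  /-- the total space of the torsor, an S-scheme -/
  P : Over S
  /-- the action of `G` on `P` -/
  act : AlgGrp.Action G P
  /-- the structure morphism of the torsor -/
  π : P ⟶ T
  cart : IsPullback act.act (snd G P) π π
  loc : NonAbH1.IsLocallyTrivialFor K (Over.mk π.left : Over T.left)
  /-- the equivariant map to `X` -/
  φ : P ⟶ X
  eqv : act.act ≫ φ = (G ◁ φ) ≫ aX.act

variable {K G aX} {T : Over S}

/-- The bundled object. -/
@[simps] def TObj.toQuot (A : TObj K G aX T) : QuotObj K G aX where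
  base := T
  P := A.P
  act := A.act
  π := A.π
  cart := A.cart
  loc := A.loc
  φ := A.φ
  eqv := A.eqv

/-- The object of the fibre category. -/
def TObj.toFiber (A : TObj K G aX T) : (QuotObj.forget K G aX).Fiber T := ⟨A.toQuot, rfl⟩

theorem exists_tobj (A : (QuotObj.forget K G aX).Fiber T) : ∃ O : TObj K G aX T, O.toFiber = A := by
  rcases A with ⟨⟨base, P, act, π, cart, loc, φ, eqv⟩, hA⟩
  have hA' : base = T := hA
  subst hA'
  exact ⟨⟨P, act, π, cart, loc, φ, eqv⟩, rfl⟩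

theorem TObj.eqv' (A : TObj K G aX T) {Z : Over S} (g : Z ⟶ G) (x : Z ⟶ A.P) :
    ac A.act g x ≫ A.φ = ac aX g (x ≫ A.φ) := (eqv_iff A.act aX A.φ).mp A.eqv Z g x

/-- Morphisms of torsors over `T` with equivariant maps to `X`. -/
structure IsHom (A B : TObj K G aX T) (f : A.P ⟶ B.P) : Prop where
  eqv : ∀ (Z : Over S) (g : Z ⟶ G) (x : Z ⟶ A.P), ac A.act g x ≫ f = ac B.act g (x ≫ f)
  wπ : f ≫ B.π = A.π
  wφ : f ≫ B.φ = A.φ

section fiber

variable {A B : TObj K G aX T}

theorem base_eq (f : A.toFiber ⟶ B.toFiber) : f.1.base = 𝟙 T := by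
  have h1 := f.2
  have h2 := IsHomLift.fac (QuotObj.forget K G aX) (𝟙 T) f.1
  have h3 : 𝟙 T = eqToHom rfl ≫ f.1.base ≫ eqToHom rfl := h2
  rw [eqToHom_refl, eqToHom_refl, Category.id_comp] at h3
  exact (Category.comp_id _).symm.trans h3.symm

/-- The map on total spaces of a morphism of the fibre category. -/
def top (f : A.toFiber ⟶ B.toFiber) : A.P ⟶ B.P := f.1.top

theorem isHom_top (f : A.toFiber ⟶ B.toFiber) : IsHom A B (top f) := by
  refine ⟨(eqv_iff A.act B.act f.1.top).mp f.1.eqv, ?_, f.1.wφ⟩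
  have h := f.1.cart.w
  rw [base_eq] at h
  exact h.trans (Category.comp_id _)

theorem fiber_hom_ext {f g : A.toFiber ⟶ B.toFiber} (h : top f = top g) : f = g := by
  apply Subtype.ext
  exact QuotObj.hom_ext ((base_eq f).trans (base_eq g).symm) h

theorem top_id : top (𝟙 A.toFiber) = 𝟙 A.P := rfl

theorem top_comp {C : TObj K G aX T} (f : A.toFiber ⟶ B.toFiber) (g : B.toFiber ⟶ C.toFiber) :
    top (f ≫ g) = top f ≫ top g := rfl

/-- Construct a morphism of the fibre category. -/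
theorem exists_fiber_hom {f : A.P ⟶ B.P} (hf : IsHom A B f) [IsIso f] : ∃ F : A.toFiber ⟶ B.toFiber, top F = f := by
  have hc : IsPullback f A.π B.π (𝟙 T) := IsPullback.of_horiz_isIso ⟨hf.wπ.trans (Category.comp_id _).symm⟩
  let F : A.toQuot ⟶ B.toQuot :=
    { base := 𝟙 T
      top := f
      eqv := (eqv_iff A.act B.act f).mpr hf.eqv
      cart := hc
      wφ := hf.wφ }
  have hF : (QuotObj.forget K G aX).IsHomLift (𝟙 T) F := by
    have h : (QuotObj.forget K G aX).map F = 𝟙 T := rfl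
    exact h ▸ IsHomLift.map (QuotObj.forget K G aX) F
  exact ⟨⟨F, hF⟩, rfl⟩

end fiber

section point

variable {Tb : Over S} (q : Tb ⟶ T) [Surjective q.left] [Flat q.left] [QuasiCompact q.left]

/-- A morphism of torsors is an isomorphism. -/
theorem IsHom.isIso {A B : TObj K G aX T} {f : A.P ⟶ B.P} (hf : IsHom A B f) (t : Tb ⟶ A.P) (ht : t ≫ A.π = q) :
    IsIso f := by
  have ht' : (t ≫ f) ≫ B.π = q := by rw [Category.assoc, hf.wπ, ht]
  obtain ⟨f', h1, h2⟩ := exists_eqv B.act B.π B.cart q (t ≫ f) ht' A.act t (by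
    intro Z x₀ x₁ g hg
    have h3 : ac A.act g (x₁ ≫ t) ≫ f = (x₀ ≫ t) ≫ f := by rw [hf.eqv, Category.assoc, hg, Category.assoc]
    have h4 : ac A.act g (x₁ ≫ t) ≫ A.π = (x₀ ≫ t) ≫ A.π := by
      have h5 := congrArg (fun e => e ≫ B.π) h3
      simpa only [Category.assoc, hf.wπ] using h5
    obtain ⟨c, hc⟩ := exists_dv A.act A.π A.cart _ _ h4
    have h6 : ac B.act c ((x₀ ≫ t) ≫ f) = (x₀ ≫ t) ≫ f := by rw [← hf.eqv, hc, h3]
    have h7 : c = 1 := ac_inj B.act B.π B.cart (p := (x₀ ≫ t) ≫ f) (by rw [h6, ac_one])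
    rw [h7, ac_one] at hc
    exact hc.symm)
  refine ⟨f', ?_, ?_⟩
  · refine eqv_ext A.act A.π A.cart q t ht A.act ?_ ?_ ?_
    · intro Z g x
      rw [← Category.assoc, hf.eqv, h2, Category.assoc]
    · intro Z g x
      rw [Category.comp_id, Category.comp_id]
    · rw [Category.comp_id, ← Category.assoc, h1]
  · refine eqv_ext B.act B.π B.cart q (t ≫ f) ht' B.act ?_ ?_ ?_
    · intro Z g x
      rw [← Category.assoc, h2, hf.eqv, Category.assoc]
    · intro Z g x
      rw [Category.comp_id, Category.comp_id]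
    · rw [Category.comp_id, ← Category.assoc (t ≫ f) f', h1]

/-- `IsHom` from a point. -/
theorem exists_isHom {A B : TObj K G aX T} (t : Tb ⟶ A.P) (ht : t ≫ A.π = q) (y : Tb ⟶ B.P)
    (hy : ∀ (Z : Over S) (x₀ x₁ : Z ⟶ Tb) (g : Z ⟶ G), ac A.act g (x₁ ≫ t) = x₀ ≫ t → ac B.act g (x₁ ≫ y) = x₀ ≫ y)
    (hyπ : y ≫ B.π = q) (hyφ : y ≫ B.φ = t ≫ A.φ) : ∃ f : A.P ⟶ B.P, t ≫ f = y ∧ IsHom A B f := by
  obtain ⟨f, h1, h2⟩ := exists_eqv A.act A.π A.cart q t ht B.act y hy
  refine ⟨f, h1, h2, ?_, ?_⟩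
  · apply hom_ext_cov A.act A.π A.cart q t ht
    rw [← Category.assoc, h2, ac_π B.act B.π B.cart, ac_π A.act A.π A.cart, Category.assoc, Category.assoc,
      Category.assoc, ← Category.assoc t f, h1, hyπ, ht]
  · refine eqv_ext A.act A.π A.cart q t ht aX ?_ ?_ ?_
    · intro Z g x
      rw [← Category.assoc, h2, B.eqv', Category.assoc]
    · intro Z g x
      exact A.eqv' g x
    · rw [← Category.assoc, h1, hyφ]

theorem IsHom.ext {A B : TObj K G aX T} {f f' : A.P ⟶ B.P} (hf : IsHom A B f) (hf' : IsHom A B f') (t : Tb ⟶ A.P)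
    (ht : t ≫ A.π = q) (h : t ≫ f = t ≫ f') : f = f' :=
  eqv_ext A.act A.π A.cart q t ht B.act hf.eqv hf'.eqv h

end point

end K815.Obj
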