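import Mathlib.Topology.LocallyConstant.Basic
import Mathlib.Topology.Algebra.Group.Basic
import Mathlib.GroupTheory.OrderOfElement
import Groth.Prelude.Def_GSzH1

/-!
# Locally constant cocycles of a procyclic group

`Gen π`: the powers of `π` are dense and every `M ≥ 1` is the exact order of `π` modulo some open normal subgroup.
`Gen.cocycle_ext`, `Gen.exists_cocycle`, `Gen.bijective`, `Gen.cl_eq_iff`.
-/

set_option autoImplicit false
set_option linter.unusedSectionVars false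
universe u v

namespace K815.Procyc

variable {Γ : Type u} [Group Γ] [TopologicalSpace Γ]

/-- `π` is a topological generator of `Γ`, of order divisible by every natural number. -/
structure Gen (π : Γ) : Prop where
  dense : ∀ U : Set Γ, IsOpen U → U.Nonempty → ∃ i : ℕ, π ^ i ∈ U
  exact : ∀ M : ℕ, 0 < M → ∃ V : Subgroup Γ, IsOpen (V : Set Γ) ∧ V.Normal ∧ ∀ i : ℕ, π ^ i ∈ V ↔ M ∣ i

theorem Gen.ext_lc {π : Γ} (hπ : Gen π) {X : Type*} {f g : Γ → X} (hf : IsLocallyConstant f)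
    (hg : IsLocallyConstant g) (h : ∀ i : ℕ, f (π ^ i) = g (π ^ i)) : f = g := by
  funext σ
  obtain ⟨i, hi, hi'⟩ := hπ.dense (f ⁻¹' {f σ} ∩ g ⁻¹' {g σ}) ((hf _).inter (hg _)) ⟨σ, rfl, rfl⟩
  rw [← (show f (π ^ i) = f σ from hi), h, ← (show g (π ^ i) = g σ from hi')]

variable {A : Type v} [Group A] [MulDistribMulAction Γ A]

/-- `a · π a · ⋯ · π^(n-1) a`. -/
def nrm (π : Γ) (a : A) : ℕ → A
  | 0 => 1
  | n + 1 => nrm π a n * π ^ n • a

theorem nrm_zero (π : Γ) (a : A) : nrm π a 0 = 1 := rfl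

theorem nrm_succ (π : Γ) (a : A) (n : ℕ) : nrm π a (n + 1) = nrm π a n * π ^ n • a := rfl

theorem nrm_one (π : Γ) (a : A) : nrm π a 1 = a := by
  rw [nrm_succ, nrm_zero, pow_zero, one_smul, one_mul]

theorem nrm_add (π : Γ) (a : A) (m n : ℕ) : nrm π a (m + n) = nrm π a m * π ^ m • nrm π a n := by
  induction n with
  | zero => rw [add_zero, nrm_zero, smul_one, mul_one]
  | succ n ih => rw [← add_assoc, nrm_succ, ih, nrm_succ, smul_mul', smul_smul, pow_add, mul_assoc]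

theorem nrm_of_cocycle (π : Γ) (z : GpH1.OneCocycle Γ A) (n : ℕ) : z (π ^ n) = nrm π (z π) n := by
  induction n with
  | zero =>
    rw [pow_zero, nrm_zero]
    have h := z.2 1 1
    rw [mul_one, one_smul] at h
    have h' : z 1 * z 1 = z 1 * 1 := by rw [mul_one]; exact h.symm
    exact mul_left_cancel h'
  | succ n ih => rw [pow_succ, z.2, ih, nrm_succ]

theorem nrm_mem (π : Γ) {a : A} (H : Subgroup A) (ha : a ∈ H) (hH : ∀ (σ : Γ) (x : A), x ∈ H → σ • x ∈ H)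
    (n : ℕ) : nrm π a n ∈ H := by
  induction n with
  | zero => exact one_mem _
  | succ n ih => exact mul_mem ih (hH _ _ ha)

/-- Locally constant cocycles are determined by the value at the generator. -/
theorem Gen.cocycle_ext {π : Γ} (hπ : Gen π) {z z' : GpH1.OneCocycleLC Γ A} (h : z.1 π = z'.1 π) : z = z' := by
  apply Subtype.ext
  apply Subtype.ext
  refine hπ.ext_lc z.2 z'.2 fun i => ?_
  rw [nrm_of_cocycle, nrm_of_cocycle, h]

variable [IsTopologicalGroup Γ]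

theorem isOpen_smul_eq (hcont : ∀ a : A, IsOpen {σ : Γ | σ • a = a}) (τ : Γ) (a : A) :
    IsOpen {σ : Γ | σ • a = τ • a} := by
  have h : {σ : Γ | σ • a = τ • a} = (fun σ => τ⁻¹ * σ) ⁻¹' {σ : Γ | σ • a = a} := by
    ext σ
    change σ • a = τ • a ↔ (τ⁻¹ * σ) • a = a
    rw [mul_smul, inv_smul_eq_iff]
  rw [h]
  exact (hcont a).preimage (continuous_const_mul τ⁻¹)

theorem isLocallyConstant_smul (hcont : ∀ a : A, IsOpen {σ : Γ | σ • a = a}) (a : A) :
    IsLocallyConstant fun σ : Γ => σ • a := by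
  rw [IsLocallyConstant.iff_exists_open]
  exact fun τ => ⟨_, isOpen_smul_eq hcont τ a, rfl, fun σ h => h⟩

/-- Existence of a locally constant cocycle with given value at the generator. -/
theorem Gen.exists_cocycle {π : Γ} (hπ : Gen π) (hcont : ∀ a : A, IsOpen {σ : Γ | σ • a = a}) (a : A)
    (H : Subgroup A) (hfin : (H : Set A).Finite) (ha : a ∈ H)
    (hH : ∀ (σ : Γ) (x : A), x ∈ H → σ • x ∈ H) : ∃ z : GpH1.OneCocycleLC Γ A, z.1 π = a := by
  classical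
  -- elements acting on `H` like `σ`
  have hop : ∀ σ : Γ, IsOpen {τ : Γ | ∀ h ∈ (H : Set A), τ • h = σ • h} := by
    intro σ
    have : {τ : Γ | ∀ h ∈ (H : Set A), τ • h = σ • h} = ⋂ h ∈ (H : Set A), {τ : Γ | τ • h = σ • h} := by
      ext τ; simp
    rw [this]
    exact hfin.isOpen_biInter fun h _ => isOpen_smul_eq hcont σ h
  obtain ⟨n, hn0, hn⟩ : ∃ n : ℕ, 0 < n ∧ ∀ h ∈ H, π ^ n • h = h := by
    obtain ⟨i, hi⟩ := hπ.dense ((fun τ => τ * π) ⁻¹' {τ : Γ | ∀ h ∈ (H : Set A), τ • h = (1 : Γ) • h})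
      ((hop 1).preimage (continuous_mul_const π)) ⟨π⁻¹, by simp⟩
    refine ⟨i + 1, Nat.succ_pos i, fun h hh => ?_⟩
    have := hi h hh
    rw [one_smul] at this
    rw [pow_succ]
    exact this
  have hmem := nrm_mem π H ha hH
  have hmul : ∀ m : ℕ, ∀ h ∈ H, π ^ (n * m) • h = h := by
    intro m
    induction m with
    | zero => intro h _; simp
    | succ m ih =>
      intro h hh
      rw [Nat.mul_succ, pow_add, mul_smul, hn h hh, ih h hh]
  have hpow : ∀ m : ℕ, nrm π a (n * m) = nrm π a n ^ m := by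
    intro m
    induction m with
    | zero => simp [nrm_zero]
    | succ m ih => rw [Nat.mul_succ, nrm_add, ih, hmul m _ (hmem n), pow_succ]
  have : Finite H := hfin
  have hcard : 0 < Nat.card H := Nat.card_pos
  have hone : nrm π a n ^ Nat.card H = 1 := by
    have := pow_card_eq_one' (x := (⟨nrm π a n, hmem n⟩ : H))
    exact congrArg Subtype.val this
  have hM : ∀ c : ℕ, nrm π a (n * Nat.card H * c) = 1 := by
    intro c
    rw [mul_assoc, hpow, pow_mul, hone, one_pow]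
  obtain ⟨V, hVo, hVn, hV⟩ := hπ.exact (n * Nat.card H) (Nat.mul_pos hn0 hcard)
  let P : Γ → Γ → Prop := fun σ τ => σ⁻¹ * τ ∈ V ∧ ∀ h ∈ (H : Set A), τ • h = σ • h
  have hPo : ∀ σ, IsOpen {τ | P σ τ} := fun σ =>
    (hVo.preimage (continuous_const_mul σ⁻¹)).inter (hop σ)
  have hPs : ∀ σ, P σ σ := fun σ => ⟨by simp, fun h _ => rfl⟩
  choose j hj using fun σ => hπ.dense _ (hPo σ) ⟨σ, hPs σ⟩
  have hj' : ∀ σ, P σ (π ^ j σ) := hj
  have key0 : ∀ i l : ℕ, i ≤ l → (π ^ i)⁻¹ * π ^ l ∈ V → nrm π a l = nrm π a i := by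
    intro i l hil h
    obtain ⟨c, rfl⟩ := Nat.exists_eq_add_of_le hil
    rw [pow_add, inv_mul_cancel_left, hV] at h
    obtain ⟨e, rfl⟩ := h
    rw [nrm_add, hM, smul_one, mul_one]
  have key : ∀ i l : ℕ, (π ^ i)⁻¹ * π ^ l ∈ V → nrm π a l = nrm π a i := by
    intro i l h
    rcases le_total i l with hil | hil
    · exact key0 i l hil h
    · refine (key0 l i hil ?_).symm
      have := V.inv_mem h
      rwa [mul_inv_rev, inv_inv] at this
  have keyP : ∀ σ (i : ℕ), P σ (π ^ i) → nrm π a (j σ) = nrm π a i := by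
    intro σ i h
    apply key
    have h1 := V.mul_mem (V.inv_mem h.1) (hj' σ).1
    rwa [mul_inv_rev, inv_inv, mul_assoc, mul_inv_cancel_left] at h1
  let z : Γ → A := fun σ => nrm π a (j σ)
  have hz : GpH1.IsOneCocycle z := by
    intro σ τ
    change nrm π a (j (σ * τ)) = nrm π a (j σ) * σ • nrm π a (j τ)
    rw [keyP (σ * τ) (j σ + j τ) ?_, nrm_add, (hj' σ).2 _ (hmem _)]
    refine ⟨?_, fun h hh => ?_⟩
    · have h1 := hVn.conj_mem _ (hj' σ).1 τ⁻¹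
      have h2 := V.mul_mem h1 (hj' τ).1
      rw [pow_add]
      have h3 : (σ * τ)⁻¹ * (π ^ j σ * π ^ j τ) = τ⁻¹ * (σ⁻¹ * π ^ j σ) * τ⁻¹⁻¹ * (τ⁻¹ * π ^ j τ) := by group
      rw [h3]
      exact h2
    · rw [pow_add, mul_smul, (hj' τ).2 h hh, (hj' σ).2 _ (hH τ h hh), mul_smul]
  have hzl : IsLocallyConstant z := by
    rw [IsLocallyConstant.iff_exists_open]
    refine fun σ => ⟨_, hPo σ, hPs σ, fun τ hτ => ?_⟩
    change nrm π a (j τ) = nrm π a (j σ)
    refine keyP τ (j σ) ⟨?_, fun h hh => ?_⟩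
    · have h1 := V.mul_mem (V.inv_mem hτ.1) (hj' σ).1
      rwa [mul_inv_rev, inv_inv, mul_assoc, mul_inv_cancel_left] at h1
    · rw [(hj' σ).2 h hh, hτ.2 h hh]
  refine ⟨⟨⟨z, hz⟩, hzl⟩, ?_⟩
  change nrm π a (j π) = a
  rw [keyP π 1 ⟨by simp, fun h _ => by rw [pow_one]⟩, nrm_one]

theorem Gen.bijective {π : Γ} (hπ : Gen π) (hcont : ∀ a : A, IsOpen {σ : Γ | σ • a = a})
    (hfin : ∀ a : A, ∃ H : Subgroup A, (H : Set A).Finite ∧ a ∈ H ∧ ∀ (σ : Γ) (x : A), x ∈ H → σ • x ∈ H) :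
    Function.Bijective (fun z : GpH1.OneCocycleLC Γ A => z.1 π) := by
  refine ⟨fun z z' h => hπ.cocycle_ext h, fun a => ?_⟩
  obtain ⟨H, h1, h2, h3⟩ := hfin a
  exact hπ.exists_cocycle hcont a H h1 h2 h3

/-- The cocycle `σ ↦ g · z σ · (σ g)⁻¹`. -/
def conjLC (hcont : ∀ a : A, IsOpen {σ : Γ | σ • a = a}) (z : GpH1.OneCocycleLC Γ A) (g : A) :
    GpH1.OneCocycleLC Γ A :=
  ⟨⟨fun σ => g * z.1 σ * (σ • g)⁻¹, by
    intro σ τ
    change g * z.1 (σ * τ) * ((σ * τ) • g)⁻¹ = g * z.1 σ * (σ • g)⁻¹ * σ • (g * z.1 τ * (τ • g)⁻¹)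
    rw [z.1.2 σ τ, smul_mul', smul_mul', smul_inv', mul_smul]
    group⟩, by
    have h1 := z.2
    have h2 := isLocallyConstant_smul hcont g
    rw [IsLocallyConstant.iff_exists_open] at h1 h2 ⊢
    intro σ
    obtain ⟨U, hU, hσ, h3⟩ := h1 σ
    obtain ⟨U', hU', hσ', h4⟩ := h2 σ
    refine ⟨U ∩ U', hU.inter hU', ⟨hσ, hσ'⟩, fun τ hτ => ?_⟩
    change g * z.1 τ * (τ • g)⁻¹ = g * z.1 σ * (σ • g)⁻¹
    rw [h3 τ hτ.1, h4 τ hτ.2]⟩

theorem conjLC_apply (hcont : ∀ a : A, IsOpen {σ : Γ | σ • a = a}) (z : GpH1.OneCocycleLC Γ A) (g : A) (σ : Γ) :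
    (conjLC hcont z g).1 σ = g * z.1 σ * (σ • g)⁻¹ := rfl

omit [IsTopologicalGroup Γ] in
theorem cl_eq_iff (z z' : GpH1.OneCocycleLC Γ A) :
    z.cl = z'.cl ↔ ∃ g : A, ∀ σ, z'.1 σ = g * z.1 σ * (σ • g)⁻¹ := by
  rw [GpH1.OneCocycleLC.cl_eq_cl_iff]
  constructor
  · rintro ⟨c, hc⟩
    exact ⟨c, fun σ => by rw [hc σ]; group⟩
  · rintro ⟨c, hc⟩
    exact ⟨c, fun σ => by rw [hc σ]; group⟩

theorem Gen.cl_eq_iff {π : Γ} (hπ : Gen π) (hcont : ∀ a : A, IsOpen {σ : Γ | σ • a = a})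
    (z z' : GpH1.OneCocycleLC Γ A) :
    z.cl = z'.cl ↔ ∃ g : A, z'.1 π = g * z.1 π * (π • g)⁻¹ := by
  rw [Procyc.cl_eq_iff]
  constructor
  · rintro ⟨g, hg⟩
    exact ⟨g, hg π⟩
  · rintro ⟨g, hg⟩
    refine ⟨g, fun σ => ?_⟩
    have : z' = conjLC hcont z g := hπ.cocycle_ext hg
    rw [this, conjLC_apply]

end K815.Procyc
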