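import Groth.Agent.StackCount.K815.FieldR
import Groth.Prelude.Def_SGA7a
import Mathlib.AlgebraicGeometry.Morphisms.Separated
import Mathlib.AlgebraicGeometry.ResidueField

/-!
# Equality of morphisms on points, and the universal pair / triple of points of `Spec K` over `Spec k`
-/

set_option autoImplicit false
universe u
open CategoryTheory Limits AlgebraicGeometry
open scoped TensorProduct

namespace K815.PtEq

/-- Morphisms from a reduced scheme agreeing on all field-valued points are equal. -/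
theorem hom_ext_points {X Y : Scheme.{u}} [IsReduced X] (f g : X ⟶ Y)
    (h : ∀ (F : Type u) [Field F] (x : Spec (CommRingCat.of F) ⟶ X), x ≫ f = x ≫ g) : f = g := by
  have h1 : ∀ z : X, X.fromSpecResidueField z ≫ f = X.fromSpecResidueField z ≫ g := fun z => h _ _
  have h0 : ∀ z : X, f z = g z := by
    intro z
    have h2 := congrArg (fun e : Spec (X.residueField z) ⟶ Y => e (IsLocalRing.closedPoint (X.residueField z))) (h1 z)
    have h3 : X.fromSpecResidueField z (IsLocalRing.closedPoint (X.residueField z)) = z :=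
      Scheme.fromSpecResidueField_apply z _
    have h4 : f (X.fromSpecResidueField z (IsLocalRing.closedPoint (X.residueField z))) =
      g (X.fromSpecResidueField z (IsLocalRing.closedPoint (X.residueField z))) := h2
    rwa [h3] at h4
  have hV : ∀ z : X, ∃ V : Y.Opens, IsAffineOpen V ∧ f z ∈ V := fun z => by
    obtain ⟨U, hU, hy, -⟩ := exists_isAffineOpen_mem_and_subset (show f z ∈ (⊤ : Y.Opens) from trivial)
    exact ⟨U, hU, hy⟩
  choose V hV1 hV2 using hV
  let W : X → X.Opens := fun z => f ⁻¹ᵁ V z ⊓ g ⁻¹ᵁ V z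
  have hW : TopologicalSpace.IsOpenCover W := by
    refine TopologicalSpace.IsOpenCover.mk (by
      rw [eq_top_iff]
      intro z _
      rw [TopologicalSpace.Opens.mem_iSup]
      exact ⟨z, hV2 z, by change g z ∈ V z; rw [← h0 z]; exact hV2 z⟩)
  refine Scheme.Cover.hom_ext (X.openCoverOfIsOpenCover W hW) f g fun z => ?_
  change (W z).ι ≫ f = (W z).ι ≫ g
  have hf : Set.range ((W z).ι ≫ f) ⊆ Set.range (V z).ι := by
    rintro _ ⟨y, rfl⟩
    rw [Scheme.Opens.range_ι]
    exact y.2.1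
  have hg : Set.range ((W z).ι ≫ g) ⊆ Set.range (V z).ι := by
    rintro _ ⟨y, rfl⟩
    rw [Scheme.Opens.range_ι]
    exact y.2.2
  have : IsAffine (V z) := hV1 z
  have h3 : IsOpenImmersion.lift (V z).ι _ hf = IsOpenImmersion.lift (V z).ι _ hg := by
    apply ext_of_fromSpecResidueField_eq _ _ (terminal.from _) Set.univ dense_univ
    · intro x _
      rw [← cancel_mono (V z).ι, Category.assoc, Category.assoc, IsOpenImmersion.lift_fac, IsOpenImmersion.lift_fac,
        ← Category.assoc, ← Category.assoc]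
      exact h _ _
    · exact Subsingleton.elim _ _
  rw [← IsOpenImmersion.lift_fac (V z).ι _ hf, h3, IsOpenImmersion.lift_fac]

section field

variable {k' kb : Type u} [Field k'] [Field kb] [Algebra k' kb]

/-- Points of `Spec kb` over the same point of `Spec k'` differ by an automorphism. -/
theorem exists_aut_pt [Normal k' kb] {F : Type u} [Field F] (x₀ x₁ : Spec (CommRingCat.of F) ⟶ Spec (CommRingCat.of kb))
    (h : x₀ ≫ Spec.map (CommRingCat.ofHom (algebraMap k' kb)) = x₁ ≫ Spec.map (CommRingCat.ofHom (algebraMap k' kb))) :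
    ∃ σ : kb ≃ₐ[k'] kb, x₁ = x₀ ≫ Spec.map (CommRingCat.ofHom (σ : kb →+* kb)) := by
  obtain ⟨a₀, rfl⟩ := Spec.map_surjective x₀
  obtain ⟨a₁, rfl⟩ := Spec.map_surjective x₁
  rw [← Spec.map_comp, ← Spec.map_comp] at h
  have h2 := Spec.map_injective h
  obtain ⟨σ, hσ⟩ := FieldR.exists_aut k' a₀.hom a₁.hom (congrArg CommRingCat.Hom.hom h2)
  refine ⟨σ, ?_⟩
  rw [← Spec.map_comp]
  congr 1
  ext x
  exact (hσ x).symm

end field

section tower

variable (k k' kb : Type u) [Field k] [Field k'] [Field kb] [Algebra k k'] [Algebra k kb] [Algebra k' kb]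
  [IsScalarTower k k' kb]

/-- `Spec kb ⟶ Spec k'`, over `Spec k`. -/
noncomputable def q : SGA7.pt (K := k) kb ⟶ SGA7.pt (K := k) k' :=
  Over.homMk (Spec.map (CommRingCat.ofHom (algebraMap k' kb))) (by
    change Spec.map _ ≫ Spec.map _ = Spec.map _
    rw [← Spec.map_comp, ← CommRingCat.ofHom_comp, ← IsScalarTower.algebraMap_eq])

variable {k k' kb}

/-- The automorphism of `Spec kb` over `Spec k'` defined by `σ`. -/
noncomputable def s (σ : kb ≃ₐ[k'] kb) : SGA7.pt (K := k) kb ⟶ SGA7.pt (K := k) kb :=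
  SGA7.specAut (σ.restrictScalars k)

theorem s_left (σ : kb ≃ₐ[k'] kb) :
    (s (k := k) σ).left = Spec.map (CommRingCat.ofHom (σ : kb →+* kb)) := rfl

theorem s_comp_q (σ : kb ≃ₐ[k'] kb) : s σ ≫ q k k' kb = q k k' kb := by
  apply Over.OverMorphism.ext
  exact SGA7.spec_map_algEquiv_comp σ

theorem s_one : s (k := k) (1 : kb ≃ₐ[k'] kb) = 𝟙 _ := by
  apply Over.OverMorphism.ext
  rw [s_left]
  exact Spec.map_id _

theorem s_mul (σ τ : kb ≃ₐ[k'] kb) : s (k := k) (σ * τ) = s σ ≫ s τ := by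
  apply Over.OverMorphism.ext
  rw [Over.comp_left, s_left, s_left, s_left, ← Spec.map_comp]
  rfl

/-- A `k'`-algebra as a `k`-scheme. -/
noncomputable def sp (k : Type u) {k' : Type u} [Field k] [Field k'] [Algebra k k'] (A : Type u) [CommRing A]
    [Algebra k' A] : Over (Spec (CommRingCat.of k)) :=
  Over.mk (Spec.map (CommRingCat.ofHom (algebraMap k' A)) ≫ (SGA7.pt (K := k) k').hom)

/-- Its structure morphism to `Spec k'`. -/
noncomputable def spq (A : Type u) [CommRing A] [Algebra k' A] : sp k (k' := k') A ⟶ SGA7.pt (K := k) k' :=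
  Over.homMk (Spec.map (CommRingCat.ofHom (algebraMap k' A))) rfl

instance (A : Type u) [CommRing A] [Algebra k' A] [IsReduced A] : IsReduced (sp k (k' := k') A).left :=
  inferInstanceAs (IsReduced (Spec (CommRingCat.of A)))

/-- `Spec (A ⊗ kb) ⟶ Spec A`. -/
noncomputable def prL (A : Type u) [CommRing A] [Algebra k' A] :
    sp k (k' := k') (A ⊗[k'] kb) ⟶ sp k (k' := k') A :=
  Over.homMk (Spec.map (CommRingCat.ofHom Algebra.TensorProduct.includeLeftRingHom)) (by
    change Spec.map _ ≫ Spec.map _ ≫ _ = Spec.map _ ≫ _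
    rw [← Category.assoc, ← Spec.map_comp]
    rfl)

/-- `Spec (A ⊗ kb) ⟶ Spec kb`. -/
noncomputable def prR (A : Type u) [CommRing A] [Algebra k' A] :
    sp k (k' := k') (A ⊗[k'] kb) ⟶ SGA7.pt (K := k) kb :=
  Over.homMk (Spec.map (CommRingCat.ofHom (Algebra.TensorProduct.includeRight : kb →ₐ[k'] A ⊗[k'] kb).toRingHom)) (by
    rw [← Over.w (q k k' kb)]
    change Spec.map _ ≫ Spec.map _ ≫ _ = Spec.map _ ≫ _
    rw [← Category.assoc, ← Spec.map_comp, ← CommRingCat.ofHom_comp]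
    congr 3
    exact (Algebra.TensorProduct.includeRight : kb →ₐ[k'] A ⊗[k'] kb).comp_algebraMap)

theorem prL_spq (A : Type u) [CommRing A] [Algebra k' A] :
    prL (k := k) (kb := kb) A ≫ spq A = prR A ≫ q k k' kb := by
  apply Over.OverMorphism.ext
  change Spec.map _ ≫ Spec.map _ = Spec.map _ ≫ Spec.map _
  rw [← Spec.map_comp, ← Spec.map_comp, ← CommRingCat.ofHom_comp, ← CommRingCat.ofHom_comp]
  congr 2
  exact (Algebra.TensorProduct.includeRight : kb →ₐ[k'] A ⊗[k'] kb).comp_algebraMap.symm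

theorem exists_lift (A : Type u) [CommRing A] [Algebra k' A] {Z : Over (Spec (CommRingCat.of k))}
    (a : Z ⟶ sp k (k' := k') A) (x : Z ⟶ SGA7.pt (K := k) kb) (h : a ≫ spq A = x ≫ q k k' kb) :
    ∃ r : Z ⟶ sp k (k' := k') (A ⊗[k'] kb), r ≫ prL A = a ∧ r ≫ prR A = x := by
  have hP := isPullback_SpecMap_of_isPushout _ _ _ _ (CommRingCat.isPushout_tensorProduct k' A kb)
  have h' : a.left ≫ Spec.map (CommRingCat.ofHom (algebraMap k' A)) =
    x.left ≫ Spec.map (CommRingCat.ofHom (algebraMap k' kb)) := congrArg CommaMorphism.left h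
  obtain ⟨r, h1, h2⟩ : ∃ r : Z.left ⟶ (sp k (k' := k') (A ⊗[k'] kb)).left,
      r ≫ (prL (k := k) (kb := kb) A).left = a.left ∧ r ≫ (prR (k := k) (kb := kb) A).left = x.left :=
    ⟨hP.lift a.left x.left h', hP.lift_fst _ _ _, hP.lift_snd _ _ _⟩
  refine ⟨Over.homMk r ?_, ?_, ?_⟩
  · rw [← Over.w (prL (k := k) (kb := kb) A), ← Category.assoc, h1, Over.w]
  · apply Over.OverMorphism.ext
    exact h1
  · apply Over.OverMorphism.ext
    exact h2

theorem tensor_hom_ext (A : Type u) [CommRing A] [Algebra k' A] {Z : Scheme.{u}}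
    {a b : Z ⟶ (sp k (k' := k') (A ⊗[k'] kb)).left}
    (h0 : a ≫ (prL (k := k) (kb := kb) A).left = b ≫ (prL (k := k) (kb := kb) A).left)
    (h1 : a ≫ (prR (k := k) (kb := kb) A).left = b ≫ (prR (k := k) (kb := kb) A).left) : a = b :=
  (isPullback_SpecMap_of_isPushout _ _ _ _ (CommRingCat.isPushout_tensorProduct k' A kb)).hom_ext h0 h1

variable (k k' kb) in
/-- `Spec kb` in its two guises. -/
noncomputable def spIso : sp k (k' := k') kb ≅ SGA7.pt (K := k) kb :=
  Over.isoMk (Iso.refl _) (by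
    change 𝟙 _ ≫ Spec.map _ = Spec.map _ ≫ Spec.map _
    rw [← Spec.map_comp, ← CommRingCat.ofHom_comp, ← IsScalarTower.algebraMap_eq, Category.id_comp])

theorem spIso_hom_left : (spIso k k' kb).hom.left = 𝟙 _ := rfl

theorem spIso_q : (spIso k k' kb).hom ≫ q k k' kb = spq kb := by
  apply Over.OverMorphism.ext
  exact Category.id_comp (Spec.map (CommRingCat.ofHom (algebraMap k' kb)))

variable (k k' kb) in
/-- The universal pair of points of `Spec kb` over `Spec k'`. -/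
noncomputable abbrev R2 : Over (Spec (CommRingCat.of k)) := sp k (k' := k') (kb ⊗[k'] kb)

variable (k k' kb) in
/-- First projection. -/
noncomputable def p0 : R2 k k' kb ⟶ SGA7.pt (K := k) kb := prL kb ≫ (spIso k k' kb).hom

variable (k k' kb) in
/-- Second projection. -/
noncomputable def p1 : R2 k k' kb ⟶ SGA7.pt (K := k) kb := prR kb

theorem p0_q : p0 k k' kb ≫ q k k' kb = p1 k k' kb ≫ q k k' kb := by
  rw [p0, Category.assoc, spIso_q, prL_spq]
  rfl

theorem exists_lift2 {Z : Over (Spec (CommRingCat.of k))} (x₀ x₁ : Z ⟶ SGA7.pt (K := k) kb)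
    (h : x₀ ≫ q k k' kb = x₁ ≫ q k k' kb) :
    ∃ r : Z ⟶ R2 k k' kb, r ≫ p0 k k' kb = x₀ ∧ r ≫ p1 k k' kb = x₁ := by
  obtain ⟨r, h1, h2⟩ := exists_lift kb (x₀ ≫ (spIso k k' kb).inv) x₁ (by
    rw [← h, ← spIso_q, Category.assoc, Iso.inv_hom_id_assoc])
  refine ⟨r, ?_, h2⟩
  rw [p0, ← Category.assoc, h1, Category.assoc, Iso.inv_hom_id, Category.comp_id]

theorem R2_hom_ext {Z : Scheme.{u}} {a b : Z ⟶ (R2 k k' kb).left}
    (h0 : a ≫ (p0 k k' kb).left = b ≫ (p0 k k' kb).left)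
    (h1 : a ≫ (p1 k k' kb).left = b ≫ (p1 k k' kb).left) : a = b := by
  apply tensor_hom_ext kb _ h1
  have h2 : (p0 k k' kb).left = (prL kb).left := by
    rw [p0, Over.comp_left, spIso_hom_left]
    exact Category.comp_id _
  rwa [h2] at h0

/-- Morphisms out of the universal pair are determined by their values at `(1, σ)`. -/
theorem uni2' [PerfectField k'] [Normal k' kb] {Y : Scheme.{u}} (f g : (R2 k k' kb).left ⟶ Y)
    (h : ∀ (σ : kb ≃ₐ[k'] kb) (r : SGA7.pt (K := k) kb ⟶ R2 k k' kb), r ≫ p0 k k' kb = 𝟙 _ →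
      r ≫ p1 k k' kb = s σ → r.left ≫ f = r.left ≫ g) : f = g := by
  have : IsReduced (kb ⊗[k'] kb) := Groth.Agent.Fdesc.GeomRed.isReduced_tensor_of_perfectField kb kb
  refine hom_ext_points _ _ fun F _ x => ?_
  have hq : (x ≫ (p0 k k' kb).left) ≫ (q k k' kb).left = (x ≫ (p1 k k' kb).left) ≫ (q k k' kb).left := by
    rw [Category.assoc, Category.assoc, ← Over.comp_left, ← Over.comp_left, p0_q]
  obtain ⟨σ, hσ⟩ := exists_aut_pt (k' := k') (x ≫ (p0 k k' kb).left) (x ≫ (p1 k k' kb).left) hq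
  obtain ⟨r, h1, h2⟩ := exists_lift2 (k' := k') (𝟙 (SGA7.pt (K := k) kb)) (s σ) (by rw [Category.id_comp, s_comp_q])
  have hx : x = (x ≫ (p0 k k' kb).left) ≫ r.left := by
    apply R2_hom_ext
    · rw [Category.assoc, ← Over.comp_left, h1]
      exact (Category.comp_id _).symm
    · rw [Category.assoc, ← Over.comp_left, h2, hσ]
      rfl
  have key : ∀ w : Spec (CommRingCat.of F) ⟶ (SGA7.pt (K := k) kb).left, x = w ≫ r.left → x ≫ f = x ≫ g := by
    intro w hw
    rw [hw, Category.assoc, Category.assoc, h σ r h1 h2]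
  exact key _ hx

theorem uni2 [PerfectField k'] [Normal k' kb] {Y : Over (Spec (CommRingCat.of k))} (f g : R2 k k' kb ⟶ Y)
    (h : ∀ (σ : kb ≃ₐ[k'] kb) (r : SGA7.pt (K := k) kb ⟶ R2 k k' kb), r ≫ p0 k k' kb = 𝟙 _ →
      r ≫ p1 k k' kb = s σ → r ≫ f = r ≫ g) : f = g := by
  apply Over.OverMorphism.ext
  refine uni2' (k' := k') _ _ fun σ r h1 h2 => ?_
  rw [← Over.comp_left, ← Over.comp_left, h σ r h1 h2]

variable (k k' kb) in
/-- The universal triple of points of `Spec kb` over `Spec k'`. -/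
noncomputable abbrev R3 : Over (Spec (CommRingCat.of k)) := sp k (k' := k') ((kb ⊗[k'] kb) ⊗[k'] kb)

theorem p0_q' : p0 k k' kb ≫ q k k' kb = spq (kb ⊗[k'] kb) := by
  rw [p0, Category.assoc, spIso_q]
  apply Over.OverMorphism.ext
  change Spec.map _ ≫ Spec.map _ = Spec.map _
  rw [← Spec.map_comp]
  rfl

theorem exists_lift3 {Z : Over (Spec (CommRingCat.of k))} (x₀ x₁ x₂ : Z ⟶ SGA7.pt (K := k) kb)
    (h : x₀ ≫ q k k' kb = x₁ ≫ q k k' kb) (h' : x₁ ≫ q k k' kb = x₂ ≫ q k k' kb) :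
    ∃ r : Z ⟶ R3 k k' kb, r ≫ prL _ ≫ p0 k k' kb = x₀ ∧ r ≫ prL _ ≫ p1 k k' kb = x₁ ∧ r ≫ prR _ = x₂ := by
  obtain ⟨r, h1, h2⟩ := exists_lift2 x₀ x₁ h
  obtain ⟨t, h3, h4⟩ := exists_lift (kb ⊗[k'] kb) r x₂ (by rw [← p0_q', ← Category.assoc, h1, h, h'])
  exact ⟨t, by rw [← Category.assoc, h3, h1], by rw [← Category.assoc, h3, h2], h4⟩

/-- Morphisms out of the universal triple are determined by their values at `(1, σ, τ)`. -/
theorem uni3 [PerfectField k'] [Normal k' kb] {Y : Over (Spec (CommRingCat.of k))} (f g : R3 k k' kb ⟶ Y)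
    (h : ∀ (σ τ : kb ≃ₐ[k'] kb) (r : SGA7.pt (K := k) kb ⟶ R3 k k' kb), r ≫ prL _ ≫ p0 k k' kb = 𝟙 _ →
      r ≫ prL _ ≫ p1 k k' kb = s σ → r ≫ prR _ = s τ → r ≫ f = r ≫ g) : f = g := by
  have h00 : IsReduced (kb ⊗[k'] kb) := Groth.Agent.Fdesc.GeomRed.isReduced_tensor_of_perfectField kb kb
  have : IsReduced ((kb ⊗[k'] kb) ⊗[k'] kb) :=
    Groth.Agent.Fdesc.GeomRed.isReduced_tensor_of_perfectField kb (kb ⊗[k'] kb)
  apply Over.OverMorphism.ext
  refine hom_ext_points _ _ fun F _ x => ?_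
  have hq1 : (x ≫ (prL _ ≫ p0 k k' kb).left) ≫ (q k k' kb).left =
      (x ≫ (prL _ ≫ p1 k k' kb).left) ≫ (q k k' kb).left := by
    rw [Category.assoc, Category.assoc, ← Over.comp_left, ← Over.comp_left, Category.assoc, Category.assoc, p0_q]
  have hq2 : (x ≫ (prL _ ≫ p0 k k' kb).left) ≫ (q k k' kb).left =
      (x ≫ (prR (k := k) (kb := kb) (kb ⊗[k'] kb)).left) ≫ (q k k' kb).left := by
    rw [Category.assoc, Category.assoc, ← Over.comp_left, ← Over.comp_left, Category.assoc, p0_q', prL_spq]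
  obtain ⟨σ, hσ⟩ := exists_aut_pt (k' := k') _ _ hq1
  obtain ⟨τ, hτ⟩ := exists_aut_pt (k' := k') _ _ hq2
  obtain ⟨r, h1, h2, h3⟩ := exists_lift3 (k' := k') (𝟙 (SGA7.pt (K := k) kb)) (s σ) (s τ)
    (by rw [Category.id_comp, s_comp_q]) (by rw [s_comp_q, s_comp_q])
  have hx : x = (x ≫ (prL _ ≫ p0 k k' kb).left) ≫ r.left := by
    apply tensor_hom_ext (kb ⊗[k'] kb)
    · apply R2_hom_ext
      · rw [Category.assoc, Category.assoc, Category.assoc, ← Over.comp_left, ← Over.comp_left, h1]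
        exact (Category.comp_id _).symm
      · rw [Category.assoc, Category.assoc, Category.assoc, ← Over.comp_left, ← Over.comp_left, h2, hσ]
        rfl
    · rw [Category.assoc, ← Over.comp_left, h3, hτ]
      rfl
  have key : ∀ w : Spec (CommRingCat.of F) ⟶ (SGA7.pt (K := k) kb).left, x = w ≫ r.left → x ≫ f.left = x ≫ g.left := by
    intro w hw
    rw [hw, Category.assoc, Category.assoc, ← Over.comp_left, ← Over.comp_left, h σ τ r h1 h2 h3]
  exact key _ hx

theorem left_eq_ev {σ : kb ≃ₐ[k'] kb} {r : SGA7.pt (K := k) kb ⟶ R2 k k' kb} (h0 : r ≫ p0 k k' kb = 𝟙 _)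
    (h1 : r ≫ p1 k k' kb = s σ) : r.left = Spec.map (CommRingCat.ofHom (FieldR.ev σ : kb ⊗[k'] kb →+* kb)) := by
  apply R2_hom_ext
  · rw [← Over.comp_left, h0]
    change 𝟙 _ = Spec.map _ ≫ Spec.map _ ≫ 𝟙 _
    rw [Category.comp_id, ← Spec.map_comp, ← Spec.map_id]
    congr 1
    ext a
    change a = FieldR.ev σ (a ⊗ₜ 1)
    rw [FieldR.ev_tmul, map_one, mul_one]
  · rw [← Over.comp_left, h1]
    change Spec.map _ = Spec.map _ ≫ Spec.map _
    rw [← Spec.map_comp]
    congr 1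
    ext a
    change σ a = FieldR.ev σ (1 ⊗ₜ a)
    rw [FieldR.ev_tmul, one_mul]

/-- A locally constant family of `kb`-points of an affine scheme is the restriction of a morphism from the universal
pair. -/
theorem exists_zeta [PerfectField k'] [IsGalois k' kb] {G : Over (Spec (CommRingCat.of k))} [IsAffine G.left]
    (z : (kb ≃ₐ[k'] kb) → (SGA7.pt (K := k) kb ⟶ G)) (hz : IsLocallyConstant z) :
    ∃ ζ : R2 k k' kb ⟶ G, ∀ (σ : kb ≃ₐ[k'] kb) (r : SGA7.pt (K := k) kb ⟶ R2 k k' kb), r ≫ p0 k k' kb = 𝟙 _ →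
      r ≫ p1 k k' kb = s σ → r ≫ ζ = z σ := by
  let A := Γ(G.left, ⊤)
  let zr : (kb ≃ₐ[k'] kb) → (A →+* kb) := fun σ =>
    (Spec.preimage (show Spec (CommRingCat.of kb) ⟶ Spec A from (z σ).left ≫ G.left.isoSpec.hom)).hom
  have hzr : IsLocallyConstant zr :=
    hz.comp (fun w => (Spec.preimage (show Spec (CommRingCat.of kb) ⟶ Spec A from w.left ≫ G.left.isoSpec.hom)).hom)
  obtain ⟨ψ, hψ⟩ := FieldR.exists_interp zr hzr
  let ζ' : (R2 k k' kb).left ⟶ G.left := Spec.map (CommRingCat.ofHom ψ) ≫ G.left.isoSpec.inv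
  have h1 : ∀ (σ : kb ≃ₐ[k'] kb) (r : SGA7.pt (K := k) kb ⟶ R2 k k' kb), r ≫ p0 k k' kb = 𝟙 _ →
      r ≫ p1 k k' kb = s σ → r.left ≫ ζ' = (z σ).left := by
    intro σ r h2 h3
    rw [left_eq_ev h2 h3]
    have h4 : CommRingCat.ofHom ψ ≫ CommRingCat.ofHom (FieldR.ev σ : kb ⊗[k'] kb →+* kb) =
        Spec.preimage (show Spec (CommRingCat.of kb) ⟶ Spec A from (z σ).left ≫ G.left.isoSpec.hom) := by
      ext a
      exact hψ σ a
    have h5 : Spec.map (CommRingCat.ofHom (FieldR.ev σ : kb ⊗[k'] kb →+* kb)) ≫ Spec.map (CommRingCat.ofHom ψ) =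
        (z σ).left ≫ G.left.isoSpec.hom := by
      rw [← Spec.map_comp, h4, Spec.map_preimage]
    change Spec.map _ ≫ Spec.map _ ≫ G.left.isoSpec.inv = _
    rw [← Category.assoc, h5, Category.assoc, Iso.hom_inv_id, Category.comp_id]
  refine ⟨Over.homMk ζ' ?_, fun σ r h2 h3 => Over.OverMorphism.ext (h1 σ r h2 h3)⟩
  refine uni2' (k' := k') _ _ fun σ r h2 h3 => ?_
  rw [← Category.assoc, h1 σ r h2 h3, Over.w, Over.w]

end tower

end K815.PtEq
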