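import Groth.Agent.Sga3B.BcPts
import Groth.Prelude.Def_GalTw2

/-!
# Points of the base change `bcK K X`

`secOfPt K : Pts K X → (𝟙_ ⟶ bcK K X)` is a bijection compatible with products, morphisms, actions, inner
automorphisms; `onPts f : Pts K Y → Pts K X` for `f : bcK K Y ⟶ bcK K X`, and its behaviour under `twHom`.
-/

set_option autoImplicit false
set_option linter.unusedSectionVars false
universe u
open CategoryTheory Limits MonoidalCategory CartesianMonoidalCategory MonObj GrpObj AlgebraicGeometry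

namespace K815.PtsBC

open Groth.Agent.Sga3B.BcPts GalTw

variable {k : Type u} [Field k] {K : Type u} [Field K] [Algebra k K]
variable {X Y Z G : Over (Spec (CommRingCat.of k))}

theorem sec_fst (x : SGA7.Pts K X) :
    (secOfPt K x).left ≫ pullback.fst X.hom (SGA7.pt (K := k) K).hom = x.left := by
  rw [secOfPt_left, pullback.lift_fst]

theorem sec_snd (x : SGA7.Pts K X) :
    (secOfPt K x).left ≫ pullback.snd X.hom (SGA7.pt (K := k) K).hom = 𝟙 _ := by
  rw [secOfPt_left, pullback.lift_snd]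
  rfl

theorem sec_hom_ext {y z : 𝟙_ (Over (Spec (CommRingCat.of K))) ⟶ bcK K X}
    (h : y.left ≫ pullback.fst X.hom (SGA7.pt (K := k) K).hom =
      z.left ≫ pullback.fst X.hom (SGA7.pt (K := k) K).hom) : y = z := by
  apply Over.OverMorphism.ext
  apply pullback.hom_ext h
  exact (Over.w y).trans (Over.w z).symm

/-- The `K`-point of a section. -/
noncomputable def ofSec (y : 𝟙_ (Over (Spec (CommRingCat.of K))) ⟶ bcK K X) : SGA7.Pts K X :=
  Over.homMk (y.left ≫ pullback.fst X.hom (SGA7.pt (K := k) K).hom) (by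
    have h : y.left ≫ pullback.snd X.hom (SGA7.pt (K := k) K).hom = 𝟙 _ := Over.w y
    rw [Category.assoc, pullback.condition, reassoc_of% h])

theorem ofSec_left (y : 𝟙_ (Over (Spec (CommRingCat.of K))) ⟶ bcK K X) :
    (ofSec y).left = y.left ≫ pullback.fst X.hom (SGA7.pt (K := k) K).hom := rfl

variable (X) in
/-- Points and sections. -/
noncomputable def secE : SGA7.Pts K X ≃ (𝟙_ (Over (Spec (CommRingCat.of K))) ⟶ bcK K X) where
  toFun x := secOfPt K x
  invFun y := ofSec y
  left_inv x := by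
    apply Over.OverMorphism.ext
    rw [ofSec_left, sec_fst]
  right_inv y := by
    apply sec_hom_ext
    rw [sec_fst, ofSec_left]

theorem sec_injective {x y : SGA7.Pts K X} (h : secOfPt K x = secOfPt K y) : x = y := (secE X).injective h

theorem sec_ofSec (y : 𝟙_ (Over (Spec (CommRingCat.of K))) ⟶ bcK K X) : secOfPt K (ofSec y) = y :=
  (secE X).apply_symm_apply y

theorem sec_comp (x : SGA7.Pts K X) (f : X ⟶ Y) :
    secOfPt K x ≫ (Over.pullback (SGA7.pt (K := k) K).hom).map f = secOfPt K (x ≫ f) := by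
  apply sec_hom_ext
  rw [sec_fst, Over.comp_left, Over.comp_left, Category.assoc]
  have h : ((Over.pullback (SGA7.pt (K := k) K).hom).map f).left ≫
      pullback.fst Y.hom (SGA7.pt (K := k) K).hom = pullback.fst X.hom (SGA7.pt (K := k) K).hom ≫ f.left :=
    pullback.lift_fst _ _ _
  rw [h, ← Category.assoc, sec_fst]

/-- The unit object over `K`, regarded over `k`. -/
noncomputable def unitIso :
    (Over.map (SGA7.pt (K := k) K).hom).obj (𝟙_ (Over (Spec (CommRingCat.of K)))) ≅ SGA7.pt (K := k) K :=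
  Over.isoMk (Iso.refl _) (by
    change 𝟙 _ ≫ _ = 𝟙 _ ≫ _
    rfl)

theorem sec_eq (x : SGA7.Pts K X) :
    secOfPt K x = bcEquiv (SGA7.pt (K := k) K).hom _ X ((unitIso (K := K)).hom ≫ x) := by
  apply sec_hom_ext
  rw [sec_fst]
  have h3 : ∀ (T : Over (Spec (CommRingCat.of K))) (h : (Over.map (SGA7.pt (K := k) K).hom).obj T ⟶ X),
      (bcEquiv (SGA7.pt (K := k) K).hom T X h).left ≫ pullback.fst X.hom (SGA7.pt (K := k) K).hom = h.left := by
    intro T h
    simp only [bcEquiv, Adjunction.homEquiv_unit]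
    simp
    erw [pullback.lift_fst]
    rw [← Category.assoc]
    erw [pullback.lift_fst]
    exact Category.id_comp _
  rw [h3]
  exact (Category.id_comp _).symm

theorem sec_mul [GrpObj G] (x y : SGA7.Pts K G) : secOfPt K (x * y) = secOfPt K x * secOfPt K y := by
  rw [sec_eq, sec_eq, sec_eq, MonObj.comp_mul, bcEquiv_mul]

/-- Points and sections, for a group scheme. -/
noncomputable def secM (G : Over (Spec (CommRingCat.of k))) [GrpObj G] :
    SGA7.Pts K G ≃* (𝟙_ (Over (Spec (CommRingCat.of K))) ⟶ bcK K G) :=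
  { secE G with map_mul' := sec_mul }

theorem sec_one [GrpObj G] : secOfPt K (1 : SGA7.Pts K G) = 1 := map_one (secM G)

theorem sec_inv [GrpObj G] (x : SGA7.Pts K G) : secOfPt K (x⁻¹) = (secOfPt K x)⁻¹ := map_inv (secM G) x

theorem sec_innK [GrpObj G] (g x : SGA7.Pts K G) : secOfPt K x ≫ innK K g = secOfPt K (g * x * g⁻¹) := by
  rw [innK, AGF.conjBy, MonObj.comp_mul, MonObj.comp_mul, GrpObj.comp_inv, Category.comp_id, sec_mul, sec_mul,
    sec_inv]
  have : secOfPt K x ≫ toUnit (bcK K G) ≫ secOfPt K g = secOfPt K g := by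
    rw [← Category.assoc, toUnit_unique (secOfPt K x ≫ toUnit (bcK K G)) (𝟙 _), Category.id_comp]
  rw [this]

theorem sec_actK [GrpObj G] (a : AlgGrp.Action G X) (g : SGA7.Pts K G) (x : SGA7.Pts K X) :
    secOfPt K x ≫ actK K a g = secOfPt K (lift g x ≫ a.act) := by
  apply sec_hom_ext
  rw [sec_fst, Over.comp_left, Category.assoc]
  have h : (actK K a g).left ≫ pullback.fst X.hom (SGA7.pt (K := k) K).hom =
      (lift (snd X (SGA7.pt (K := k) K) ≫ g) (fst X (SGA7.pt (K := k) K)) ≫ a.act).left :=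
    pullback.lift_fst _ _ _
  rw [h]
  have h2 : (secOfPt K x).left = (lift x (𝟙 (SGA7.pt (K := k) K))).left := rfl
  rw [h2, ← Over.comp_left, ← Category.assoc, comp_lift, lift_snd_assoc, lift_fst, Category.id_comp]

/-- The map on `K`-points of a morphism `Y_K ⟶ X_K`. -/
noncomputable def onPts (f : bcK K Y ⟶ bcK K X) (y : SGA7.Pts K Y) : SGA7.Pts K X := ofSec (secOfPt K y ≫ f)

theorem sec_onPts (f : bcK K Y ⟶ bcK K X) (y : SGA7.Pts K Y) : secOfPt K (onPts f y) = secOfPt K y ≫ f :=
  sec_ofSec _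

theorem onPts_id (y : SGA7.Pts K Y) : onPts (𝟙 (bcK K Y)) y = y := by
  apply sec_injective
  rw [sec_onPts, Category.comp_id]

theorem onPts_comp (f : bcK K Z ⟶ bcK K Y) (g : bcK K Y ⟶ bcK K X) (y : SGA7.Pts K Z) :
    onPts (f ≫ g) y = onPts g (onPts f y) := by
  apply sec_injective
  rw [sec_onPts, sec_onPts, sec_onPts, Category.assoc]

theorem onPts_innK [GrpObj G] (g x : SGA7.Pts K G) : onPts (innK K g) x = g * x * g⁻¹ := by
  apply sec_injective
  rw [sec_onPts, sec_innK]

theorem onPts_actK [GrpObj G] (a : AlgGrp.Action G X) (g : SGA7.Pts K G) (x : SGA7.Pts K X) :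
    onPts (actK K a g) x = lift g x ≫ a.act := by
  apply sec_injective
  rw [sec_onPts, sec_actK]

theorem onPts_map (f : X ⟶ Y) (x : SGA7.Pts K X) :
    onPts ((Over.pullback (SGA7.pt (K := k) K).hom).map f) x = x ≫ f := by
  apply sec_injective
  rw [sec_onPts, sec_comp]

/-- Points of isomorphic base changes. -/
noncomputable def onPtsEquiv (φ : bcK K Y ≅ bcK K X) : SGA7.Pts K Y ≃ SGA7.Pts K X where
  toFun := onPts φ.hom
  invFun := onPts φ.inv
  left_inv y := by rw [← onPts_comp, φ.hom_inv_id, onPts_id]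
  right_inv y := by rw [← onPts_comp, φ.inv_hom_id, onPts_id]

theorem onPtsEquiv_apply (φ : bcK K Y ≅ bcK K X) (y : SGA7.Pts K Y) : onPtsEquiv φ y = onPts φ.hom y := rfl

theorem sec_smul_left (σ : K ≃ₐ[k] K) (x : SGA7.Pts K X) :
    (secOfPt K (σ • x)).left = specMap K σ ≫ (secOfPt K x).left ≫ galMap K σ⁻¹ X := by
  apply pullback.hom_ext
  · rw [sec_fst, Category.assoc, Category.assoc, galMap_fst, sec_fst]
    rfl
  · rw [sec_snd, Category.assoc, Category.assoc, galMap_snd, ← Category.assoc (secOfPt K x).left, sec_snd]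
    erw [Category.id_comp]
    rw [← specMap_mul, mul_inv_cancel, specMap_one]
    rfl

theorem onPts_twHom (σ : K ≃ₐ[k] K) (f : bcK K Y ⟶ bcK K X) (y : SGA7.Pts K Y) :
    onPts (twHom σ f) y = σ • onPts f (σ⁻¹ • y) := by
  apply sec_injective
  apply Over.OverMorphism.ext
  rw [sec_onPts, sec_smul_left, sec_onPts, Over.comp_left, Over.comp_left, sec_smul_left, twHom_left]
  simp only [Category.assoc, _root_.inv_inv]
  rw [← Category.assoc (specMap K σ), ← specMap_mul, mul_inv_cancel, specMap_one, Category.id_comp]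

theorem onPts_mul [GrpObj G] {H : Over (Spec (CommRingCat.of k))} [GrpObj H] (f : bcK K G ⟶ bcK K H) [IsMonHom f]
    (x y : SGA7.Pts K G) : onPts f (x * y) = onPts f x * onPts f y := by
  apply sec_injective
  rw [sec_mul, sec_onPts, sec_onPts, sec_onPts, sec_mul, MonObj.mul_comp]

/-- The defining property of a twist through an action, on points. -/
theorem twist_onPts [GrpObj G] {a : AlgGrp.Action G X} {g : SGA7.Pts K G} {σ : K ≃ₐ[k] K} {φ : bcK K Y ≅ bcK K X}
    (h : (cocycle φ σ).hom = actK K a g) (y : SGA7.Pts K Y) :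
    onPts φ.hom (σ • y) = lift g (σ • onPts φ.hom y) ≫ a.act := by
  have h1 : φ.hom = twHom σ φ.hom ≫ actK K a g := by
    rw [← h, cocycle_apply_hom, ← twIso_hom, Iso.hom_inv_id_assoc]
  conv_lhs => rw [h1]
  rw [onPts_comp, onPts_actK, onPts_twHom, inv_smul_smul]

/-- The defining property of an inner twist, on points. -/
theorem inn_onPts [GrpObj G] [GrpObj Y] {g : SGA7.Pts K G} {σ : K ≃ₐ[k] K} {φ : bcK K Y ≅ bcK K G}
    (h : (cocycle φ σ).hom = innK K g) (y : SGA7.Pts K Y) :
    onPts φ.hom (σ • y) = g * (σ • onPts φ.hom y) * g⁻¹ := by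
  have h1 : φ.hom = twHom σ φ.hom ≫ innK K g := by
    rw [← h, cocycle_apply_hom, ← twIso_hom, Iso.hom_inv_id_assoc]
  conv_lhs => rw [h1]
  rw [onPts_comp, onPts_innK, onPts_twHom, inv_smul_smul]

end K815.PtsBC
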