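import Groth.Agent.StackCount.K815.PtEq
import Groth.Agent.StackCount.K815.EffEpi
import Groth.Prelude.Def_AlgSt5

/-!
# Objects of the quotient stack `[X/G]` and their points
-/

set_option autoImplicit false
set_option linter.unusedSectionVars false
universe u
open CategoryTheory Limits MonoidalCategory CartesianMonoidalCategory MonObj GrpObj AlgebraicGeometry

namespace K815.Tors

section action

variable {S : Scheme.{u}} {G X Z Z' : Over S} [GrpObj G] (a : AlgGrp.Action G X)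

/-- `g · x` on `Z`-points. -/
noncomputable def ac (g : Z ⟶ G) (x : Z ⟶ X) : Z ⟶ X := lift g x ≫ a.act

theorem ac_def (g : Z ⟶ G) (x : Z ⟶ X) : ac a g x = lift g x ≫ a.act := rfl

theorem comp_ac (f : Z' ⟶ Z) (g : Z ⟶ G) (x : Z ⟶ X) : f ≫ ac a g x = ac a (f ≫ g) (f ≫ x) := by
  rw [ac, ac, ← Category.assoc, comp_lift]

theorem ac_one (x : Z ⟶ X) : ac a 1 x = x := by
  have h1 : lift (1 : Z ⟶ G) x = lift (toUnit Z) x ≫ (η[G] ▷ X) := by
    rw [lift_whiskerRight, Hom.one_def]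
  rw [ac, h1, Category.assoc, a.one_act, leftUnitor_hom, lift_snd]

theorem ac_mul (g h : Z ⟶ G) (x : Z ⟶ X) : ac a (g * h) x = ac a g (ac a h x) := by
  have h1 : lift (g * h) x = lift (lift g h) x ≫ (μ[G] ▷ X) := by
    rw [lift_whiskerRight, Hom.mul_def]
  rw [ac, h1, Category.assoc, a.mul_act, ← Category.assoc, lift_lift_associator_hom, ← Category.assoc,
    lift_whiskerLeft]
  rfl

theorem ac_inv_ac (g : Z ⟶ G) (x : Z ⟶ X) : ac a g⁻¹ (ac a g x) = x := by
  rw [← ac_mul, inv_mul_cancel, ac_one]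

theorem ac_ac_inv (g : Z ⟶ G) (x : Z ⟶ X) : ac a g (ac a g⁻¹ x) = x := by
  rw [← ac_mul, mul_inv_cancel, ac_one]

/-- `G(Z)` acts on `X(Z)`. -/
noncomputable abbrev mulAction (Z : Over S) : MulAction (Z ⟶ G) (Z ⟶ X) where
  smul g x := ac a g x
  one_smul x := ac_one a x
  mul_smul g h x := ac_mul a g h x

theorem eqv_iff {Y : Over S} (b : AlgGrp.Action G Y) (f : X ⟶ Y) :
    a.act ≫ f = (G ◁ f) ≫ b.act ↔ ∀ (Z : Over S) (g : Z ⟶ G) (x : Z ⟶ X), ac a g x ≫ f = ac b g (x ≫ f) := by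
  constructor
  · intro h Z g x
    rw [ac, ac, Category.assoc, h, ← Category.assoc, lift_whiskerLeft]
  · intro h
    have h1 := h _ (fst G X) (snd G X)
    rw [ac, lift_fst_snd, Category.id_comp] at h1
    rw [h1, ac]
    congr 1

end action

section torsor

variable {S : Scheme.{u}} {G P T Tb : Over S} [GrpObj G] (a : AlgGrp.Action G P) (π : P ⟶ T)
  (hc : IsPullback a.act (snd G P) π π) (q : Tb ⟶ T) (t : Tb ⟶ P) (ht : t ≫ π = q)

include hc

theorem ac_π {Z : Over S} (g : Z ⟶ G) (p : Z ⟶ P) : ac a g p ≫ π = p ≫ π := by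
  rw [ac, Category.assoc, hc.w, ← Category.assoc, lift_snd]

theorem exists_dv {Z : Over S} (p p' : Z ⟶ P) (h : p ≫ π = p' ≫ π) : ∃ g : Z ⟶ G, ac a g p' = p := by
  refine ⟨hc.lift p p' h ≫ fst G P, ?_⟩
  have h1 : lift (hc.lift p p' h ≫ fst G P) p' = hc.lift p p' h := by
    ext1
    · rw [lift_fst]
    · rw [lift_snd, hc.lift_snd]
  rw [ac, h1, hc.lift_fst]

theorem ac_inj {Z : Over S} {g g' : Z ⟶ G} {p : Z ⟶ P} (h : ac a g p = ac a g' p) : g = g' := by
  have h1 : lift g p = lift g' p := by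
    apply hc.hom_ext
    · exact h
    · rw [lift_snd, lift_snd]
  have h2 := congrArg (fun f => f ≫ fst G P) h1
  simpa using h2

include ht

/-- `(g, x) ↦ g · x(t)` is a base change of `q`. -/
theorem isPullback_cov : IsPullback (ac a (fst G Tb) (snd G Tb ≫ t)) (snd G Tb) π q := by
  have hw : ac a (fst G Tb) (snd G Tb ≫ t) ≫ π = snd G Tb ≫ q := by
    rw [ac_π a π hc, Category.assoc, ht]
  have hg : ∀ s : PullbackCone π q, ∃ g : s.pt ⟶ G, ac a g (s.snd ≫ t) = s.fst := fun s =>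
    exists_dv a π hc s.fst (s.snd ≫ t) (by rw [s.condition, Category.assoc, ht])
  choose g hg using hg
  refine ⟨⟨hw⟩, ⟨PullbackCone.IsLimit.mk hw (fun s => lift (g s) s.snd) ?_ ?_ ?_⟩⟩
  · intro s
    have h2 : lift (g s) s.snd ≫ snd G Tb ≫ t = s.snd ≫ t := by rw [lift_snd_assoc]
    rw [comp_ac, lift_fst, h2]
    exact hg s
  · intro s
    rw [lift_snd]
  · intro s m h1 h2
    ext1
    · rw [lift_fst]
      apply ac_inj a π hc (p := s.snd ≫ t)
      rw [hg s, ← h1, comp_ac, ← h2, Category.assoc]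
    · rw [lift_snd, h2]

variable [Surjective q.left] [Flat q.left] [QuasiCompact q.left]

theorem cov_props : Surjective (ac a (fst G Tb) (snd G Tb ≫ t)).left ∧ Flat (ac a (fst G Tb) (snd G Tb ≫ t)).left ∧
    QuasiCompact (ac a (fst G Tb) (snd G Tb ≫ t)).left := by
  have h := (isPullback_cov a π hc q t ht).map (Over.forget S)
  exact ⟨MorphismProperty.of_isPullback (P := @Surjective) h.flip ‹_›,
    MorphismProperty.of_isPullback (P := @Flat) h.flip ‹_›,
    MorphismProperty.of_isPullback (P := @QuasiCompact) h.flip ‹_›⟩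

/-- Morphisms from a torsor are determined on the points `g · x(t)`. -/
theorem hom_ext_cov {Y : Over S} {f f' : P ⟶ Y}
    (h : ac a (fst G Tb) (snd G Tb ≫ t) ≫ f = ac a (fst G Tb) (snd G Tb ≫ t) ≫ f') : f = f' := by
  obtain ⟨h1, h2, h3⟩ := cov_props a π hc q t ht
  have := EffEpi.epi (ac a (fst G Tb) (snd G Tb ≫ t))
  exact (cancel_epi _).mp h

/-- Equivariant morphisms from a torsor are determined by the image of `t`. -/
theorem eqv_ext {Y : Over S} (b : AlgGrp.Action G Y) {f f' : P ⟶ Y}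
    (hf : ∀ (Z : Over S) (g : Z ⟶ G) (x : Z ⟶ P), ac a g x ≫ f = ac b g (x ≫ f))
    (hf' : ∀ (Z : Over S) (g : Z ⟶ G) (x : Z ⟶ P), ac a g x ≫ f' = ac b g (x ≫ f')) (h : t ≫ f = t ≫ f') :
    f = f' := by
  apply hom_ext_cov a π hc q t ht
  rw [hf, hf', Category.assoc, Category.assoc, h]

/-- Equivariant morphisms from a torsor: existence. -/
theorem exists_eqv {Y : Over S} (b : AlgGrp.Action G Y) (y : Tb ⟶ Y)
    (hy : ∀ (Z : Over S) (x₀ x₁ : Z ⟶ Tb) (g : Z ⟶ G), ac a g (x₁ ≫ t) = x₀ ≫ t → ac b g (x₁ ≫ y) = x₀ ≫ y) :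
    ∃ f : P ⟶ Y, t ≫ f = y ∧ ∀ (Z : Over S) (g : Z ⟶ G) (x : Z ⟶ P), ac a g x ≫ f = ac b g (x ≫ f) := by
  obtain ⟨h1, h2, h3⟩ := cov_props a π hc q t ht
  obtain ⟨f, hf⟩ := EffEpi.exists_desc (ac a (fst G Tb) (snd G Tb ≫ t)) (ac b (fst G Tb) (snd G Tb ≫ y)) (by
    intro W u v huv
    rw [comp_ac, comp_ac, ← Category.assoc, ← Category.assoc] at huv ⊢
    have h4 : ac a ((v ≫ fst G Tb)⁻¹ * (u ≫ fst G Tb)) ((u ≫ snd G Tb) ≫ t) = (v ≫ snd G Tb) ≫ t := by
      rw [ac_mul, huv, ac_inv_ac]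
    have h5 := hy W (v ≫ snd G Tb) (u ≫ snd G Tb) _ h4
    rw [← h5, ← ac_mul, mul_inv_cancel_left])
  have key : ∀ (Z : Over S) (g : Z ⟶ G) (x : Z ⟶ Tb), ac a g (x ≫ t) ≫ f = ac b g (x ≫ y) := by
    intro Z g x
    have h4 := congrArg (fun e => lift g x ≫ e) hf
    simp only [← Category.assoc, comp_ac, lift_fst] at h4
    rw [lift_snd] at h4
    exact h4
  have hty : t ≫ f = y := by
    have h4 := key Tb 1 (𝟙 Tb)
    rwa [ac_one, ac_one, Category.id_comp, Category.id_comp] at h4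
  refine ⟨f, hty, fun Z g x => ?_⟩
  -- check after the covering `G × Z ×_T Tb ⟶ Z`
  obtain ⟨Z', c, w, hcw, e1, e2, e3⟩ : ∃ (Z' : Over S) (c : Z' ⟶ Z) (w : Z' ⟶ Tb), c ≫ x ≫ π = w ≫ q ∧
      Surjective c.left ∧ Flat c.left ∧ QuasiCompact c.left := by
    let hP := (IsPullback.of_hasPullback (x ≫ π) q)
    have h6 := hP.map (Over.forget S)
    refine ⟨pullback (x ≫ π) q, pullback.fst _ _, pullback.snd _ _, hP.w, ?_, ?_, ?_⟩
    · exact MorphismProperty.of_isPullback (P := @Surjective) h6.flip ‹_›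
    · exact MorphismProperty.of_isPullback (P := @Flat) h6.flip ‹_›
    · exact MorphismProperty.of_isPullback (P := @QuasiCompact) h6.flip ‹_›
  have := EffEpi.epi c
  rw [← cancel_epi c]
  obtain ⟨h, hh⟩ := exists_dv a π hc (c ≫ x) (w ≫ t) (by rw [Category.assoc, hcw, Category.assoc, ht])
  have h7 : c ≫ ac a g x = ac a ((c ≫ g) * h) (w ≫ t) := by
    rw [comp_ac, ac_mul, hh]
  have h8 : c ≫ x ≫ f = ac b h (w ≫ y) := by
    rw [← Category.assoc, ← hh, key]
  rw [← Category.assoc, h7, key, ac_mul, ← h8, comp_ac]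

end torsor

end K815.Tors
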