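import Groth.Agent.StackCount.K815.Tors
import Groth.Agent.S1133
import Mathlib.AlgebraicGeometry.Morphisms.AffineAnd
import Mathlib.AlgebraicGeometry.Morphisms.Affine

/-!
# The torsor under an affine group scheme defined by a Čech cocycle for an fpqc covering
-/

set_option autoImplicit false
set_option linter.unusedSectionVars false
universe u
open CategoryTheory Limits MonoidalCategory CartesianMonoidalCategory MonObj GrpObj AlgebraicGeometry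

namespace K815.TorsOf

open K815.Tors

variable {S : Scheme.{u}} {T Tb : Over S} (q : Tb ⟶ T) (G : Over S) [GrpObj G]

/-- A Čech cocycle with values in `G`, in functor-of-points form. -/
structure Cech where
  /-- the values -/
  z : ∀ {Z : Over S} (x₀ x₁ : Z ⟶ Tb), x₀ ≫ q = x₁ ≫ q → (Z ⟶ G)
  nat : ∀ {Z' Z : Over S} (f : Z' ⟶ Z) (x₀ x₁ : Z ⟶ Tb) (h : x₀ ≫ q = x₁ ≫ q)
    (h' : (f ≫ x₀) ≫ q = (f ≫ x₁) ≫ q), z (f ≫ x₀) (f ≫ x₁) h' = f ≫ z x₀ x₁ h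
  mul : ∀ {Z : Over S} (x₀ x₁ x₂ : Z ⟶ Tb) (h : x₀ ≫ q = x₁ ≫ q) (h' : x₁ ≫ q = x₂ ≫ q),
    z x₀ x₁ h * z x₁ x₂ h' = z x₀ x₂ (h.trans h')

variable {q G} (C : Cech q G)

theorem Cech.self {Z : Over S} (x : Z ⟶ Tb) : C.z x x rfl = 1 := by
  have h := C.mul x x x rfl rfl
  exact mul_eq_left.mp h

section tr

variable {Z : Scheme.{u}} (b : Z ⟶ S) (x₀ x₁ : Z ⟶ Tb.left) (h0 : x₀ ≫ Tb.hom = b) (h1 : x₁ ≫ Tb.hom = b)
  (h : x₀ ≫ q.left = x₁ ≫ q.left)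

/-- The gluing: `(g, x₀) ↦ (g z(x₀, x₁), x₁)`. -/
noncomputable def tr (v : Over.mk b ⟶ G ⊗ Tb) : Over.mk b ⟶ G ⊗ Tb :=
  lift (v ≫ fst G Tb * C.z (Over.homMk x₀ h0 : Over.mk b ⟶ Tb) (Over.homMk x₁ h1) (Over.OverMorphism.ext h))
    (Over.homMk x₁ h1)

theorem tr_snd (v : Over.mk b ⟶ G ⊗ Tb) : (tr C b x₀ x₁ h0 h1 h v).left ≫ (snd G Tb).left = x₁ := by
  rw [← Over.comp_left, tr, lift_snd]
  rfl

theorem tr_fst (v : Over.mk b ⟶ G ⊗ Tb) : tr C b x₀ x₁ h0 h1 h v ≫ fst G Tb =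
    v ≫ fst G Tb * C.z (Over.homMk x₀ h0 : Over.mk b ⟶ Tb) (Over.homMk x₁ h1) (Over.OverMorphism.ext h) := by
  rw [tr, lift_fst]

theorem tr_self (v : Over.mk b ⟶ G ⊗ Tb) (hv : v.left ≫ (snd G Tb).left = x₀) :
    tr C b x₀ x₀ h0 h0 rfl v = v := by
  ext1
  · rw [tr_fst]
    have := C.self (Over.homMk x₀ h0 : Over.mk b ⟶ Tb)
    rw [this, _root_.mul_one]
  · apply Over.OverMorphism.ext
    rw [Over.comp_left, tr_snd, Over.comp_left, hv]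

theorem tr_tr (x₂ : Z ⟶ Tb.left) (h2 : x₂ ≫ Tb.hom = b) (h' : x₁ ≫ q.left = x₂ ≫ q.left) (v : Over.mk b ⟶ G ⊗ Tb) :
    tr C b x₁ x₂ h1 h2 h' (tr C b x₀ x₁ h0 h1 h v) = tr C b x₀ x₂ h0 h2 (h.trans h') v := by
  ext1
  · rw [tr_fst, tr_fst, tr_fst, _root_.mul_assoc]
    congr 1
    exact C.mul _ _ _ _ _
  · apply Over.OverMorphism.ext
    rw [Over.comp_left, tr_snd, Over.comp_left, tr_snd]

end tr

/-- A point over `x`, as a morphism over `S`. -/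
noncomputable def ov {Z : Scheme.{u}} (b : Z ⟶ S) (x : Z ⟶ Tb.left) (h : x ≫ Tb.hom = b)
    (v : Z ⟶ (G ⊗ Tb).left) (hv : v ≫ (snd G Tb).left = x) : Over.mk b ⟶ G ⊗ Tb :=
  Over.homMk v (by rw [← Over.w (snd G Tb), ← Category.assoc, hv, h]; rfl)

theorem ov_left {Z : Scheme.{u}} (b : Z ⟶ S) (x : Z ⟶ Tb.left) (h : x ≫ Tb.hom = b)
    (f : Over.mk b ⟶ G ⊗ Tb) (hv : f.left ≫ (snd G Tb).left = x) : ov b x h f.left hv = f := rfl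

/-- The gluing on underlying morphisms. -/
noncomputable def trl {Z : Scheme.{u}} (b : Z ⟶ S) (x₀ x₁ : Z ⟶ Tb.left) (h0 : x₀ ≫ Tb.hom = b)
    (h1 : x₁ ≫ Tb.hom = b) (h : x₀ ≫ q.left = x₁ ≫ q.left) (v : Z ⟶ (G ⊗ Tb).left)
    (hv : v ≫ (snd G Tb).left = x₀) : Z ⟶ (G ⊗ Tb).left :=
  (tr C b x₀ x₁ h0 h1 h (ov b x₀ h0 v hv)).left

theorem trl_snd {Z : Scheme.{u}} (b : Z ⟶ S) (x₀ x₁ : Z ⟶ Tb.left) (h0 : x₀ ≫ Tb.hom = b)
    (h1 : x₁ ≫ Tb.hom = b) (h : x₀ ≫ q.left = x₁ ≫ q.left) (v : Z ⟶ (G ⊗ Tb).left)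
    (hv : v ≫ (snd G Tb).left = x₀) : trl C b x₀ x₁ h0 h1 h v hv ≫ (snd G Tb).left = x₁ := tr_snd C _ _ _ _ _ _ _

theorem trl_congr {Z : Scheme.{u}} (b b' : Z ⟶ S) (x₀ x₁ : Z ⟶ Tb.left) (h0 : x₀ ≫ Tb.hom = b)
    (h1 : x₁ ≫ Tb.hom = b) (h0' : x₀ ≫ Tb.hom = b') (h1' : x₁ ≫ Tb.hom = b') (h : x₀ ≫ q.left = x₁ ≫ q.left)
    (v : Z ⟶ (G ⊗ Tb).left) (hv : v ≫ (snd G Tb).left = x₀) :
    trl C b x₀ x₁ h0 h1 h v hv = trl C b' x₀ x₁ h0' h1' h v hv := by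
  have hb : b = b' := h0.symm.trans h0'
  subst hb
  rfl

theorem trl_self {Z : Scheme.{u}} (b : Z ⟶ S) (x₀ : Z ⟶ Tb.left) (h0 : x₀ ≫ Tb.hom = b)
    (v : Z ⟶ (G ⊗ Tb).left) (hv : v ≫ (snd G Tb).left = x₀) : trl C b x₀ x₀ h0 h0 rfl v hv = v := by
  rw [trl, tr_self]
  · rfl
  · exact hv

theorem trl_trl {Z : Scheme.{u}} (b b' : Z ⟶ S) (x₀ x₁ x₂ : Z ⟶ Tb.left) (h0 : x₀ ≫ Tb.hom = b)
    (h1 : x₁ ≫ Tb.hom = b) (h1' : x₁ ≫ Tb.hom = b') (h2' : x₂ ≫ Tb.hom = b') (h : x₀ ≫ q.left = x₁ ≫ q.left)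
    (h' : x₁ ≫ q.left = x₂ ≫ q.left) (v : Z ⟶ (G ⊗ Tb).left) (hv : v ≫ (snd G Tb).left = x₀)
    (hv' : trl C b x₀ x₁ h0 h1 h v hv ≫ (snd G Tb).left = x₁) :
    trl C b' x₁ x₂ h1' h2' h' (trl C b x₀ x₁ h0 h1 h v hv) hv' =
      trl C b x₀ x₂ h0 (h2'.trans (h1'.symm.trans h1)) (h.trans h') v hv := by
  have hb : b' = b := h1'.symm.trans h1
  subst hb
  exact congrArg (fun f : Over.mk b' ⟶ G ⊗ Tb => f.left) (tr_tr C b' x₀ x₁ h0 h1 h x₂ h2' h' (ov b' x₀ h0 v hv))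

theorem trl_nat {Z Z' : Scheme.{u}} (g : Z' ⟶ Z) (b : Z ⟶ S) (b' : Z' ⟶ S) (x₀ x₁ : Z ⟶ Tb.left)
    (h0 : x₀ ≫ Tb.hom = b) (h1 : x₁ ≫ Tb.hom = b) (h0' : (g ≫ x₀) ≫ Tb.hom = b') (h1' : (g ≫ x₁) ≫ Tb.hom = b')
    (h : x₀ ≫ q.left = x₁ ≫ q.left) (h' : (g ≫ x₀) ≫ q.left = (g ≫ x₁) ≫ q.left)
    (v : Z ⟶ (G ⊗ Tb).left) (hv : v ≫ (snd G Tb).left = x₀) (hv' : (g ≫ v) ≫ (snd G Tb).left = g ≫ x₀) :
    trl C b' (g ≫ x₀) (g ≫ x₁) h0' h1' h' (g ≫ v) hv' = g ≫ trl C b x₀ x₁ h0 h1 h v hv := by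
  have hb : b' = g ≫ b := by rw [← h0', Category.assoc, h0]
  subst hb
  let g' : Over.mk (g ≫ b) ⟶ Over.mk b := Over.homMk g
  have h3 : tr C (g ≫ b) (g ≫ x₀) (g ≫ x₁) h0' h1' h' (ov (g ≫ b) (g ≫ x₀) h0' (g ≫ v) hv') =
      g' ≫ tr C b x₀ x₁ h0 h1 h (ov b x₀ h0 v hv) := by
    ext1
    · rw [tr_fst, Category.assoc, tr_fst, MonObj.comp_mul]
      congr 1
      exact C.nat g' (Over.homMk x₀ h0 : Over.mk b ⟶ Tb) (Over.homMk x₁ h1) (Over.OverMorphism.ext h) _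
    · apply Over.OverMorphism.ext
      rw [Over.comp_left, tr_snd, Over.comp_left, Over.comp_left, Category.assoc, tr_snd]
      rfl
  rw [trl, h3]
  rfl

theorem hom_eq {Z : Scheme.{u}} {x₀ x₁ : Z ⟶ Tb.left} (h : x₀ ≫ q.left = x₁ ≫ q.left) :
    x₁ ≫ Tb.hom = x₀ ≫ Tb.hom := by
  rw [← Over.w q, ← Category.assoc, ← h, Category.assoc]

/-- The gluing on underlying morphisms, short form. -/
noncomputable def trd {Z : Scheme.{u}} (x₀ x₁ : Z ⟶ Tb.left) (h : x₀ ≫ q.left = x₁ ≫ q.left)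
    (v : Z ⟶ (G ⊗ Tb).left) (hv : v ≫ (snd G Tb).left = x₀) : Z ⟶ (G ⊗ Tb).left :=
  trl C (x₀ ≫ Tb.hom) x₀ x₁ rfl (hom_eq h) h v hv

theorem trd_snd {Z : Scheme.{u}} (x₀ x₁ : Z ⟶ Tb.left) (h : x₀ ≫ q.left = x₁ ≫ q.left)
    (v : Z ⟶ (G ⊗ Tb).left) (hv : v ≫ (snd G Tb).left = x₀) : trd C x₀ x₁ h v hv ≫ (snd G Tb).left = x₁ :=
  trl_snd C _ _ _ _ _ _ _ _

theorem trd_trd {Z : Scheme.{u}} (x₀ x₁ x₂ : Z ⟶ Tb.left) (h : x₀ ≫ q.left = x₁ ≫ q.left)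
    (h' : x₁ ≫ q.left = x₂ ≫ q.left) (v : Z ⟶ (G ⊗ Tb).left) (hv : v ≫ (snd G Tb).left = x₀)
    (hv' : trd C x₀ x₁ h v hv ≫ (snd G Tb).left = x₁) :
    trd C x₁ x₂ h' (trd C x₀ x₁ h v hv) hv' = trd C x₀ x₂ (h.trans h') v hv :=
  trl_trl C (x₀ ≫ Tb.hom) (x₁ ≫ Tb.hom) x₀ x₁ x₂ rfl (hom_eq h) rfl (hom_eq h') h h' v hv hv'

theorem trd_self {Z : Scheme.{u}} (x₀ : Z ⟶ Tb.left) (h : x₀ ≫ q.left = x₀ ≫ q.left) (v : Z ⟶ (G ⊗ Tb).left)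
    (hv : v ≫ (snd G Tb).left = x₀) : trd C x₀ x₀ h v hv = v :=
  trl_self C (x₀ ≫ Tb.hom) x₀ rfl v hv

theorem trd_nat {Z Z' : Scheme.{u}} (g : Z' ⟶ Z) (x₀ x₁ : Z ⟶ Tb.left)
    (h : x₀ ≫ q.left = x₁ ≫ q.left) (h' : (g ≫ x₀) ≫ q.left = (g ≫ x₁) ≫ q.left)
    (v : Z ⟶ (G ⊗ Tb).left) (hv : v ≫ (snd G Tb).left = x₀) (hv' : (g ≫ v) ≫ (snd G Tb).left = g ≫ x₀) :
    trd C (g ≫ x₀) (g ≫ x₁) h' (g ≫ v) hv' = g ≫ trd C x₀ x₁ h v hv :=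
  trl_nat C g (x₀ ≫ Tb.hom) ((g ≫ x₀) ≫ Tb.hom) x₀ x₁ rfl (hom_eq h) rfl (hom_eq h') h h' v hv hv'

/-- The descent datum. -/
noncomputable def datum : Desc.SchDD q.left where
  obj := Over.mk (snd G Tb).left
  φ Z x₀ x₁ h :=
    { toFun := fun v => ⟨trd C x₀ x₁ h v.1 v.2, trd_snd C _ _ _ _ _⟩
      invFun := fun v => ⟨trd C x₁ x₀ h.symm v.1 v.2, trd_snd C _ _ _ _ _⟩
      left_inv := by
        rintro ⟨v, hv⟩
        apply Subtype.ext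
        exact (trd_trd C x₀ x₁ x₀ h h.symm v hv (trd_snd C _ _ _ _ _)).trans (trd_self C x₀ rfl v hv)
      right_inv := by
        rintro ⟨v, hv⟩
        apply Subtype.ext
        exact (trd_trd C x₁ x₀ x₁ h.symm h v hv (trd_snd C _ _ _ _ _)).trans (trd_self C x₁ rfl v hv) }
  φ_natural := by
    rintro Z Z' g x₀ x₁ h h' ⟨v, hv⟩ ⟨v', hv'⟩ e
    have e' : v' = g ≫ v := e
    subst e'
    exact trd_nat C g x₀ x₁ h h' v hv hv'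
  φ_self := by
    rintro Z x ⟨v, hv⟩
    apply Subtype.ext
    exact trd_self C x rfl v hv
  φ_comp := by
    rintro Z x₀ x₁ x₂ h₀₁ h₁₂ ⟨v, hv⟩
    apply Subtype.ext
    exact trd_trd C x₀ x₁ x₂ h₀₁ h₁₂ v hv (trd_snd C _ _ _ _ _)

theorem datum_φ {Z : Scheme.{u}} (x₀ x₁ : Z ⟶ Tb.left) (h : x₀ ≫ q.left = x₁ ≫ q.left)
    (v : Desc.Lifts (datum C).obj x₀) : ((datum C).φ x₀ x₁ h v).1 = trd C x₀ x₁ h v.1 v.2 := rfl

theorem trd_over {Z : Over S} (g : Z ⟶ G) (x₀ x₁ : Z ⟶ Tb) (h : x₀ ≫ q = x₁ ≫ q)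
    (h' : x₀.left ≫ q.left = x₁.left ≫ q.left) (hv : (lift g x₀).left ≫ (snd G Tb).left = x₀.left) :
    trd C x₀.left x₁.left h' (lift g x₀).left hv = (lift (g * C.z x₀ x₁ h) x₁).left := by
  have h1 : trd C x₀.left x₁.left h' (lift g x₀).left hv =
      trl C Z.hom x₀.left x₁.left (Over.w x₀) (Over.w x₁) h' (lift g x₀).left hv := trl_congr C _ _ _ _ _ _ _ _ _ _ _
  rw [h1]
  change (lift ((lift g x₀) ≫ fst G Tb * C.z x₀ x₁ _) x₁).left = _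
  rw [lift_fst]

theorem exists_cover [IsAffineHom G.hom] [Surjective q.left] [Flat q.left] [QuasiCompact q.left] :
    ∃ (P : Over S) (π : P ⟶ T) (c : G ⊗ Tb ⟶ P), IsPullback c (snd G Tb) π q ∧
      ∀ (Z : Over S) (g : Z ⟶ G) (x₀ x₁ : Z ⟶ Tb) (h : x₀ ≫ q = x₁ ≫ q),
        lift g x₀ ≫ c = lift (g * C.z x₀ x₁ h) x₁ ≫ c := by
  have haff : IsAffineHom (datum C).obj.hom := by
    change IsAffineHom (snd G Tb).left
    rw [Over.snd_left]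
    exact MorphismProperty.of_isPullback (P := @IsAffineHom) (IsPullback.of_hasPullback G.hom Tb.hom) ‹_›
  obtain ⟨U, ⟨e⟩⟩ := Groth.Agent.S1133.result q.left (datum C)
  let i : (G ⊗ Tb).left ⟶ pullback q.left U.hom := e.inv.hom.left
  have hi : i ≫ pullback.fst q.left U.hom = (snd G Tb).left := Over.w e.inv.hom
  let j : pullback q.left U.hom ⟶ (G ⊗ Tb).left := e.hom.hom.left
  have hij : i ≫ j = 𝟙 _ := by
    have h1 : e.inv.hom ≫ e.hom.hom = 𝟙 _ := by rw [← Desc.SchDD.comp_hom, e.inv_hom_id]; rfl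
    exact congrArg CommaMorphism.left h1
  have hji : j ≫ i = 𝟙 _ := by
    have h1 : e.hom.hom ≫ e.inv.hom = 𝟙 _ := by rw [← Desc.SchDD.comp_hom, e.hom_inv_id]; rfl
    exact congrArg CommaMorphism.left h1
  let P : Over S := Over.mk (U.hom ≫ T.hom)
  let π : P ⟶ T := Over.homMk U.hom rfl
  let c : G ⊗ Tb ⟶ P := Over.homMk (i ≫ pullback.snd q.left U.hom) (by
    change (i ≫ pullback.snd q.left U.hom) ≫ U.hom ≫ T.hom = _
    rw [Category.assoc, ← Category.assoc (pullback.snd q.left U.hom), ← pullback.condition, Category.assoc, ← Category.assoc i, hi,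
      Over.w, Over.w])
  refine ⟨P, π, c, ?_, ?_⟩
  · have hw : c ≫ π = snd G Tb ≫ q := by
      apply Over.OverMorphism.ext
      change (i ≫ pullback.snd q.left U.hom) ≫ U.hom = (snd G Tb).left ≫ q.left
      rw [Category.assoc, ← pullback.condition, ← Category.assoc, hi]
    have h1 : IsPullback c.left (snd G Tb).left π.left q.left := by
      refine IsPullback.of_iso (IsPullback.of_hasPullback q.left U.hom).flip ⟨j, i, hji, hij⟩ (Iso.refl _) (Iso.refl _)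
        (Iso.refl _) ?_ ?_ ?_ ?_
      · change _ ≫ 𝟙 _ = j ≫ i ≫ pullback.snd q.left U.hom
        rw [← Category.assoc, hji, Category.id_comp, Category.comp_id]
      · change _ ≫ 𝟙 _ = j ≫ (snd G Tb).left
        rw [← hi, ← Category.assoc, hji, Category.id_comp, Category.comp_id]
      · change _ ≫ 𝟙 _ = 𝟙 _ ≫ _
        rw [Category.comp_id, Category.id_comp]
        rfl
      · change _ ≫ 𝟙 _ = 𝟙 _ ≫ _
        rw [Category.comp_id, Category.id_comp]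
    exact IsPullback.of_map (Over.forget S) hw h1
  · intro Z g x₀ x₁ h
    apply Over.OverMorphism.ext
    have h' : x₀.left ≫ q.left = x₁.left ≫ q.left := congrArg CommaMorphism.left h
    have hv : (lift g x₀).left ≫ (snd G Tb).left = x₀.left := by
      rw [← Over.comp_left, lift_snd]
    have h2 := e.inv.comm x₀.left x₁.left h' ⟨(lift g x₀).left, hv⟩
      ⟨(lift g x₀).left ≫ i, by
        change ((lift g x₀).left ≫ i) ≫ pullback.fst q.left U.hom = x₀.left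
        rw [Category.assoc, hi, hv]⟩ rfl
    have h3 := congrArg (fun f : Z.left ⟶ pullback q.left U.hom => f ≫ pullback.snd q.left U.hom) h2
    have h4 : ((lift g x₀).left ≫ i) ≫ pullback.snd q.left U.hom =
        (trd C x₀.left x₁.left h' (lift g x₀).left hv ≫ i) ≫ pullback.snd q.left U.hom := by
      refine Eq.trans ?_ h3
      exact (pullback.lift_snd _ _ _).symm
    rw [trd_over C g x₀ x₁ h h' hv, Category.assoc, Category.assoc] at h4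
    exact h4

end K815.TorsOf
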