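import Groth.Agent.StackCount.K815.Frob
import Groth.Agent.StackCount.K815.PtsBC
import Groth.Agent.Fdesc.GeomConn
import Groth.Agent.Sga3B.Pts

/-!
# Twisted Lang theorem on geometric points, and fixed points in exact sequences
-/

set_option autoImplicit false
set_option linter.unusedSectionVars false
universe u
open CategoryTheory Limits MonoidalCategory CartesianMonoidalCategory MonObj GrpObj AlgebraicGeometry

namespace K815.TwLang

open K815.Frob K815.PtsBC GalTw

theorem card_fixed {A B C : Type*} [Group A] [Group B] [Group C] (i : A →* B) (p : B →* C)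
    (hi : Function.Injective i) (hp : Function.Surjective p) (hex : ∀ b, p b = 1 ↔ ∃ a, i a = b)
    (FA : A → A) (FB : B →* B) (FC : C → C) (hA : ∀ a, i (FA a) = FB (i a)) (hC : ∀ b, p (FB b) = FC (p b))
    (lang : ∀ a, ∃ a', a' * (FA a')⁻¹ = a) :
    Nat.card {b // FB b = b} = Nat.card {a // FA a = a} * Nat.card {c // FC c = c} := by
  let SB : Subgroup B := FB.eqLocus (MonoidHom.id B)
  let f : SB →* C := p.comp SB.subtype
  have hf : Set.range f = {c | FC c = c} := by
    ext y
    constructor
    · rintro ⟨⟨b, hb⟩, rfl⟩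
      change FC (p b) = p b
      rw [← hC]
      exact congrArg p hb
    · intro hy
      obtain ⟨x, rfl⟩ := hp y
      obtain ⟨a, ha⟩ := (hex (x⁻¹ * FB x)).mp (by
        rw [map_mul, hC, map_inv, show FC (p x) = p x from hy, inv_mul_cancel])
      obtain ⟨a', ha'⟩ := lang a
      refine ⟨⟨x * i a', ?_⟩, ?_⟩
      · change FB (x * i a') = x * i a'
        rw [map_mul, ← hA]
        have h1 : i a' = i a * i (FA a') := by
          rw [← map_mul, ← ha', inv_mul_cancel_right]
        rw [h1, ha]
        group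
      · change p (x * i a') = p x
        rw [map_mul, (hex (i a')).mpr ⟨a', rfl⟩, _root_.mul_one]
  have hk : Nat.card f.ker = Nat.card {a // FA a = a} := by
    symm
    refine Nat.card_congr (Equiv.ofBijective (fun a => (⟨⟨i a.1, ?_⟩, ?_⟩ : f.ker)) ⟨?_, ?_⟩)
    · change FB (i a.1) = i a.1
      rw [← hA, a.2]
    · change p (i a.1) = 1
      exact (hex _).mpr ⟨a.1, rfl⟩
    · intro a a' h
      apply Subtype.ext
      exact hi (congrArg (fun x : f.ker => ((x : SB) : B)) h)
    · rintro ⟨⟨b, hb⟩, hb'⟩
      obtain ⟨a, rfl⟩ := (hex b).mp hb'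
      refine ⟨⟨a, hi ?_⟩, rfl⟩
      rw [hA]
      exact hb
  have hr : Nat.card f.range = Nat.card {c // FC c = c} := Nat.card_congr (Equiv.setCongr (by
    change Set.range f = _
    exact hf))
  rw [← hk, ← hr, mul_comm, Nat.card_congr (QuotientGroup.quotientKerEquivRange f).toEquiv.symm]
  exact Subgroup.card_eq_card_quotient_mul_card_subgroup f.ker

section conn

variable {k : Type u} [Field k] {K : Type u} [Field K] [Algebra k K]

/-- A connected group scheme over a field is geometrically connected. -/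
theorem connectedSpace_bcK (A : Over (Spec (CommRingCat.of k))) [GrpObj A] [ConnectedSpace A.left] :
    ConnectedSpace (bcK K A).left := by
  have h0 : (η[A] : 𝟙_ (Over (Spec (CommRingCat.of k))) ⟶ A).left ≫ A.hom = 𝟙 _ := Over.w _
  have h1 : GeometricallyConnected ((η[A] : 𝟙_ (Over (Spec (CommRingCat.of k))) ⟶ A).left ≫ A.hom) := by
    rw [h0]
    refine ⟨fun L _ y T fst snd h => ?_⟩
    have : IsIso snd := h.isIso_snd_of_isIso
    have e := Scheme.homeoOfIso (asIso snd)
    exact e.symm.surjective.connectedSpace e.symm.continuous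
  have : ConnectedSpace (𝟙_ (Over (Spec (CommRingCat.of k)))).left :=
    inferInstanceAs (ConnectedSpace (Spec (CommRingCat.of k)))
  have h2 : GeometricallyConnected A.hom :=
    Groth.Agent.Fdesc.GeomConn.geometricallyConnected_of_hom A.hom (η[A] : 𝟙_ (Over (Spec (CommRingCat.of k))) ⟶ A).left
  exact GeometricallyConnected.geometrically_connectedSpace _ _ _
    (IsPullback.of_hasPullback A.hom (SGA7.pt (K := k) K).hom)

end conn

section main

variable {k : Type u} [Field k] [Finite k] {kb : Type u} [Field kb] [Algebra k kb]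

/-- The Frobenius `F × id` of `X_K`. -/
noncomputable abbrev FrK (kb : Type u) [Field kb] [Algebra k kb] (X : Over (Spec (CommRingCat.of k))) :
    bcK kb X ⟶ bcK kb X := (Over.pullback (SGA7.pt (K := k) kb).hom).map (Fr X)

theorem infKill_FrK (X : Over (Spec (CommRingCat.of k))) : Lang.InfKill (FrK kb X) :=
  infKill_bc (infKill_Fr X) _

theorem onPts_FrK {π : kb ≃ₐ[k] kb} (hπ : ∀ x, π x = x ^ Nat.card k) {X : Over (Spec (CommRingCat.of k))}
    (x : SGA7.Pts kb X) : onPts (FrK kb X) x = π • x := by
  rw [onPts_map, pt_comp_Fr' hπ]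

instance isMonHom_innK {K : Type u} [Field K] [Algebra k K] {B : Over (Spec (CommRingCat.of k))} [GrpObj B]
    (b : SGA7.Pts K B) : IsMonHom (innK K b) := by
  apply Groth.Agent.Sga3B.Pts.isMonHom_of_points
  intro T x y
  have h : ∀ z : T ⟶ bcK K B, z ≫ innK K b = (toUnit T ≫ secOfPt K b) * z * (toUnit T ≫ secOfPt K b)⁻¹ := by
    intro z
    rw [innK, AGF.conjBy, MonObj.comp_mul, MonObj.comp_mul, GrpObj.comp_inv, Category.comp_id, ← Category.assoc,
      comp_toUnit]
  rw [h, h, h]
  group

/-- **Twisted Lang theorem**: `N` a smooth connected group scheme over `kb` with a monomorphism into `B_kb`, stable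
under the Frobenius twisted by `b`. -/
theorem exists_pt [IsAlgClosed kb] (B : Over (Spec (CommRingCat.of k))) [GrpObj B]
    (N : Over (Spec (CommRingCat.of kb))) [GrpObj N] [Smooth N.hom] [ConnectedSpace N.left]
    (j : N ⟶ bcK kb B) [IsMonHom j] [Mono j] (b : SGA7.Pts kb B) (F : N ⟶ N)
    (hF : F ≫ j = j ≫ FrK kb B ≫ innK kb b) (y : 𝟙_ (Over (Spec (CommRingCat.of kb))) ⟶ N) :
    ∃ x : 𝟙_ (Over (Spec (CommRingCat.of kb))) ⟶ N, x * (x ≫ F)⁻¹ = y := by
  have h2 : IsMonHom (F ≫ j) := by rw [hF]; infer_instance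
  have h3 : IsMonHom F := by
    constructor
    · rw [← cancel_mono j, Category.assoc, IsMonHom.one_hom (F ≫ j), IsMonHom.one_hom j]
    · rw [← cancel_mono j, Category.assoc, IsMonHom.mul_hom (F ≫ j), Category.assoc, IsMonHom.mul_hom j,
        ← Category.assoc, tensorHom_comp_tensorHom]
  have h4 : Lang.InfKill F := by
    refine Lang.InfKill.of_mono j ?_
    rw [hF]
    exact ((infKill_FrK B).comp (innK kb b)).comp_left j
  exact Lang.exists_pt F h4 y

end main

end K815.TwLang
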